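import Cfsg.Agent.Lib.LocalEven.PUPair.Mdl

/-!
# `⟨Z(H)^G⟩` is a natural module, and what follows for `V` and `Q` inside `H`
-/

set_option autoImplicit false
set_option linter.style.haveILetI false
set_option linter.unusedSectionVars false

open Cfsg Subgroup CfsgLib.LocalEven.Baumann CfsgLib.NoFF
open scoped commutatorElement MatrixGroups

universe u

namespace CfsgLib.LocalEven.PUPair.Mdl

open CfsgLib.PushingUp (Sit)

variable {p : ℕ} [hp : Fact p.Prime] {H : Type u} [Group H] [Finite H] (M : Mdl p H)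

theorem exists_sigma : ∃ σ : Sit p M.n M.G M.F, σ.S = M.P ∧ σ.π.ker = M.K := by
  obtain ⟨f, hfs, hfK⟩ := M.rk.exists_hom
  haveI := Baumann.normal_K M.rk
  exact PushingUp.exists_sit M.P M.rk.uniq M.K M.rk.one_le M.rk.card_field
    ((QuotientGroup.quotientMulEquivOfEq hfK.symm).trans
      (QuotientGroup.quotientKerEquivOfSurjective f hfs))

/-- The normalised situation. -/
noncomputable def σ : Sit p M.n M.G M.F := M.exists_sigma.choose

theorem σ_S : M.σ.S = M.P := M.exists_sigma.choose_spec.1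

theorem mem_σ_S {x : M.G} : x ∈ (M.σ.S : Subgroup M.G) ↔ x ∈ (M.P : Subgroup M.G) := by
  rw [M.σ_S]

theorem f_mem (x : H) : M.f x ∈ (M.σ.S : Subgroup M.G) := by rw [M.σ_S]; exact M.emb.mem x

theorem one_lt_q : 1 < p ^ M.n := Nat.one_lt_pow (by have := M.rk.one_le; omega) hp.out.one_lt

theorem card_P : Nat.card (M.P : Subgroup M.G) = Nat.card H := by
  rw [← M.emb.range, ← Nat.card_congr (MonoidHom.ofInjective M.emb.inj).toEquiv]

theorem card_map (Y : Subgroup H) : Nat.card (Y.map M.f) = Nat.card Y :=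
  card_map_of_injective M.emb.inj

theorem card_H : Nat.card H = p ^ M.n * Nat.card M.Q := by
  rw [← M.card_P, ← M.σ_S, M.σ.card_S, ← M.map_Q, M.card_map]

/-- The zero-th step: `C_H(V) = Q`. -/
theorem cent_V : centralizer (M.V : Set H) = M.Q := by
  refine le_antisymm (fun x hx => inf_centralizer_closure_le M.rk M.nn ⟨M.emb.mem x, ?_⟩) M.Q_le_cent
  intro v hv
  obtain ⟨v, hv', rfl⟩ := M.map_V.ge hv
  rw [← map_mul, ← map_mul, hx v hv']

theorem exists_not_mem_Q : ∃ x : H, x ∉ M.Q := by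
  by_contra h
  push Not at h
  refine Baumann.not_le_pCore M.rk fun y hy => ?_
  obtain ⟨x, rfl⟩ := M.emb.range.ge hy
  exact h x

theorem card_V_le_of_ctx (hC : Ctx p H) : Nat.card M.V ≤ p ^ M.n * Nat.card (center H) := by
  have h := hC.meas M.V
  rw [M.cent_V, M.card_H] at h
  refine Nat.le_of_mul_le_mul_right ?_ (Nat.card_pos (α := M.Q))
  exact h.trans (le_of_eq (by ring))

theorem Vg_comm {a b : M.G} (ha : a ∈ M.Vg) (hb : b ∈ M.Vg) : a * b = b * a :=
  (((closure_zs_le M.rk).trans inf_le_right) hb) a (M.Vg_le ha)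

noncomputable instance instVgComm : CommGroup M.Vg :=
  { (inferInstance : Group M.Vg) with mul_comm := fun a b => Subtype.ext (M.Vg_comm a.2 b.2) }

/-- The action on `⟨Z(H)^G⟩`. -/
noncomputable def φ : M.G →* MulAut M.Vg := MulAut.conjNormal

theorem φ_eq_iff (g : M.G) (v : M.Vg) : M.φ g v = v ↔ g * (v : M.G) = (v : M.G) * g := by
  rw [Subtype.ext_iff, φ, MulAut.conjNormal_apply, mul_inv_eq_iff_eq_mul]

theorem mem_fixp_iff {A : Subgroup M.G} {v : M.Vg} :
    v ∈ fixp M.φ A ↔ ∀ a ∈ A, a * (v : M.G) = (v : M.G) * a :=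
  ⟨fun h a ha => (M.φ_eq_iff a v).1 (h a ha), fun h a ha => (M.φ_eq_iff a v).2 (h a ha)⟩

theorem mem_fixp_S {x : H} (hx : x ∈ M.V) :
    (⟨M.f x, hx⟩ : M.Vg) ∈ fixp M.φ (M.σ.S : Subgroup M.G) ↔ x ∈ center H := by
  rw [M.mem_fixp_iff, mem_center_iff]
  constructor
  · intro h y
    exact M.emb.inj (by rw [map_mul, map_mul]; exact h _ (M.f_mem y))
  · intro h a ha
    rw [M.mem_σ_S, ← M.emb.range] at ha
    obtain ⟨y, rfl⟩ := ha
    rw [← map_mul, ← map_mul, h y]

theorem card_fixp_S : Nat.card (fixp M.φ (M.σ.S : Subgroup M.G)) = Nat.card (center H) := by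
  refine (Nat.card_eq_of_bijective (fun z : center H => (⟨⟨M.f z, M.center_le_V z.2⟩,
    (M.mem_fixp_S (M.center_le_V z.2)).2 z.2⟩ : fixp M.φ (M.σ.S : Subgroup M.G))) ⟨?_, ?_⟩).symm
  · intro a b h
    exact Subtype.ext (M.emb.inj (congrArg
      (fun y : fixp M.φ (M.σ.S : Subgroup M.G) => ((y : M.Vg) : M.G)) h))
  · rintro ⟨⟨v, hv⟩, hvf⟩
    obtain ⟨x, hx, rfl⟩ := M.map_V.ge hv
    exact ⟨⟨x, (M.mem_fixp_S hx).1 hvf⟩, rfl⟩

theorem pCore_le_ker : pCore p M.G ≤ M.φ.ker := fun q hq => by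
  rw [MonoidHom.mem_ker]
  exact MulEquiv.ext fun v =>
    (M.φ_eq_iff q v).2 (((closure_zs_le M.rk).trans inf_le_right) v.2 q hq)

theorem ker_sup_ne_top : M.φ.ker ⊔ (M.σ.S : Subgroup M.G) ≠ ⊤ := by
  intro h
  refine sup_centralizer_ne_top M.rk M.nn (eq_top_iff.2 (h.ge.trans (sup_le_sup ?_ M.σ_S.le)))
  intro c hc v hv
  exact ((M.φ_eq_iff c ⟨v, hv⟩).1 (by rw [MonoidHom.mem_ker.1 hc]; rfl)).symm

theorem exp_Vg (hC : Ctx p H) (w : M.Vg) : w ^ p = 1 := by
  refine Subtype.ext ?_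
  obtain ⟨v, hv⟩ := w
  show v ^ p = 1
  induction hv using closure_induction with
  | mem x hx =>
    obtain ⟨z, hz, hzx⟩ := Group.mem_conjugatesOfSet_iff.1 hx
    obtain ⟨c, rfl⟩ := isConj_iff.1 hzx
    obtain ⟨z, hz', rfl⟩ := M.emb.map_center.ge hz
    rw [conj_pow, ← map_pow, hC.zexp z hz', map_one, mul_one, mul_inv_cancel]
  | one => exact one_pow _
  | mul x y hx hy ihx ihy => rw [Commute.mul_pow (M.Vg_comm hx hy), ihx, ihy, one_mul]
  | inv x _ ih => rw [inv_pow, ih, inv_one]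

/-- `⟨Z(H)^G⟩` is natural modulo fixed points. -/
theorem natural (hC : Ctx p H) :
    ∃ (ρ : M.G →* SL(2, M.F)) (ψ : M.Vg →* Multiplicative (Fin 2 → M.F)),
      Function.Surjective ρ ∧ ρ.ker = M.φ.ker ∧ Function.Surjective ψ ∧ ψ.ker = fixp M.φ ⊤ ∧
      (∀ g w, Multiplicative.toAdd (ψ (M.φ g w)) =
        (ρ g : Matrix (Fin 2) (Fin 2) M.F).mulVec (Multiplicative.toAdd (ψ w))) ∧
      Nat.card M.Vg ≤ p ^ M.n * Nat.card (fixp M.φ (M.σ.S : Subgroup M.G)) ∧
      ∀ s ∈ (M.σ.S : Subgroup M.G), PushingUp.mv (M.φ s) ≤ fixp M.φ M.σ.S := by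
  refine M.σ.natural (M.exp_Vg hC) M.pCore_le_ker M.ker_sup_ne_top
    ⟨PushingUp.U0 M.F, le_rfl, PushingUp.U0_ne_bot M.σ.pos M.σ.card_F, ?_⟩
  rw [Sit.mu, M.σ.pre_U0, PushingUp.card_U0 M.σ.card_F, M.card_fixp_S]
  refine le_trans (le_of_eq ?_) (M.card_V_le_of_ctx hC)
  rw [← M.card_map M.V, M.map_V]

theorem card_V (hC : Ctx p H) : Nat.card M.V = p ^ M.n * Nat.card (center H) := by
  refine le_antisymm (M.card_V_le_of_ctx hC) ?_
  obtain ⟨x, hx⟩ := M.exists_not_mem_Q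
  have h := (CLP.setup M.rk M.emb M.nn).fix x hx
  have hle : center H ≤ centralizer ({x} : Set H) ⊓ M.V :=
    le_inf (fun z hz => mem_centralizer_singleton_iff.2 (mem_center_iff.1 hz x).symm) M.center_le_V
  rw [← CLP.card_mul_relIndex_eq (H := centralizer ({x} : Set H)) (K := M.V), mul_comm]
  exact Nat.mul_le_mul (card_le_of_le hle) h

theorem meas_eq (hC : Ctx p H) :
    Nat.card M.V * Nat.card M.Q = Nat.card H * Nat.card (center H) := by
  rw [M.card_V hC, M.card_H]; ring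

/-- `C_H(Q) = V`. -/
theorem cent_Q (hC : Ctx p H) : centralizer (M.Q : Set H) = M.V := by
  refine (eq_of_le_of_card_ge (le_centralizer_iff.1 M.Q_le_cent) ?_).symm
  have h := hC.meas M.Q
  rw [← M.meas_eq hC, mul_comm (Nat.card M.V)] at h
  exact Nat.le_of_mul_le_mul_left h Nat.card_pos

/-- An element outside `Q` fixes only the centre of `H` in `V`. -/
theorem fpf (hC : Ctx p H) {x v : H} (hx : x ∉ M.Q) (hv : v ∈ M.V) (h : x * v = v * x) :
    v ∈ center H := by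
  have hs := (CLP.setup M.rk M.emb M.nn).fix x hx
  have hle : center H ≤ centralizer ({x} : Set H) ⊓ M.V :=
    le_inf (fun z hz => mem_centralizer_singleton_iff.2 (mem_center_iff.1 hz x).symm) M.center_le_V
  have heq : center H = centralizer ({x} : Set H) ⊓ M.V := by
    refine eq_of_le_of_card_ge hle (Nat.le_of_mul_le_mul_left ?_
      (lt_trans zero_lt_one M.one_lt_q))
    rw [← M.card_V hC, ← CLP.card_mul_relIndex_eq (H := centralizer ({x} : Set H)) (K := M.V),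
      mul_comm]
    exact Nat.mul_le_mul_left _ hs
  exact heq.ge (mem_inf.2 ⟨mem_centralizer_singleton_iff.2 h.symm, hv⟩)

theorem pow_eq_one (hC : Ctx p H) {v : H} (hv : v ∈ M.V) : v ^ p = 1 :=
  M.emb.inj (by
    have := congrArg Subtype.val (M.exp_Vg hC ⟨M.f v, hv⟩)
    simpa [map_pow] using this)

theorem comm_V {v w : H} (hv : v ∈ M.V) (hw : w ∈ M.V) : v * w = w * v :=
  M.emb.inj (by rw [map_mul, map_mul]; exact M.Vg_comm hv hw)

theorem comm_le (hC : Ctx p H) : ⁅M.V, (⊤ : Subgroup H)⁆ ≤ center H := by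
  obtain ⟨ρ, ψ, -, -, -, -, -, -, hquad⟩ := M.natural hC
  rw [commutator_le]
  intro v hv s _
  have hc : ⁅v, s⁆ ∈ M.V :=
    commutator_le_left M.V (⊤ : Subgroup H) (commutator_mem_commutator hv (mem_top s))
  refine (M.mem_fixp_S hc).1 ?_
  have h1 := hquad (M.f s) (M.f_mem s) ⟨⟨M.f v, hv⟩⁻¹, rfl⟩
  set w : M.Vg := ⟨M.f v, hv⟩ with hw
  have h2 : M.f s * (M.f v)⁻¹ * (M.f s)⁻¹ * M.f v =
      ((M.φ (M.f s) w⁻¹ / w⁻¹ : M.Vg) : M.G) := by
    simp [φ, div_eq_mul_inv, MulAut.conjNormal_apply, hw, mul_assoc]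
  have h3 : (⟨M.f ⁅v, s⁆, hc⟩ : M.Vg) = w * (M.φ (M.f s) w⁻¹ / w⁻¹) * w⁻¹ := by
    refine Subtype.ext ?_
    show M.f ⁅v, s⁆ = M.f v * ((M.φ (M.f s) w⁻¹ / w⁻¹ : M.Vg) : M.G) * (M.f v)⁻¹
    rw [← h2, map_commutatorElement, commutatorElement_def]; group
  rw [h3, mul_comm w, mul_inv_cancel_right]
  exact h1

theorem Rv_le_center (hC : Ctx p H) : Rv M.V ≤ center H := M.comm_le hC

/-- No new fixed points modulo the centre of `G`. -/
theorem fpf_mod (hC : Ctx p H) {x v : H} (hx : x ∉ M.Q) (hv : v ∈ M.V)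
    (h : M.f ⁅v, x⁆ ∈ center M.G) : v ∈ center H := by
  classical
  obtain ⟨ρ, ψ, -, hρk, hψs, hψk, hequ, hle, -⟩ := M.natural hC
  have hne : ρ (M.f x) ≠ 1 := by
    intro h1
    have hk : M.f x ∈ M.φ.ker := hρk ▸ MonoidHom.mem_ker.2 h1
    refine hx (M.cent_V.le fun w hw => M.emb.inj ?_)
    rw [map_mul, map_mul]
    exact ((M.φ_eq_iff _ ⟨M.f w, hw⟩).1 (by rw [MonoidHom.mem_ker.1 hk]; rfl)).symm
  let Y : Subgroup M.Vg :=
    { carrier := {w | (ρ (M.f x) : Matrix (Fin 2) (Fin 2) M.F).mulVec (Multiplicative.toAdd (ψ w)) =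
        Multiplicative.toAdd (ψ w)}
      one_mem' := by simp
      mul_mem' := fun {a b} ha hb => by
        simp only [Set.mem_ofPred_eq] at ha hb ⊢
        rw [map_mul, toAdd_mul, Matrix.mulVec_add, ha, hb]
      inv_mem' := fun {a} ha => by
        simp only [Set.mem_ofPred_eq] at ha ⊢
        rw [map_inv, toAdd_inv, Matrix.mulVec_neg, ha] }
  have hY : fixp M.φ (M.σ.S : Subgroup M.G) = Y := by
    refine eq_of_le_of_card_ge (fun w hw => ?_) ?_
    · show _ = _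
      rw [← hequ, hw _ (M.f_mem x)]
    · rw [card_eq_ker_mul_map ψ Y]
      have h1 : Nat.card (Y ⊓ ψ.ker : Subgroup M.Vg) ≤ Nat.card ψ.ker := card_le_of_le inf_le_right
      have h2 : Nat.card (Y.map ψ) ≤ p ^ M.n := by
        rw [← M.rk.card_field]
        refine le_trans ?_ (PushingUp.card_fixed_le hne)
        refine Nat.card_le_card_of_injective
          (fun y : Y.map ψ => ⟨Multiplicative.toAdd y.1, ?_⟩)
          fun a b hab => Subtype.ext (Multiplicative.toAdd.injective ((Subtype.ext_iff.1 hab : _)))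
        obtain ⟨w, hw, hwy⟩ := y.2
        rw [← hwy]
        exact hw
      have h3 : Nat.card M.Vg = Nat.card ψ.ker * (p ^ M.n) ^ 2 := by
        rw [← card_mul_index ψ.ker, index_ker, MonoidHom.range_eq_top.2 hψs, Subgroup.card_top,
          Nat.card_congr Multiplicative.toAdd, Nat.card_fun, Nat.card_fin,
          Nat.card_eq_fintype_card (α := M.F), M.rk.card_field]
      refine (Nat.mul_le_mul h1 h2).trans (Nat.le_of_mul_le_mul_left ?_ (Nat.zero_lt_of_lt M.one_lt_q))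
      refine le_trans (le_of_eq ?_) hle
      rw [h3]; ring
  refine (M.mem_fixp_S hv).1 (hY.ge ?_)
  show _ = _
  rw [← hequ]
  have hxv : M.φ (M.f x) ⟨M.f v, hv⟩ =
      ⟨M.f ⁅v, x⁆, commutator_le_left M.V (⊤ : Subgroup H)
        (commutator_mem_commutator hv (mem_top x))⟩⁻¹ * ⟨M.f v, hv⟩ := by
    refine Subtype.ext ?_
    show ((M.φ (M.f x) ⟨M.f v, hv⟩ : M.Vg) : M.G) = (M.f ⁅v, x⁆)⁻¹ * M.f v
    rw [φ, MulAut.conjNormal_apply, map_commutatorElement, commutatorElement_def]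
    group
  rw [hxv, map_mul, map_inv]
  have h4 : (⟨M.f ⁅v, x⁆, commutator_le_left M.V (⊤ : Subgroup H)
      (commutator_mem_commutator hv (mem_top x))⟩ : M.Vg) ∈ ψ.ker := by
    rw [hψk, M.mem_fixp_iff]
    exact fun a _ => mem_center_iff.1 h a
  rw [MonoidHom.mem_ker.1 h4, inv_one, one_mul]

/-- `[V, H]` is not central in `G`. -/
theorem not_central (hC : Ctx p H) : ¬ (Rv M.V).map M.f ≤ center M.G := by
  intro h
  obtain ⟨x, hx⟩ := M.exists_not_mem_Q
  have h1 : M.V ≤ center H := fun v hv =>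
    M.fpf_mod hC hx hv (h (mem_map_of_mem _ (commutator_mem_commutator hv (mem_top x))))
  have h2 := card_le_of_le h1
  rw [M.card_V hC] at h2
  have := M.one_lt_q
  have h3 : 0 < Nat.card (center H) := Nat.card_pos
  nlinarith

theorem Rv_ne_bot (hC : Ctx p H) : Rv M.V ≠ ⊥ := fun h => M.not_central hC (by
  rw [h, Subgroup.map_bot]; exact bot_le)

end CfsgLib.LocalEven.PUPair.Mdl
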