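import Mathlib.Algebra.Module.LinearMap.End
import Mathlib.Algebra.Module.Submodule.Basic
import Mathlib.Algebra.Field.Defs
import Mathlib.Tactic.Module
import Mathlib.Tactic.Abel

/-!
# A cubic unipotent pair with the braid relation is quadratic (`p ≥ 5`)

`N = x - 1`, `L = k - 1` on a module with a submodule `V`; the pairs `(x, k)` and `(x², k₁)`,
`k₁² = k`, satisfy the braid relation and act quadratically on `V` and on the quotient.
-/

set_option autoImplicit false

namespace CfsgLib.LocalEven.PUPair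

variable {k M : Type*} [Field k] [AddCommGroup M] [Module k M]

/-- The braid relation `(1+N)(1+L)(1+N) = (1+L)(1+N)(1+L)`, expanded and evaluated. -/
def Braid (N L : Module.End k M) : Prop :=
  ∀ v, N v + N (N v) + N (L (N v)) = L v + L (L v) + L (N (L v))

theorem sq_zero_of_braid (N L L₁ : Module.End k M) (h2 : (2 : k) ≠ 0) (h3 : (3 : k) ≠ 0)
    (V : Submodule k M) (hNV : ∀ v ∈ V, N v ∈ V) (hLV : ∀ v ∈ V, L v ∈ V)
    (hN2V : ∀ v ∈ V, N (N v) = 0) (hL2V : ∀ v ∈ V, L (L v) = 0)
    (hN2 : ∀ v, N (N v) ∈ V) (hL2 : ∀ v, L₁ (L₁ v) ∈ V) (hL₁V : ∀ v ∈ V, L₁ v ∈ V)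
    (hNLN : ∀ v, N v + N (L (N v)) ∈ V)
    (hfix : ∀ v ∈ V, N v = 0 → L v = 0 → v = 0)
    (hK : ∀ v, N v ∈ V → N (N v) = 0)
    (hL3 : ∀ v, L₁ (L₁ (L₁ v)) = 0)
    (hLL₁ : ∀ v, L v = (2 : k) • L₁ v + L₁ (L₁ v))
    (hb : Braid N L) (hb₁ : ∀ v, ((2 : k) • N v + N (N v)) +
      ((2 : k) • N ((2 : k) • N v + N (N v)) + N (N ((2 : k) • N v + N (N v)))) +
      ((2 : k) • N (L₁ ((2 : k) • N v + N (N v))) + N (N (L₁ ((2 : k) • N v + N (N v))))) =
      L₁ v + L₁ (L₁ v) + L₁ ((2 : k) • N (L₁ v) + N (N (L₁ v)))) :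
    ∀ v, N (N v) = 0 := by
  have h4 : (4 : k) ≠ 0 := by
    rw [show (4 : k) = 2 * 2 by norm_num]; exact mul_ne_zero h2 h2
  have hLL : ∀ v, L (L v) = (4 : k) • L₁ (L₁ v) := by
    intro v
    simp only [hLL₁, map_add, map_smul, hL3, smul_zero, add_zero, smul_smul]
    norm_num
  have hL₁2V : ∀ v ∈ V, L₁ (L₁ v) = 0 := fun v hv =>
    (smul_eq_zero.1 ((hLL v).symm.trans (hL2V v hv))).resolve_left h4
  -- fixed-point free part
  have hA : ∀ v ∈ V, N v = 0 → N (L v) = -v := by
    intro v hv hNv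
    have h0 := hb v
    simp only [hNv, map_zero, add_zero, hL2V v hv] at h0
    have h1 : v + N (L v) = 0 := hfix _ (V.add_mem hv (hNV _ (hLV _ hv)))
      (by rw [map_add, hNv, hN2V _ (hLV _ hv), add_zero]) (by rw [map_add]; exact h0.symm)
    exact eq_neg_of_add_eq_zero_right h1
  have hB : ∀ v ∈ V, L v = 0 → L (N v) = -v := by
    intro v hv hLv
    have h0 := hb v
    simp only [hLv, map_zero, add_zero, hN2V v hv] at h0
    have h1 : v + L (N v) = 0 := hfix _ (V.add_mem hv (hLV _ (hNV _ hv)))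
      (by rw [map_add]; exact h0) (by rw [map_add, hLv, hL2V _ (hNV _ hv), add_zero])
    exact eq_neg_of_add_eq_zero_right h1
  -- the key step
  have main : ∀ u, N u ∈ V → N (N (L u)) = 0 := by
    intro u hu
    have hn0 : N (N u) = 0 := hK u hu
    set n := N u with hn
    have hAn := hA n hu hn0
    set s := L₁ u with hs
    set m1 := L₁ s with hm1
    have hm1V : m1 ∈ V := hL2 u
    have hL₁m1 : L₁ m1 = 0 := hL3 u
    have hLm1 : L m1 = 0 := by rw [hLL₁, hL₁m1, map_zero, smul_zero, add_zero]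
    set u' := L u with hu'
    have hu's : u' = (2 : k) • s + m1 := by rw [hu', hLL₁]
    have hLu' : L u' = (4 : k) • m1 := by rw [hu', hLL]
    have hBm1 := hB m1 hm1V hLm1
    have e1 : L (N u') = -(u' + (4 : k) • m1) := by
      have h0 := hb u
      rw [← hn, hn0, add_zero, hAn, add_neg_cancel, ← hu', hLu'] at h0
      exact eq_neg_of_add_eq_zero_right h0.symm
    have e2 : N (N u') = (4 : k) • N m1 := by
      have h0 := hb u'
      rw [hLu', map_smul, map_smul, map_smul, hLm1, hBm1, e1, map_neg, map_add, map_smul,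
        smul_zero, add_zero, smul_neg, add_neg_cancel] at h0
      have : N (N u') - (4 : k) • N m1 =
          N u' + N (N u') + -(N u' + (4 : k) • N m1) := by abel
      exact sub_eq_zero.1 (this.trans h0)
    have e3 : L₁ ((2 : k) • N s + N (N s)) = -(s + m1) := by
      have h0 := hb₁ u
      simp only [← hn, hn0, map_add, map_smul, map_zero, smul_zero, add_zero,
        hN2V _ (hL₁V _ hu)] at h0
      have h5 : (2 : k) • (2 : k) • N (L₁ n) = -((2 : k) • n) := by
        have h6 : L n = (2 : k) • L₁ n := by rw [hLL₁, hL₁2V n hu, add_zero]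
        rw [← map_smul N (2 : k) (L₁ n), ← h6, hAn, smul_neg]
      rw [h5, add_neg_cancel] at h0
      rw [map_add, map_smul]
      exact eq_neg_of_add_eq_zero_right h0.symm
    have e4 : (2 : k) • N s + N (N s) = N u' + N m1 := by
      have h0 : (2 : k) • N (N s) = (2 : k) • (2 : k) • N m1 := by
        rw [hu's] at e2
        rw [map_add, map_smul, map_add, map_smul, hN2V m1 hm1V, add_zero] at e2
        rw [e2, smul_smul]
        norm_num
      rw [smul_right_injective M h2 h0, hu's, map_add, map_smul]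
      module
    rw [e4, map_add] at e3
    have e5 : L₁ (L₁ (N u')) = -m1 := by
      refine smul_right_injective M h4 ?_
      show (4 : k) • L₁ (L₁ (N u')) = (4 : k) • -m1
      rw [← hLL, e1, map_neg, map_add, hLu', map_smul, hLm1, smul_zero, add_zero, smul_neg]
    have e6 : (2 : k) • L₁ (N u') = -(u' + (4 : k) • m1) + m1 := by
      rw [← e1, hLL₁ (N u'), e5]; module
    have e7 : (2 : k) • L₁ (N m1) = -m1 := by
      rw [← hBm1, hLL₁ (N m1), hL₁2V _ (hNV _ hm1V), add_zero]
    have h6 : (3 : k) • m1 = 0 := by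
      have h7 := congrArg (fun x => (2 : k) • x) e3
      simp only [smul_add, e6, e7, smul_neg] at h7
      rw [hu's] at h7
      rw [← sub_eq_zero] at h7
      rw [← neg_eq_zero, ← h7]
      module
    have hm0 : m1 = 0 := (smul_eq_zero.1 h6).resolve_left h3
    rw [e2, hm0, map_zero, smul_zero]
  intro w
  have h1 := hK (w + L (N w)) (by rw [map_add]; exact hNLN w)
  rwa [map_add, map_add, main (N w) (hN2 w), add_zero] at h1

end CfsgLib.LocalEven.PUPair
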