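import Cfsg.Agent.Lib.LocalEven.PUPair.Class

/-!
# A pair of characteristic subgroups, or small class and exponent
-/

set_option autoImplicit false
set_option linter.style.haveILetI false
set_option linter.unusedSectionVars false

open Cfsg Subgroup CfsgLib.LocalEven.Baumann
open scoped commutatorElement

universe u

namespace CfsgLib.LocalEven.PUPair

variable {p : ℕ} [hp : Fact p.Prime] {H : Type u} [Group H] [Finite H]

/-- The bad classes. -/
def Bad (p : ℕ) [Fact p.Prime] (H : Type u) [Group H] [Finite H] : Set (Subgroup H) :=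
  {V | ∃ M : Mdl p H, M.V = V ∧ ¬ Mdl.Good M}

theorem not_good_of_bad {M : Mdl p H} (h : M.V ∈ Bad p H) : ¬ Mdl.Good M := by
  obtain ⟨M', hV, hb⟩ := h
  exact fun hg => hb (hg.congr hV)

theorem commute_bad {A : Mdl p H} (h : A.V ∈ Bad p H) (D : Mdl p H) : D.V ≤ A.Q ∧ A.V ≤ D.Q := by
  have h1 : D.V ≤ A.Q := not_not.1 fun hn => not_good_of_bad h (Or.inl ⟨D, hn⟩)
  exact ⟨h1, Mdl.commute_symm h1⟩

/-- `[V, H]` is central outside. -/
def Closed (p : ℕ) [Fact p.Prime] (H : Type u) [Group H] [Finite H] (X : Set (Subgroup H)) : Prop :=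
  ∀ V ∈ X, ∀ M : Mdl p H, M.V ∉ X → (Rv V).map M.f ≤ center M.G

/-- Invariance under the automorphisms of `H`. -/
def Invar (X : Set (Subgroup H)) : Prop := ∀ α : H ≃* H, ∀ V ∈ X, V.comap α.toMonoidHom ∈ X

theorem Invar.map {X : Set (Subgroup H)} (h : Invar X) (α : H ≃* H) {V : Subgroup H} (hV : V ∈ X) :
    V.map α.toMonoidHom ∈ X := by
  rw [Subgroup.map_equiv_eq_comap_symm']; exact h α.symm V hV

theorem bad_closed (hC : Ctx p H) : Closed p H (Bad p H) := by
  rintro V hV M hM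
  obtain ⟨A, rfl, -⟩ := id hV
  exact Mdl.central_of_good hC (not_not.1 fun hn => hM ⟨M, rfl, hn⟩)
    (fun e => hM (e ▸ hV)) (commute_bad hV M).2

theorem bad_invar : Invar (Bad p H) := by
  rintro α V ⟨A, rfl, hA⟩
  refine ⟨A.twist α, rfl, fun hg => hA ((hg.twist α.symm).congr ?_)⟩
  rw [Mdl.twist_V, Mdl.twist_V, Subgroup.comap_comap]
  ext x
  simp

theorem twist_normal_iff (M : Mdl p H) (α : H ≃* H) (T : Subgroup H) :
    ((T.map α.toMonoidHom).map M.f).Normal ↔ (T.map (M.twist α).f).Normal := by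
  rw [Subgroup.map_map]; exact Iff.rfl

open Mdl in
/-- A common normal subgroup for the class gives the pair. -/
theorem pair_of_common (hC : Ctx p H) {X : Set (Subgroup H)} (hne : X.Nonempty)
    (hsub : X ⊆ Bad p H) (hcl : Closed p H X) (hinv : Invar X) {T : Subgroup H}
    (hT : ∀ V ∈ X, V ≤ T) (hTn : ∀ M : Mdl p H, M.V ∈ X → (T.map M.f).Normal) : HasPair p H := by
  classical
  set F : Set (Subgroup H) := {T' | ∀ M : Mdl p H, M.V ∈ X → (T'.map M.f).Normal}
  set Ts := sSup F with hTs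
  have hTsn : ∀ M : Mdl p H, M.V ∈ X → (Ts.map M.f).Normal := by
    intro M hM
    refine ⟨fun x hx g => ?_⟩
    have h1 : (Ts.map M.f).map (MulAut.conj g).toMonoidHom ≤ Ts.map M.f := by
      simp only [hTs, sSup_eq_iSup, Subgroup.map_iSup]
      refine iSup₂_le fun T' hT' => le_iSup₂_of_le T' hT' ?_
      rintro _ ⟨y, hy, rfl⟩
      exact (hT' M hM).conj_mem y hy g
    exact h1 ⟨x, hx, rfl⟩
  have hFmap : ∀ α : H ≃* H, ∀ T' ∈ F, T'.map α.toMonoidHom ∈ F := fun α T' hT' M hM =>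
    (twist_normal_iff M α T').2 (hT' (M.twist α) (hinv α _ hM))
  have hTchar : ∀ α : H ≃* H, Ts.map α.toMonoidHom ≤ Ts := fun α => by
    simp only [hTs, sSup_eq_iSup, Subgroup.map_iSup]
    exact iSup₂_le fun T' hT' => le_iSup₂_of_le _ (hFmap α T' hT') le_rfl
  have hVTs : ∀ V ∈ X, V ≤ Ts := fun V hV => (hT V hV).trans (le_sSup hTn)
  -- the largest large subgroup
  set L : Set (Subgroup H) := {Y | Y ≤ Ts ∧ Large Y}
  set D := sSup L with hD
  have hlargeV : ∀ M : Mdl p H, Large M.V := fun M => by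
    rw [Large, M.cent_V, M.meas_eq hC]
  obtain ⟨V₀, hV₀⟩ := hne
  obtain ⟨M₀, hM₀, -⟩ := hsub hV₀
  have hL₀ : M₀.V ∈ L := ⟨hVTs _ (hM₀ ▸ hV₀), hlargeV M₀⟩
  obtain ⟨Y₀, hY₀, hmax⟩ := (Set.toFinite L).exists_maximal ⟨_, hL₀⟩
  have hDY : D = Y₀ := le_antisymm (sSup_le fun Y hY => le_sup_left.trans
    (hmax (⟨_root_.sup_le hY.1 hY₀.1, hY.2.sup hC hY₀.2⟩ : Y ⊔ Y₀ ∈ L) le_sup_right))
    (le_sSup hY₀)
  have hDl : Large D := hDY ▸ hY₀.2
  have hDTs : D ≤ Ts := sSup_le fun Y hY => hY.1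
  have hDmap : ∀ α : H ≃* H, D.map α.toMonoidHom ≤ D := fun α =>
    le_sSup ⟨(map_mono hDTs).trans (hTchar α), hDl.map α⟩
  have hDchar : D.Characteristic := characteristic_iff_map_le.2 hDmap
  set S₂ := D ⊔ centralizer (D : Set H) with hS₂
  have hS₂char : S₂.Characteristic := characteristic_iff_map_le.2 fun α => by
    rw [hS₂, Subgroup.map_sup, ← centralizer_map_equiv, characteristic_iff_map_eq.1 hDchar α]
  -- `[V, H]` for `V` in the class
  set S₁ := ⨆ V ∈ X, Rv V with hS₁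
  have hS₁c : S₁ ≤ center H := iSup₂_le fun V hV => by
    obtain ⟨A, rfl, -⟩ := hsub hV
    exact A.Rv_le_center hC
  refine ⟨S₁, S₂, fun h => ?_, fun h => ?_, characteristic_iff_map_le.2 fun α => ?_, hS₂char, hS₁c,
    hDl.max_eq hC le_sup_left le_sup_right, fun M => ?_⟩
  · obtain ⟨A, rfl, -⟩ := hsub hV₀
    exact A.Rv_ne_bot hC (le_bot_iff.1 (h ▸ le_iSup₂_of_le A.V hV₀ le_rfl))
  · refine M₀.Rv_ne_bot hC ?_
    have hb : M₀.V ≤ ⊥ := h ▸ (le_sSup hL₀).trans le_sup_left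
    rw [Rv, le_bot_iff.1 hb, commutator_bot_left]
  · simp only [hS₁, Subgroup.map_iSup]
    refine iSup₂_le fun V hV => le_iSup₂_of_le _ (hinv.map α hV) (le_of_eq ?_)
    rw [Rv, Rv, Subgroup.map_commutator, map_top_of_surjective α.toMonoidHom α.surjective]
  by_cases hM : M.V ∈ X
  · right
    have hTQ : Ts ≤ M.Q := M.le_Q_of_normal hC (hTsn M hM)
    have hDQ : D ≤ M.Q := hDTs.trans hTQ
    have hCQ : centralizer (D : Set H) ≤ M.Q := by
      rw [← M.cent_V]
      have hML : M.V ∈ L := ⟨hVTs _ hM, hlargeV M⟩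
      exact centralizer_le (SetLike.coe_subset_coe.2 (le_sSup hML))
    have hCc : ∀ g, M.c g (centralizer (D : Set H)) = M.Q ⊓ centralizer (M.c g D : Set H) :=
      fun g => by rw [← M.c_inf_centralizer g hDQ, inf_eq_right.2 hCQ]
    have hcD : ∀ g, M.c g D ≤ D := by
      intro g
      refine le_sSup ⟨?_, le_trans hDl ?_⟩
      · exact (M.c_mono g hDTs).trans (M.c_of_normal g hTQ (hTsn M hM)).le
      · rw [M.card_c g hDQ, ← M.card_c g hCQ, hCc]
        exact Nat.mul_le_mul_left _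
          (Nat.card_le_card_of_injective _ (Subgroup.inclusion_injective inf_le_right))
    have hcD' : ∀ g, M.c g D = D := fun g =>
      eq_of_le_of_card_ge (hcD g) (M.card_c g hDQ).ge
    refine M.normal_of_c (_root_.sup_le hDQ hCQ) fun g => ?_
    rw [hS₂, M.c_sup g hDQ hCQ, hCc, hcD', inf_eq_right.2 hCQ]
  · left
    have h : S₁.map M.f ≤ center M.G := by
      rw [hS₁, Subgroup.map_iSup]
      refine iSup_le fun V => ?_
      rw [Subgroup.map_iSup]
      exact iSup_le fun hV => hcl V hV M hM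
    exact ⟨fun x hx g => by rw [mem_center_iff.1 (h hx) g, mul_inv_cancel_right]; exact hx⟩

open Mdl in
theorem nonglued (hC : Ctx p H) {X : Set (Subgroup H)} (hsub : X ⊆ Bad p H) (hcl : Closed p H X)
    (hinv : Invar X) (hmin : ∀ Y ⊆ X, Y.Nonempty → Closed p H Y → Invar Y → Y = X)
    (hno : ∀ T : Subgroup H, (∀ V ∈ X, V ≤ T) → ∃ M : Mdl p H, M.V ∈ X ∧ ¬ (T.map M.f).Normal) :
    ∀ V ∈ X, ∃ M K : Mdl p H, M.V = V ∧ K.V ∈ X ∧ ¬ ((K.V ⊔ M.V).map M.f).Normal := by
  set Γ : Set (Subgroup H) := {V | V ∈ X ∧ ∀ M K : Mdl p H, M.V = V → K.V ∈ X →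
    ((K.V ⊔ M.V).map M.f).Normal} with hΓ
  by_cases hΓne : Γ.Nonempty
  · exfalso
    have hΓinv : Invar Γ := by
      intro α V hV
      refine ⟨hinv α V hV.1, fun M K hM hK => ?_⟩
      have hN := hV.2 (M.twist α.symm) (K.twist α.symm) ?_ (hinv α.symm _ hK)
      · rw [twist_V, twist_V, ← Subgroup.map_equiv_eq_comap_symm', ← Subgroup.map_equiv_eq_comap_symm',
          ← Subgroup.map_sup, ← twist_normal_iff] at hN
        convert hN using 3
        rw [Subgroup.map_map]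
        refine ((Subgroup.map_id _).symm.trans ?_)
        congr 1
        ext x
        simp
      · rw [twist_V, hM, Subgroup.comap_comap]
        ext x
        simp
    have hdiff : ¬ (X \ Γ).Nonempty := fun hYne => by
      have h := hmin (X \ Γ) Set.sdiff_subset hYne ?_ ?_
      · obtain ⟨V, hV⟩ := hΓne
        exact (h.ge hV.1).2 hV
      · intro V hV M hM
        by_cases hMX : M.V ∈ X
        · have hMΓ : M.V ∈ Γ := not_not.1 fun hn => hM ⟨hMX, hn⟩
          obtain ⟨A, rfl, -⟩ := hsub hV.1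
          refine central_of_glued hC (fun e => hV.2 (e ▸ hMΓ)) (commute_bad (hsub hV.1) M).2 ?_
          exact hMΓ.2 M A rfl hV.1
        · exact hcl V hV.1 M hMX
      · exact fun α V hV => ⟨hinv α V hV.1, fun h => hV.2 (by
          have h1 := hΓinv.map α h
          rwa [map_comap_eq_self_of_surjective α.surjective] at h1)⟩
    have hall : ∀ V ∈ X, V ∈ Γ := fun V hV => not_not.1 fun hn => hdiff ⟨V, hV, hn⟩
    obtain ⟨M, hM, hMn⟩ := hno (⨆ V ∈ X, V) fun V hV => le_iSup₂_of_le V hV le_rfl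
    refine hMn ⟨fun x hx g => ?_⟩
    have h1 : ((⨆ V ∈ X, V).map M.f).map (MulAut.conj g).toMonoidHom ≤ (⨆ V ∈ X, V).map M.f := by
      rw [Subgroup.map_iSup, Subgroup.map_iSup]
      refine iSup_le fun V => ?_
      rw [Subgroup.map_iSup, Subgroup.map_iSup]
      refine iSup_le fun hV => ?_
      obtain ⟨K, rfl, -⟩ := hsub hV
      have hn := (hall _ hM).2 M K rfl hV
      refine (map_mono (map_mono (le_sup_left (b := M.V)))).trans ?_
      rintro _ ⟨y, hy, rfl⟩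
      have h2 := hn.conj_mem y hy g
      obtain ⟨z, hz, e⟩ := h2
      rw [← Subgroup.map_iSup]
      rw [MulEquiv.coe_toMonoidHom, MulAut.conj_apply, ← e]
      refine ⟨z, ?_, rfl⟩
      exact (_root_.sup_le (le_iSup₂_of_le K.V hV le_rfl) (le_iSup₂_of_le M.V hM le_rfl) :
        K.V ⊔ M.V ≤ ⨆ V ∈ X, V) hz
    exact h1 ⟨x, hx, rfl⟩
  · intro V hV
    by_contra h
    push Not at h
    exact hΓne ⟨V, hV, fun M K hM hK => h M K hM hK⟩

open Mdl in
/-- A bad situation yields the pair. -/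
theorem pair_of_bad (hC : Ctx p H) (h : (Bad p H).Nonempty) : HasPair p H := by
  classical
  set 𝒳 : Set (Set (Subgroup H)) :=
    {X | X ⊆ Bad p H ∧ X.Nonempty ∧ Closed p H X ∧ Invar X}
  obtain ⟨X, ⟨hsub, hne, hcl, hinv⟩, hmin'⟩ :=
    (Set.toFinite 𝒳).exists_minimal ⟨_, subset_rfl, h, bad_closed hC, bad_invar⟩
  have hmin : ∀ Y ⊆ X, Y.Nonempty → Closed p H Y → Invar Y → Y = X := fun Y hY h1 h2 h3 =>
    Set.Subset.antisymm hY (hmin' ⟨hY.trans hsub, h1, h2, h3⟩ hY)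
  by_cases hT : ∃ T : Subgroup H, (∀ V ∈ X, V ≤ T) ∧ ∀ M : Mdl p H, M.V ∈ X → (T.map M.f).Normal
  · obtain ⟨T, h1, h2⟩ := hT
    exact pair_of_common hC hne hsub hcl hinv h1 h2
  exfalso
  push Not at hT
  have hng := nonglued hC hsub hcl hinv hmin hT
  choose rep Kp hrep hKp hngl using hng
  let ι := {V // V ∈ X} ⊕ {T : Subgroup H // ∀ V ∈ X, V ≤ T}
  let M : ι → Mdl p H := Sum.elim (fun V => rep V.1 V.2) fun T => (hT T.1 T.2).choose
  have hMX : ∀ i, (M i).V ∈ X := by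
    rintro (⟨V, hV⟩ | ⟨T, hT'⟩)
    · show (rep V hV).V ∈ X
      rw [hrep]; exact hV
    · exact (hT T hT').choose_spec.1
  obtain ⟨i, j, k, g, hcrit⟩ := exists_crit M hC (fun i k => (commute_bad (hsub (hMX i)) (M k)).1)
    (fun i => ⟨Sum.inl ⟨_, hMX i⟩, Sum.inl ⟨_, hKp _ (hMX i)⟩, hrep _ _, by
      show ¬ (((rep _ _).V ⊔ (rep _ (hMX i)).V).map (rep _ (hMX i)).f).Normal
      rw [hrep _ (hKp _ (hMX i))]
      exact hngl _ (hMX i)⟩)
    (fun T hT' hn => by
      have hall : ∀ V ∈ X, V ≤ T := fun V hV => by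
        have h1 : (rep V hV).V ≤ T := hT' (Sum.inl ⟨V, hV⟩)
        rwa [hrep] at h1
      exact (hT T hall).choose_spec.2 (hn (Sum.inr ⟨T, hall⟩)))
  -- a nonglued situation in the place of `i`
  set A := rep _ (hMX i)
  set K := Kp _ (hMX i)
  have hAV : A.V = (M i).V := hrep _ _
  have hAQ : A.Q = (M i).Q := Q_eq_of_V_eq hAV
  have hAX : A.V ∈ X := hAV ▸ hMX i
  have hc1 : Crit A (M j) (M k) g := ⟨hAV ▸ hcrit.1, hcrit.2.1, hAQ ▸ hcrit.2.2⟩
  obtain ⟨g₀, hg₀⟩ := A.exists_gen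
  have hKA : K.V ≤ A.Q := (commute_bad (hsub hAX) K).1
  have hjA : (M j).V ≤ A.Q := (commute_bad (hsub hAX) (M j)).1
  have hnle : ¬ A.c g₀ K.V ≤ (M j).Q := fun hle => hngl _ (hMX i)
    (shift (crit_sup hC hc1) ((crit_comm hC hc1).trans (A.Rv_le_center hC)) hg₀ hKA hle)
  exact not_good_of_bad (hsub hAX) (Or.inr ⟨A, M j, rfl, M k, K, g, g₀, hc1, ⟨hjA, hKA, hnle⟩,
    (commute_bad (hsub hAX) (M k)).1, (commute_bad (hsub (hMX j)) K).1⟩)

/-- A pair of characteristic subgroups, or small class and exponent. -/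
theorem pair_or_small' [Nontrivial H] (hC : Ctx p H) : HasPair p H ∨ Small p H := by
  by_cases h : (Bad p H).Nonempty
  · exact Or.inl (pair_of_bad hC h)
  · exact pair_or_small hC fun M => not_not.1 fun hn => h ⟨M.V, M, rfl, hn⟩

end CfsgLib.LocalEven.PUPair
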