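import Cfsg.Agent.Lib.LocalEven.PUPair.Unip

/-!
# Mutual pairs: `H` is generated by `Q_A ∩ Q_J` and two conjugates, with small class
-/

set_option autoImplicit false
set_option linter.style.haveILetI false
set_option linter.unusedSectionVars false

open Cfsg Subgroup CfsgLib.NoFF
open scoped commutatorElement

universe u

namespace CfsgLib.LocalEven.PUPair.PD

variable {p : ℕ} [hp : Fact p.Prime] {H : Type u} [Group H] [Finite H] {A J : Mdl p H}
  (d : PD A J)

theorem comm_mem_T {a b : H} (ha : a ∈ d.Hh) (hb : b ∈ d.Hy) : ⁅a, b⁆ ∈ A.Q ⊓ J.Q :=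
  ⟨commutator_le_right ⊤ A.Q (commutator_mem_commutator (mem_top a) (d.Hy_le hb)),
    commutator_le_left J.Q ⊤ (commutator_mem_commutator (d.Hh_le ha) (mem_top b))⟩

theorem comm_Hh_center (hC : Ctx p H) {t a : H} (ht : t ∈ J.Q) (ha : a ∈ d.Hh) :
    ⁅t, a⁆ ∈ center H :=
  A.Rv_le_center hC (Mdl.crit_comm hC d.crit1 (commutator_mem_commutator ht ha))

/-- An element of `Q_J` moved centrally by one element outside `Q_A`. -/
theorem comm_eq_one_of_central (hC : Ctx p H) {t x y : H} (ht : t ∈ J.Q) (hx : x ∈ d.Hh)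
    (hxQ : x ∉ A.Q) (hy : y ∈ d.Hh) (hc : A.f ⁅x, t⁆ ∈ center A.G) : ⁅t, y⁆ = 1 := by
  obtain ⟨v, hv, c, ⟨-, hcc⟩, rfl⟩ :=
    Subgroup.mem_sup_of_normal_left.1 ((Mdl.crit_decomp hC d.crit1).ge ht)
  have hcx : ∀ {z : H}, z ∈ d.Hh → ⁅v * c, z⁆ = ⁅v, z⁆ := by
    intro z hz
    have h1 : z * c = c * z := hcc z hz
    simp only [commutatorElement_def, mul_inv_rev]
    rw [show v * c * z * (c⁻¹ * v⁻¹) * z⁻¹ = v * (c * z) * c⁻¹ * v⁻¹ * z⁻¹ by group, ← h1]
    group
  have hvz : v ∈ center H := by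
    refine A.fpf_mod hC hxQ hv ?_
    rw [← hcx hx, ← commutatorElement_inv x (v * c), map_inv]
    exact inv_mem hc
  rw [hcx hy, comm_eq_one_iff]
  exact (mem_center_iff.1 hvz y).symm

theorem inv_eq_self {x : H} (hx : x ^ 2 = 1) : x⁻¹ = x :=
  inv_eq_of_mul_eq_one_right (by rwa [← pow_two])

/-- The triple commutators vanish for `p ≠ 3`. -/
theorem triple (hC : Ctx p H) (h3 : p ≠ 3) {a b c : H} (ha : a ∈ d.Hh) (hb : b ∈ d.Hy)
    (hc : c ∈ d.Hh) : ⁅⁅a, b⁆, c⁆ = 1 := by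
  set t := ⁅a, b⁆ with ht
  have htT := d.comm_mem_T ha hb
  by_cases haQ : a ∈ A.Q
  · have hcen : t ∈ center H :=
      J.Rv_le_center hC (Mdl.crit_comm hC d.crit2 (commutator_mem_commutator haQ hb))
    exact comm_eq_one_iff.2 (mem_center_iff.1 hcen c).symm
  refine d.comm_eq_one_of_central hC htT.2 ha haQ hc ?_
  by_cases h2 : p = 2
  · subst h2
    have ha2 := d.pow_Hh hC ha
    have hb2 := d.symm.pow_Hh hC hb
    have e1 : a * t * a⁻¹ = t⁻¹ := by
      rw [ht, show a * ⁅a, b⁆ * a⁻¹ = (a * a) * (b * a⁻¹ * b⁻¹ * a⁻¹) by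
        simp only [commutatorElement_def]; group, ← pow_two, ha2, one_mul, inv_eq_self ha2,
        commutatorElement_inv, commutatorElement_def, inv_eq_self ha2]
    have e2 : b * t * b⁻¹ = t⁻¹ := by
      rw [ht, show b * ⁅a, b⁆ * b⁻¹ = (b * a * b * a⁻¹) * (b⁻¹ * b⁻¹) by
        simp only [commutatorElement_def]; group, ← pow_two, inv_pow, hb2, inv_one, mul_one,
        commutatorElement_inv, commutatorElement_def, inv_eq_self hb2]
    have he : ⁅a, t⁆ = ⁅t, b⁆⁻¹ := by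
      rw [commutatorElement_inv, commutatorElement_def a t, commutatorElement_def b t, e1, e2]
    rw [he, map_inv]
    exact inv_mem (d.central_RJ hC (mem_map_of_mem _
      (Mdl.crit_comm hC d.crit2 (commutator_mem_commutator htT.1 hb))))
  · rw [map_commutatorElement, ht, map_commutatorElement]
    refine (d.unip hC h2 h3 (A.f_mem a) (by rw [← map_pow, d.pow_Hh hC ha, map_one])
      (fun h => haQ (A.σ.inf_le_pCore A.ker_sup_ne_top ⟨h, A.f_mem a⟩)) ?_).1
    obtain ⟨k, hk, e⟩ := A.mem_c.1 hb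
    rw [← e]
    exact conj_mem_sec d.h (d.map_U₀_le (mem_map_of_mem _ (mem_sup_right hk)))

/-- The generators. -/
theorem gen (hC : Ctx p H) : Gen p ((d.Hh : Set H) ∪ d.Hy) (A.Q ⊓ J.Q) where
  gen := by
    rw [eq_top_iff]
    set X := closure (((d.Hh : Set H) ∪ d.Hy) ∪ (A.Q ⊓ J.Q : Subgroup H))
    have h1 : d.Hh ≤ X := fun x hx => subset_closure (Or.inl (Or.inl hx))
    have h2 : d.Hy ≤ X := fun x hx => subset_closure (Or.inl (Or.inr hx))
    rw [← Mdl.crit_sup hC d.crit1]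
    refine sup_le h1 fun q hq => ?_
    obtain ⟨y, hy, j, hj, rfl⟩ :=
      Subgroup.mem_sup_of_normal_right.1 ((Mdl.crit_sup hC d.crit2).ge (mem_top q))
    refine mul_mem (h2 hy) (subset_closure (Or.inr ⟨?_, hj⟩))
    simpa using mul_mem (inv_mem (d.Hy_le hy)) hq
  normal := inferInstance
  central := fun t ht a ha => by
    rcases ha with ha | ha
    · exact d.comm_Hh_center hC ht.2 ha
    · exact d.symm.comm_Hh_center hC ht.1 ha
  pow := fun a ha => by
    rcases ha with ha | ha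
    · exact d.pow_Hh hC ha
    · exact d.symm.pow_Hh hC ha
  comm := fun a ha b hb => by
    rcases ha with ha | ha <;> rcases hb with hb | hb
    · rw [comm_eq_one_iff.2 (d.comm_Hh ha hb)]; exact one_mem _
    · exact d.comm_mem_T ha hb
    · rw [← commutatorElement_inv]; exact inv_mem (d.comm_mem_T hb ha)
    · rw [comm_eq_one_iff.2 (d.symm.comm_Hh ha hb)]; exact one_mem _

theorem triple_gen (hC : Ctx p H) (h3 : p ≠ 3) :
    ∀ a ∈ (d.Hh : Set H) ∪ d.Hy, ∀ b ∈ (d.Hh : Set H) ∪ d.Hy, ∀ c ∈ (d.Hh : Set H) ∪ d.Hy,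
      ⁅⁅a, b⁆, c⁆ = 1 := by
  have hinv : ∀ {a b c : H}, ⁅⁅b, a⁆, c⁆ = 1 → ⁅⁅a, b⁆, c⁆ = 1 := fun {a b c} h => by
    rw [← commutatorElement_inv b a, comm_eq_one_iff]
    exact (show Commute ⁅b, a⁆ c from comm_eq_one_iff.1 h).inv_left.eq
  intro a ha b hb c hc
  rcases ha with ha | ha <;> rcases hb with hb | hb
  · rw [comm_eq_one_iff.2 (d.comm_Hh ha hb), commutatorElement_one_left]
  · rcases hc with hc | hc
    · exact d.triple hC h3 ha hb hc
    · exact hinv (d.symm.triple hC h3 hb ha hc)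
  · rcases hc with hc | hc
    · exact hinv (d.triple hC h3 hb ha hc)
    · exact d.symm.triple hC h3 ha hb hc
  · rw [comm_eq_one_iff.2 (d.symm.comm_Hh ha hb), commutatorElement_one_left]

theorem triple_gen_center (hC : Ctx p H) :
    ∀ a ∈ (d.Hh : Set H) ∪ d.Hy, ∀ b ∈ (d.Hh : Set H) ∪ d.Hy, ∀ c ∈ (d.Hh : Set H) ∪ d.Hy,
      ⁅⁅a, b⁆, c⁆ ∈ center H := fun a ha b hb c hc =>
  (d.gen hC).central _ ((d.gen hC).comm a ha b hb) c hc

end CfsgLib.LocalEven.PUPair.PD
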