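import Cfsg.Agent.Lib.LocalEven.PUPair.Twist
import Cfsg.Agent.Lib.LocalEven.PUPair.Triple
import Cfsg.Agent.Lib.Transfer.PGroup

/-!
# All situations good: a pair, or `H` has small class and exponent
-/

set_option autoImplicit false
set_option linter.style.haveILetI false
set_option linter.unusedSectionVars false

open Cfsg Subgroup
open scoped commutatorElement

universe u

namespace CfsgLib.LocalEven.PUPair

variable {p : ℕ} [hp : Fact p.Prime] {H : Type u} [Group H] [Finite H]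

/-- The pair, for the situations in which `Z(H)` is not normal. -/
def HasPair (p : ℕ) [Fact p.Prime] (H : Type u) [Group H] : Prop :=
  ∃ S₁ S₂ : Subgroup H, S₁ ≠ ⊥ ∧ S₂ ≠ ⊥ ∧ S₁.Characteristic ∧ S₂.Characteristic ∧
    S₁ ≤ center H ∧ maxCentralProduct ↥S₂ = maxCentralProduct H ∧
    ∀ M : Mdl p H, (S₁.map M.f).Normal ∨ (S₂.map M.f).Normal

/-- Small class and exponent. -/
def Small (p : ℕ) (H : Type u) [Group H] : Prop :=
  (p = 2 → ⁅⁅(⊤ : Subgroup H), (⊤ : Subgroup H)⁆, (⊤ : Subgroup H)⁆ = ⊥) ∧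
  (p = 3 → ⁅⁅⁅(⊤ : Subgroup H), (⊤ : Subgroup H)⁆, (⊤ : Subgroup H)⁆, (⊤ : Subgroup H)⁆ = ⊥ ∧
    closure (cubeSet (⊤ : Subgroup H)) = ⊥) ∧
  (3 < p → ⁅⁅(⊤ : Subgroup H), (⊤ : Subgroup H)⁆, (⊤ : Subgroup H)⁆ = ⊥ ∧ ∀ x : H, x ^ p = 1)

theorem closure_normal_of_conj {G : Type*} [Group G] {s : Set G}
    (h : ∀ g : G, ∀ x ∈ s, g * x * g⁻¹ ∈ s) : (closure s).Normal := by
  refine ⟨fun x hx g => ?_⟩
  induction hx using closure_induction with
  | mem y hy => exact subset_closure (h g y hy)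
  | one => rw [mul_one, mul_inv_cancel]; exact one_mem _
  | mul a b _ _ ha hb => rw [← conj_mul]; exact mul_mem ha hb
  | inv a _ ha => rw [← conj_inv]; exact inv_mem ha

theorem le_center_of_commutator_eq_bot {X : Subgroup H} (h : ⁅X, (⊤ : Subgroup H)⁆ = ⊥) :
    X ≤ center H := by
  have h1 := commutator_eq_bot_iff_le_centralizer.1 h
  rwa [Subgroup.coe_top, Subgroup.centralizer_univ] at h1

theorem cubeSet_map {G : Type*} [Group G] (f : H →* G) (T : Subgroup H) :
    f '' cubeSet T = cubeSet (T.map f) := by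
  ext y
  constructor
  · rintro ⟨_, ⟨x, hx, rfl⟩ | ⟨a, ha, b, hb, rfl⟩, rfl⟩
    · exact Or.inl ⟨f x, mem_map_of_mem f hx, (map_pow f x 9).symm⟩
    · exact Or.inr ⟨f a, mem_map_of_mem f ha, f b, mem_map_of_mem f hb, by
        rw [map_commutatorElement, map_pow]⟩
  · rintro (⟨_, ⟨x, hx, rfl⟩, rfl⟩ | ⟨_, ⟨a, ha, rfl⟩, _, ⟨b, hb, rfl⟩, rfl⟩)
    · exact ⟨_, Or.inl ⟨x, hx, rfl⟩, map_pow f x 9⟩
    · exact ⟨_, Or.inr ⟨a, ha, b, hb, rfl⟩, by rw [map_commutatorElement, map_pow]⟩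

theorem cubeSet_mono {T T' : Subgroup H} (h : T ≤ T') : cubeSet T ⊆ cubeSet T' := by
  rintro _ (⟨x, hx, rfl⟩ | ⟨a, ha, b, hb, rfl⟩)
  · exact Or.inl ⟨x, h hx, rfl⟩
  · exact Or.inr ⟨a, h ha, b, h hb, rfl⟩

theorem cubeSet_conj {G : Type*} [Group G] {N : Subgroup G} [N.Normal] (g : G) :
    ∀ x ∈ cubeSet N, g * x * g⁻¹ ∈ cubeSet N := by
  rintro _ (⟨x, hx, rfl⟩ | ⟨a, ha, b, hb, rfl⟩)
  · exact Or.inl ⟨_, (inferInstance : N.Normal).conj_mem x hx g, conj_pow⟩
  · refine Or.inr ⟨_, (inferInstance : N.Normal).conj_mem a ha g, _,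
      (inferInstance : N.Normal).conj_mem b hb g, ?_⟩
    rw [conj_pow]; simp only [commutatorElement_def]; group

theorem char_of_map_eq {E : Subgroup H} (h : ∀ α : H ≃* H, E.map α.toMonoidHom = E) :
    E.Characteristic :=
  characteristic_iff_map_eq.2 h

namespace Mdl

theorem good_data (hC : Ctx p H) {A : Mdl p H} (hA : Good A) :
    ∃ (T : Subgroup H) (P : Set H), Gen p P T ∧ T ≤ A.Q ∧
      (∀ a ∈ P, ∀ b ∈ P, ∀ c ∈ P, ⁅⁅a, b⁆, c⁆ ∈ center H) ∧
      (p ≠ 3 → ∀ a ∈ P, ∀ b ∈ P, ∀ c ∈ P, ⁅⁅a, b⁆, c⁆ = 1) ∧ ∃ x ∈ P, x ∉ A.Q := by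
  rcases hA with ⟨D, hD⟩ | ⟨A', J, hV, hP⟩
  · obtain ⟨x, hx, hxQ⟩ := SetLike.not_le_iff_exists.1 hD
    have h1 : ∀ a ∈ (D.V : Set H), ∀ b ∈ (D.V : Set H), ∀ c ∈ (D.V : Set H), ⁅⁅a, b⁆, c⁆ = 1 :=
      fun a ha b hb c _ => by
        rw [comm_eq_one_iff.2 (D.comm_V ha hb), commutatorElement_one_left]
    refine ⟨A.Q, D.V, ⟨?_, inferInstance, fun t ht a ha =>
      one_comm hC hD (commutator_mem_commutator ht ha), fun a ha => D.pow_eq_one hC ha,
      fun a ha b hb => by rw [comm_eq_one_iff.2 (D.comm_V ha hb)]; exact one_mem _⟩, le_rfl,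
      fun a ha b hb c hc => by rw [h1 a ha b hb c hc]; exact one_mem _, fun _ => h1, x, hx, hxQ⟩
    rw [Subgroup.closure_union, Subgroup.closure_eq, Subgroup.closure_eq, one_sup hC hD]
  · obtain ⟨d⟩ := PD.of_pair hP
    obtain ⟨x, hx, hxQ⟩ := SetLike.not_le_iff_exists.1 d.crit1.2.2
    exact ⟨_, _, d.gen hC, inf_le_left.trans (Q_eq_of_V_eq hV).le, d.triple_gen_center hC,
      d.triple_gen hC, x, Or.inl hx, by rwa [← Q_eq_of_V_eq hV]⟩

end Mdl

open Mdl in
theorem pair_of_char [Nontrivial H] (hC : Ctx p H) {E : Subgroup H} (hE : E.Characteristic)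
    (hne : E ≠ ⊥) (hn : ∀ M : Mdl p H, (E.map M.f).Normal)
    (hx : ∀ M : Mdl p H, ∃ x : H, x ∉ M.Q ∧ x ∈ centralizer (E : Set H)) : HasPair p H := by
  haveI : Group.IsNilpotent H := hC.pg.isNilpotent
  haveI : E.Normal := normal_of_characteristic E
  refine ⟨E ⊓ center H, ⊤, Transfer.inf_center_ne_bot hne, ?_, char_of_map_eq fun α => ?_,
    inferInstance, inf_le_right, Large.max_eq hC (Y := ⊤) ?_ le_rfl le_top, fun M => Or.inl ?_⟩
  · exact fun h => not_subsingleton H (Subgroup.subsingleton_iff.1 ⟨fun a b =>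
      le_antisymm (le_top.trans (h.le.trans bot_le)) (le_top.trans (h.le.trans bot_le))⟩)
  · rw [Subgroup.map_inf _ _ _ α.injective, characteristic_iff_map_eq.1 hE α, map_center_equiv]
  · rw [Large, Subgroup.coe_top, Subgroup.centralizer_univ, Subgroup.card_top]
  · have h := M.le_center_of_cent (hn M) (inf_le_left (b := center H)) inf_le_right (hx M)
    exact ⟨fun y hy g => by rw [mem_center_iff.1 (h hy) g, mul_inv_cancel_right]; exact hy⟩

open Mdl in
/-- If every situation is good there is a pair or `H` is small. -/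
theorem pair_or_small [Nontrivial H] (hC : Ctx p H) (hall : ∀ M : Mdl p H, Good M) :
    HasPair p H ∨ Small p H := by
  by_cases hP : HasPair p H
  · exact Or.inl hP
  refine Or.inr ?_
  have L3 : p ≠ 3 → ⁅⁅(⊤ : Subgroup H), (⊤ : Subgroup H)⁆, (⊤ : Subgroup H)⁆ = ⊥ := by
    intro h3
    by_contra hne
    refine hP (pair_of_char hC inferInstance hne (fun M => ?_) fun M => ?_)
    · obtain ⟨T, P, hG, hTQ, -, hP3, -⟩ := good_data hC (hall M)
      have he : ⁅⁅(⊤ : Subgroup H), (⊤ : Subgroup H)⁆, (⊤ : Subgroup H)⁆ = ⁅⁅M.Q, M.Q⁆, M.Q⁆ :=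
        le_antisymm ((hG.lcs_three (hP3 h3)).trans
          (commutator_mono (commutator_mono hTQ hTQ) hTQ))
          (commutator_mono (commutator_mono le_top le_top) le_top)
      rw [he, Subgroup.map_commutator, Subgroup.map_commutator, M.map_Q]
      infer_instance
    · obtain ⟨T, P, hG, hTQ, -, hP3, x, hx, hxQ⟩ := good_data hC (hall M)
      refine ⟨x, hxQ, fun e he => comm_eq_one_iff.1 (hG.derived_fix ?_ hx)⟩
      exact commutator_mono hG.derived_le le_rfl (hG.lcs_three (hP3 h3) he)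
  refine ⟨fun h2 => L3 (by omega), fun h3 => ?_, fun h5 => ?_⟩
  · have L4 : ⁅⁅⁅(⊤ : Subgroup H), (⊤ : Subgroup H)⁆, (⊤ : Subgroup H)⁆, (⊤ : Subgroup H)⁆ = ⊥ := by
      by_contra hne
      refine hP (pair_of_char hC inferInstance hne (fun M => ?_) fun M => ?_)
      · obtain ⟨T, P, hG, hTQ, hPc, -, -⟩ := good_data hC (hall M)
        have he : ⁅⁅⁅(⊤ : Subgroup H), (⊤ : Subgroup H)⁆, (⊤ : Subgroup H)⁆, (⊤ : Subgroup H)⁆ =
            ⁅⁅⁅M.Q, M.Q⁆, M.Q⁆, M.Q⁆ :=
          le_antisymm ((hG.lcs_four hPc).trans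
            (commutator_mono (commutator_mono (commutator_mono hTQ hTQ) hTQ) hTQ))
            (commutator_mono (commutator_mono (commutator_mono le_top le_top) le_top) le_top)
        rw [he, Subgroup.map_commutator, Subgroup.map_commutator, Subgroup.map_commutator, M.map_Q]
        infer_instance
      · obtain ⟨T, P, hG, hTQ, hPc, -, x, hx, hxQ⟩ := good_data hC (hall M)
        refine ⟨x, hxQ, fun e he => comm_eq_one_iff.1 (hG.derived_fix ?_ hx)⟩
        exact commutator_mono ((commutator_mono hG.derived_le le_rfl).trans hG.derived_le) le_rfl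
          (hG.lcs_four hPc he)
    refine ⟨L4, ?_⟩
    subst h3
    have h4 := le_center_of_commutator_eq_bot L4
    by_contra hne
    refine hP (pair_of_char hC (char_of_map_eq fun α => ?_) hne (fun M => ?_) fun M => ?_)
    · rw [MonoidHom.map_closure, cubeSet_map, map_top_of_surjective α.toMonoidHom α.surjective]
    · obtain ⟨T, P, hG, hTQ, -, -, -⟩ := good_data hC (hall M)
      have he : closure (cubeSet (⊤ : Subgroup H)) = closure (cubeSet M.Q) :=
        le_antisymm ((hG.cube_le h4 hC.zexp).trans (closure_mono (cubeSet_mono hTQ)))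
          (closure_mono (cubeSet_mono le_top))
      rw [he, MonoidHom.map_closure, cubeSet_map, M.map_Q]
      exact closure_normal_of_conj fun g => cubeSet_conj g
    · obtain ⟨x, hxQ⟩ := M.exists_not_mem_Q
      refine ⟨x, hxQ, fun e he => (mem_center_iff.1 ((closure_le _).2 ?_ he) x).symm⟩
      rintro _ (⟨t, -, rfl⟩ | ⟨a, -, b, -, rfl⟩)
      · refine mem_center_iff.2 fun y => (comm_eq_one_iff.1 ?_).symm
        show ⁅t ^ 9, y⁆ = 1
        obtain ⟨-, -, h3⟩ := cube_facts h4 hC.zexp t y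
        rw [show 9 = 3 * 3 from rfl, pow_mul,
          comm_pow_left (comm_eq_one_iff.2 (mem_center_iff.1 h3 _)) 3, hC.zexp _ h3]
      · exact (cube_facts h4 hC.zexp a b).2.2
  · have h3' := L3 (by omega)
    have h2 := le_center_of_commutator_eq_bot h3'
    refine ⟨h3', ?_⟩
    have hodd : Odd p := hp.out.odd_of_ne_two (by omega)
    have hbot : closure (Set.range fun x : H => x ^ p) = ⊥ := by
      by_contra hne
      refine hP (pair_of_char hC (char_of_map_eq fun α => ?_) hne (fun M => ?_) fun M => ?_)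
      · rw [MonoidHom.map_closure, ← Set.range_comp]
        refine congrArg Subgroup.closure (Set.ext fun y => ⟨?_, ?_⟩)
        · rintro ⟨x, rfl⟩; exact ⟨α x, (map_pow α x p).symm⟩
        · rintro ⟨x, rfl⟩; exact ⟨α.symm x, by simp⟩
      · obtain ⟨T, P, hG, hTQ, -, -, -⟩ := good_data hC (hall M)
        have he : closure (Set.range fun x : H => x ^ p) = closure ((fun x : H => x ^ p) '' (M.Q : Set H)) :=
          le_antisymm ((hG.pow_le hodd h2 hC.zexp).trans (closure_mono (Set.image_mono hTQ)))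
            (closure_mono (Set.image_subset_range _ _))
        rw [he, MonoidHom.map_closure, Set.image_image]
        simp_rw [map_pow]
        rw [← Set.image_image (fun y : M.G => y ^ p) M.f, ← Subgroup.coe_map, M.map_Q]
        refine closure_normal_of_conj fun g y hy => ?_
        obtain ⟨z, hz, rfl⟩ := hy
        exact ⟨_, M.instQn.conj_mem z hz g, conj_pow⟩
      · obtain ⟨x, hxQ⟩ := M.exists_not_mem_Q
        refine ⟨x, hxQ, fun e he => (mem_center_iff.1 ((closure_le _).2 ?_ he) x).symm⟩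
        rintro _ ⟨t, rfl⟩
        refine mem_center_iff.2 fun y => (comm_eq_one_iff.1 ?_).symm
        have hc := h2 (commutator_mem_commutator (mem_top t) (mem_top y))
        show ⁅t ^ p, y⁆ = 1
        rw [comm_pow_left (comm_eq_one_iff.2 (mem_center_iff.1 hc _)) p, hC.zexp _ hc]
    exact fun x => (mem_bot.1 (hbot.le (subset_closure ⟨x, rfl⟩)))

end CfsgLib.LocalEven.PUPair
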