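import Cfsg.Agent.Lib.PushingUp.Amalgam

/-!
# Critical distance at most two for several groups sharing a Sylow subgroup

A vertex is a pair `(u, i)`, standing for the coset `u Gs_i`; its edges are the `e` in `u Gs_i`
and the vertices `(e, i)`, `(e, k)` are adjacent.  `V` at `(u, i)` is `cj u (V i)`.
-/

set_option autoImplicit false
set_option linter.unusedSectionVars false

namespace CfsgLib.LocalEven.PUPair

open Subgroup CfsgLib.ConjFunctor CfsgLib.PushingUp
open scoped commutatorElement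

/-- The abstract setting. -/
structure Tree (X : Type*) [Group X] (ι : Type*) where
  S : Subgroup X
  Z : Subgroup X
  Gs : ι → Subgroup X
  Q : ι → Subgroup X
  V : ι → Subgroup X
  S_le : ∀ i, S ≤ Gs i
  Q_le : ∀ i, Q i ≤ S
  V_le : ∀ i, V i ≤ Q i
  cV : ∀ i, ∀ g ∈ Gs i, cj g (V i) = V i
  cQ : ∀ i, ∀ g ∈ Gs i, cj g (Q i) = Q i
  Q_cent : ∀ i, Q i ≤ centralizer (V i : Set X)
  cent_le : ∀ i, S ⊓ centralizer (V i : Set X) ≤ Q i
  Z_le : ∀ i, Z ≤ V i
  Z_cent : Z ≤ centralizer (S : Set X)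
  fpf : ∀ i, ∀ s ∈ S, s ∉ Q i → ∀ v ∈ V i, s * v = v * s → v ∈ Z
  card_eq : ∀ i, Nat.card Z * Nat.card S = Nat.card (V i) * Nat.card (Q i)
  quad : ∀ i, ⁅V i, S⁆ ≤ Z
  nc : ∀ i, ¬ ⁅V i, S⁆ ≤ centralizer (Gs i : Set X)
  gen : ∀ i, ∃ g ∈ Gs i, S ⊔ cj g S = Gs i
  one : ∀ i k, V k ≤ Q i
  nonglued : ∀ i, ∃ i' k, V i' = V i ∧ Q i' = Q i ∧
    ∃ g ∈ Gs i', cj g (V k ⊔ V i') ≠ V k ⊔ V i'
  nofix : ∀ T ≤ S, (∀ k, V k ≤ T) → (∀ i, ∀ g ∈ Gs i, cj g T = T) → False
  two : ∀ j k i, ∀ g ∈ Gs j, cj g (V k) ≤ Q i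

namespace Tree

variable {X : Type*} [Group X] {ι : Type*} (σ : Tree X ι)

/-- Distance. -/
def Near : ℕ → X → ι → X → ι → Prop
  | 0, u, i, w, j => i = j ∧ u⁻¹ * w ∈ σ.Gs i
  | d + 1, u, i, w, j => ∃ g ∈ σ.Gs i, ∃ k, Near d (u * g) k w j

/-- `V` at a vertex. -/
def Vv (u : X) (i : ι) : Subgroup X := cj u (σ.V i)

/-- `Q` at a vertex. -/
def Qv (u : X) (i : ι) : Subgroup X := cj u (σ.Q i)

variable {σ}

theorem vtx {u g : X} {i : ι} (hg : g ∈ σ.Gs i) :
    σ.Vv (u * g) i = σ.Vv u i ∧ σ.Qv (u * g) i = σ.Qv u i :=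
  ⟨by rw [Vv, Vv, cj_mul, σ.cV i g hg], by rw [Qv, Qv, cj_mul, σ.cQ i g hg]⟩

theorem vtx' {u w : X} {i : ι} (h : u⁻¹ * w ∈ σ.Gs i) :
    σ.Vv w i = σ.Vv u i ∧ σ.Qv w i = σ.Qv u i := by
  simpa using vtx (u := u) h

theorem Qv_le (u : X) (i : ι) : σ.Qv u i ≤ cj u σ.S := cj_mono (σ.Q_le i)

theorem Vv_le (u : X) (i : ι) : σ.Vv u i ≤ σ.Qv u i := cj_mono (σ.V_le i)

theorem Qv_cent (u : X) (i : ι) : σ.Qv u i ≤ centralizer (σ.Vv u i : Set X) := by
  rw [Qv, Vv, ← Push.cj_centralizer]; exact cj_mono (σ.Q_cent i)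

theorem Zv_le (u : X) (i : ι) : cj u σ.Z ≤ σ.Vv u i := cj_mono (σ.Z_le i)

theorem Zv_cent (u : X) : cj u σ.Z ≤ centralizer ((cj u σ.S : Subgroup X) : Set X) := by
  rw [← Push.cj_centralizer]; exact cj_mono σ.Z_cent

theorem V_normal_S {s : X} (hs : s ∈ σ.S) (i : ι) : cj s (σ.V i) = σ.V i :=
  σ.cV i s (σ.S_le i hs)

theorem Near.trans {a c : ℕ} {u v w : X} {i j l : ι} (h1 : σ.Near a u i v j)
    (h2 : σ.Near c v j w l) : σ.Near (a + c) u i w l := by
  induction a generalizing u i with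
  | zero =>
    obtain ⟨rfl, h1⟩ := h1
    rw [zero_add]
    cases c with
    | zero =>
      obtain ⟨rfl, h2⟩ := h2
      exact ⟨rfl, by rw [show u⁻¹ * w = u⁻¹ * v * (v⁻¹ * w) by group]; exact mul_mem h1 h2⟩
    | succ c =>
      obtain ⟨g, hg, k, h2⟩ := h2
      exact ⟨u⁻¹ * v * g, mul_mem h1 hg, k, by rwa [show u * (u⁻¹ * v * g) = v * g by group]⟩
  | succ a ih =>
    obtain ⟨g, hg, k, h1⟩ := h1
    rw [Nat.succ_add]
    exact ⟨g, hg, k, ih h1⟩

theorem near_zero {u w : X} {i : ι} (h : u⁻¹ * w ∈ σ.Gs i) : σ.Near 0 u i w i := ⟨rfl, h⟩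

theorem near_refl (u : X) (i : ι) : σ.Near 0 u i u i :=
  near_zero (by rw [inv_mul_cancel]; exact one_mem _)

theorem near_share (u : X) (i k : ι) : σ.Near 1 u i u k :=
  ⟨1, one_mem _, k, by rw [mul_one]; exact near_refl u k⟩

theorem Near.symm {d : ℕ} {u w : X} {i j : ι} (h : σ.Near d u i w j) : σ.Near d w j u i := by
  induction d generalizing u i with
  | zero =>
    obtain ⟨rfl, h⟩ := h
    exact near_zero (by simpa using inv_mem h)
  | succ d ih =>
    obtain ⟨g, hg, k, h⟩ := h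
    have h2 : σ.Near 1 (u * g) k u i :=
      ⟨1, one_mem _, i, by rw [mul_one]; exact near_zero (by simpa using hg)⟩
    exact (ih h).trans h2

theorem Near.translate {d : ℕ} {u w : X} {i j : ι} (x : X) (h : σ.Near d u i w j) :
    σ.Near d (x * u) i (x * w) j := by
  induction d generalizing u i with
  | zero => exact ⟨h.1, by simpa [mul_assoc] using h.2⟩
  | succ d ih =>
    obtain ⟨g, hg, k, h⟩ := h
    exact ⟨g, hg, k, by simpa [mul_assoc] using ih h⟩

/-- Translates of `V` within distance two lie in `Q`. -/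
theorem com_two {d : ℕ} (hd : d ≤ 2) {u w : X} {i j : ι} (h : σ.Near d u i w j) :
    σ.Vv w j ≤ σ.Qv u i := by
  rcases Nat.lt_or_ge d 1 with h0 | h0
  · obtain rfl : d = 0 := by omega
    obtain ⟨rfl, h⟩ := h
    rw [(vtx' h).1]; exact Vv_le u i
  rcases Nat.lt_or_ge d 2 with h1 | h1
  · obtain rfl : d = 1 := by omega
    obtain ⟨g, hg, k, rfl, h⟩ := h
    rw [(vtx' h).1, ← (vtx hg).2]
    exact cj_mono (σ.one i k)
  · obtain rfl : d = 2 := by omega
    obtain ⟨g, hg, k, g', hg', l, rfl, h⟩ := h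
    rw [(vtx' h).1, ← (vtx hg).2, Qv, Vv, cj_mul (u * g) g']
    exact cj_mono (σ.two k l i g' hg')

theorem exists_not_le : ∃ d u i w j, σ.Near d u i w j ∧ ¬ σ.Vv w j ≤ σ.Qv u i := by
  by_contra hc
  push Not at hc
  rcases isEmpty_or_nonempty ι with hι | ⟨⟨i₀⟩⟩
  · exact σ.nofix ⊥ bot_le (fun k => isEmptyElim k) fun i => isEmptyElim i
  set T : Subgroup X := ⨆ (w : X) (j : ι) (_ : ∃ i d, σ.Near d 1 i w j), σ.Vv w j with hT
  have hmem : ∀ {w j i d}, σ.Near d 1 i w j → σ.Vv w j ≤ T := fun {w j i d} h =>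
    le_iSup_of_le w (le_iSup_of_le j (le_iSup_of_le ⟨i, d, h⟩ le_rfl))
  refine σ.nofix T ?_ (fun k => ?_) fun i g hg => ?_
  · refine iSup_le fun w => iSup_le fun j => iSup_le fun ⟨i, d, h⟩ => ?_
    refine (hc d 1 i w j h).trans ((Qv_le 1 i).trans_eq (cj_one _))
  · refine le_trans (le_of_eq ?_) (hmem (near_refl 1 k))
    rw [Vv, cj_one]
  · have key : ∀ g ∈ σ.Gs i, cj g T ≤ T := fun g hg => by
      rw [hT, cj_iSup]
      refine iSup_le fun w => ?_
      rw [cj_iSup]
      refine iSup_le fun j => ?_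
      rw [cj_iSup]
      refine iSup_le fun ⟨i', d, h⟩ => ?_
      rw [Vv, ← cj_mul]
      have h2 := h.translate g
      rw [mul_one] at h2
      have h3 : σ.Near 1 1 i g i' := ⟨g, hg, i', by rw [one_mul]; exact near_refl g i'⟩
      exact hmem (h3.trans h2)
    refine le_antisymm (key g hg) ?_
    simpa [cj_cj_inv] using cj_mono (g := g) (key g⁻¹ (inv_mem hg))

variable (σ)

open Classical in
/-- The critical distance. -/
noncomputable def crit : ℕ := Nat.find σ.exists_not_le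

/-- A critical pair. -/
def Critical (u : X) (i : ι) (w : X) (j : ι) : Prop :=
  σ.Near σ.crit u i w j ∧ ¬ σ.Vv w j ≤ σ.Qv u i

variable {σ}

theorem com {d : ℕ} {u w : X} {i j : ι} (hd : d < σ.crit) (h : σ.Near d u i w j) :
    σ.Vv w j ≤ σ.Qv u i := by
  classical
  by_contra hc
  exact Nat.find_min σ.exists_not_le hd ⟨u, i, w, j, h, hc⟩

theorem three_le_crit : 3 ≤ σ.crit := by
  classical
  obtain ⟨u, i, w, j, h, hn⟩ := Nat.find_spec σ.exists_not_le
  by_contra hlt
  exact hn (com_two (by unfold crit at hlt; omega) h)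

theorem exists_critical : ∃ u i w j, σ.Critical u i w j := by
  classical
  exact Nat.find_spec σ.exists_not_le

/-- The edge at `(u, i)` towards a critical partner. -/
theorem Critical.exists_edge {u w : X} {i j : ι} (h : σ.Critical u i w j) :
    ∃ g ∈ σ.Gs i, σ.Vv w j ≤ cj (u * g) σ.S := by
  obtain ⟨hn, -⟩ := h
  have hb := three_le_crit (σ := σ)
  rw [show σ.crit = σ.crit - 1 + 1 by omega] at hn
  obtain ⟨g, hg, k, hn⟩ := hn
  exact ⟨g, hg, (com (by omega) hn).trans (Qv_le _ k)⟩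

theorem Critical.symm {u w : X} {i j : ι} (h : σ.Critical u i w j) : σ.Critical w j u i := by
  refine ⟨h.1.symm, fun hc => h.2 ?_⟩
  obtain ⟨g, hg, hle⟩ := h.exists_edge
  have h1 : σ.Vv w j ≤ centralizer (σ.Vv u i : Set X) :=
    le_centralizer_iff.1 (hc.trans (Qv_cent w j))
  rw [← (vtx (u := u) hg).1, Vv, Vv, ← Push.cj_centralizer] at h1
  rw [← (vtx hg).2]
  refine (le_inf hle h1).trans ?_
  rw [← cj_inf]
  exact cj_mono (σ.cent_le i)

theorem Critical.inf_centralizer_le {u w g : X} {i j : ι} (h : σ.Critical u i w j)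
    (hg : g ∈ σ.Gs j) (hle : σ.Vv u i ≤ cj (w * g) σ.S) :
    σ.Vv w j ⊓ centralizer (σ.Vv u i : Set X) ≤ cj (w * g) σ.Z := by
  obtain ⟨s, hs, hsQ⟩ := SetLike.not_le_iff_exists.1 h.symm.2
  rintro v ⟨hv, hvc⟩
  replace hv : v ∈ σ.Vv w j := hv
  rw [← (vtx hg).1, Vv, mem_cj] at hv
  rw [← (vtx hg).2, Qv, mem_cj] at hsQ
  have hs' := hle hs
  rw [mem_cj] at hs' ⊢
  refine σ.fpf j _ hs' hsQ _ hv ?_
  have h1 := hvc s hs
  calc (w * g)⁻¹ * s * (w * g) * ((w * g)⁻¹ * v * (w * g)) = (w * g)⁻¹ * (s * v) * (w * g) := by group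
    _ = _ := by rw [h1]; group

variable [Finite X]

theorem Critical.card_le {u w : X} {i j : ι} (h : σ.Critical u i w j) :
    Nat.card (σ.V j) ≤ Nat.card (σ.V i) := by
  obtain ⟨g, hg, hle⟩ := h.exists_edge
  obtain ⟨g', hg', hle'⟩ := h.symm.exists_edge
  have h1 : Nat.card (σ.Vv w j ⊓ σ.Qv u i : Subgroup X) ≤ Nat.card σ.Z := by
    rw [← card_cj (w * g') σ.Z]
    exact card_le_of_le ((inf_le_inf_left _ (Qv_cent u i)).trans (h.inf_centralizer_le hg' hle'))
  have h2 := PLocal.card_mul_card_le_sup_inf (σ.Vv w j) (σ.Qv u i)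
  have h3 : Nat.card (σ.Vv w j ⊔ σ.Qv u i : Subgroup X) ≤ Nat.card σ.S := by
    rw [← card_cj (u * g) σ.S]
    exact card_le_of_le (sup_le hle (by rw [← (vtx hg).2]; exact Qv_le _ i))
  rw [Vv, Qv, card_cj, card_cj] at h2
  refine Nat.le_of_mul_le_mul_right ?_ (Nat.card_pos (α := σ.Q i))
  rw [← σ.card_eq i, mul_comm (Nat.card σ.Z)]
  exact h2.trans (Nat.mul_le_mul h3 h1)

theorem Critical.edge_eq {u w g : X} {i j : ι} (h : σ.Critical u i w j) (hg : g ∈ σ.Gs i)
    (hle : σ.Vv w j ≤ cj (u * g) σ.S) : σ.Vv w j ⊔ σ.Qv u i = cj (u * g) σ.S := by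
  refine eq_of_le_of_card_ge (sup_le hle (by rw [← (vtx hg).2]; exact Qv_le _ i)) ?_
  obtain ⟨g', hg', hle'⟩ := h.symm.exists_edge
  have h1 : Nat.card (σ.Vv w j ⊓ σ.Qv u i : Subgroup X) ≤ Nat.card σ.Z := by
    rw [← card_cj (w * g') σ.Z]
    exact card_le_of_le ((inf_le_inf_left _ (Qv_cent u i)).trans (h.inf_centralizer_le hg' hle'))
  have h2 := PLocal.card_mul_card_le_sup_inf (σ.Vv w j) (σ.Qv u i)
  rw [Vv, Qv, card_cj, card_cj] at h2
  rw [card_cj]
  refine Nat.le_of_mul_le_mul_left ?_ (Nat.card_pos (α := σ.Z))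
  rw [σ.card_eq i]
  refine (Nat.mul_le_mul_right _ h.symm.card_le).trans (h2.trans ?_)
  rw [mul_comm]
  exact Nat.mul_le_mul_right _ h1

theorem Critical.commutator_eq {u w g : X} {i j : ι} (h : σ.Critical u i w j) (hg : g ∈ σ.Gs i)
    (hle : σ.Vv w j ≤ cj (u * g) σ.S) :
    ⁅σ.Vv u i, cj (u * g) σ.S⁆ = ⁅σ.Vv u i, σ.Vv w j⁆ := by
  refine le_antisymm (commutator_le.2 fun v hv e he => ?_) (commutator_mono le_rfl hle)
  have hn : σ.Vv w j ≤ normalizer ((σ.Qv u i : Subgroup X) : Set X) := by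
    refine hle.trans fun x hx => cj_eq_self_iff.1 ?_
    rw [mem_cj] at hx
    rw [← (vtx hg).2, Qv, ← cj_mul,
      show x * (u * g) = u * g * ((u * g)⁻¹ * x * (u * g)) by group, cj_mul,
      σ.cQ i _ (σ.S_le i hx)]
  rw [← h.edge_eq hg hle] at he
  rw [← SetLike.mem_coe, coe_mul_of_left_le_normalizer_right _ _ hn] at he
  obtain ⟨a, ha, q, hq, rfl⟩ := Set.mem_mul.1 he
  have h1 : v * q = q * v := Qv_cent u i hq v hv
  rw [show ⁅v, a * q⁆ = ⁅v, a⁆ from by
    rw [commutatorElement_def, commutatorElement_def]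
    calc v * (a * q) * v⁻¹ * (a * q)⁻¹ = v * a * (q * v⁻¹ * q⁻¹) * a⁻¹ := by group
      _ = v * a * (q * (q * v)⁻¹) * a⁻¹ := by group
      _ = v * a * v⁻¹ * a⁻¹ := by rw [← h1]; group]
  exact commutator_mem_commutator hv ha

theorem commutator_vtx {u g : X} {i : ι} (hg : g ∈ σ.Gs i) :
    ⁅σ.Vv u i, cj (u * g) σ.S⁆ = cj (u * g) ⁅σ.V i, σ.S⁆ := by
  rw [← (vtx (u := u) hg).1, Vv, cj_commutator]

/-- The shift: extend at the edge `e`, or the neighbours glue. -/
theorem shift {e w : X} {i j : ι} (k : ι) (h : σ.Critical e i w j) {m : X} {t : ι}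
    (hem : σ.Near (σ.crit - 1) e i m t) (hmw : σ.Near 1 m t w j) (hle : σ.Vv w j ≤ cj e σ.S) :
    (∃ g ∈ σ.Gs i, ¬ σ.Vv (e * g) k ≤ σ.Qv m t ∧
        cj (e * g) σ.S ⊔ cj e σ.S = cj e (σ.Gs i)) ∨
      ∀ g ∈ σ.Gs i, cj g (σ.V k ⊔ σ.V i) = σ.V k ⊔ σ.V i := by
  by_cases hex : ∃ g ∈ σ.Gs i, ¬ σ.Vv (e * g) k ≤ σ.Qv m t ∧
      cj (e * g) σ.S ⊔ cj e σ.S = cj e (σ.Gs i)
  · exact Or.inl hex
  right
  push Not at hex
  have hb := three_le_crit (σ := σ)
  obtain ⟨g, hg, hgen⟩ := σ.gen i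
  have hgen' : cj (e * g) σ.S ⊔ cj e σ.S = cj e (σ.Gs i) := by
    rw [sup_comm, cj_mul, ← cj_sup, hgen]
  have hQm : σ.Vv (e * g) k ≤ σ.Qv m t := by
    by_contra hc
    exact hex g hg hc hgen'
  set P := σ.V k ⊔ σ.V i
  have hP : cj (e * g) P = σ.Vv (e * g) k ⊔ σ.Vv e i := by
    rw [cj_sup, ← Vv, ← Vv, (vtx hg).1]
  -- the edge between `m` and `w`
  obtain ⟨g₁, hg₁, l, hl, hmw'⟩ := hmw.symm
  subst hl
  have hVu : σ.Vv e i ≤ σ.Qv m l := com (by omega) hem.symm
  have hQS : σ.Qv m l ≤ cj (w * g₁) σ.S := by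
    rw [(vtx' hmw').2]
    exact Qv_le _ l
  have hu' : σ.Vv e i ≤ cj (w * g₁) σ.S := hVu.trans hQS
  have hle' : σ.Vv w j ≤ cj (e * 1) σ.S := by rwa [mul_one]
  have hc : ⁅σ.Vv w j, cj (e * g) P⁆ ≤ cj (e * g) P := by
    refine le_trans (le_trans (commutator_mono le_rfl
      ((hP.le.trans (sup_le hQm hVu)).trans hQS)) ?_) ((le_sup_right).trans hP.ge)
    rw [h.symm.commutator_eq hg₁ hu', commutator_comm, ← h.commutator_eq (one_mem _) hle',
      commutator_vtx (one_mem _), mul_one]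
    exact cj_mono ((σ.quad i).trans (σ.Z_le i))
  have hS : ∀ x : X, cj x σ.S ≤ normalizer (cj x P : Set X) := fun x y hy => by
    rw [← cj_eq_self_iff, ← cj_mul]
    rw [mem_cj] at hy
    rw [show y * x = x * (x⁻¹ * y * x) by group, cj_mul]
    congr 1
    rw [cj_sup, V_normal_S hy, V_normal_S hy]
  have hN : cj e (σ.Gs i) ≤ normalizer (cj (e * g) P : Set X) := by
    rw [← hgen']
    refine sup_le (hS _) ?_
    have hedge := h.edge_eq (one_mem _) hle'
    rw [mul_one] at hedge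
    rw [← hedge]
    refine sup_le (fun x hx => mem_normalizer_of_commutator' hx hc) ?_
    rw [← (vtx hg).2]
    exact (Qv_le _ i).trans (hS _)
  have hst : ∀ y ∈ cj e (σ.Gs i), cj y (cj (e * g) P) = cj (e * g) P := fun y hy =>
    cj_eq_self_iff.2 (hN hy)
  intro y hy
  have h1 : ∀ z ∈ σ.Gs i, cj z (cj g P) = cj g P := fun z hz => by
    refine cj_inj (g := e) ?_
    have h2 := hst _ (conj_mem_cj (g := e) hz)
    rw [← cj_mul, show e * z * e⁻¹ * (e * g) = e * (z * g) by group, cj_mul e, cj_mul e] at h2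
    rwa [cj_mul z g] at h2
  have h2 := h1 g⁻¹ (inv_mem hg)
  rw [cj_inv_cj] at h2
  rw [h2]
  exact h1 y hy
where
  /-- A subgroup normalised through commutators. -/
  mem_normalizer_of_commutator' {A B : Subgroup X} {x : X} (hx : x ∈ A) (h : ⁅A, B⁆ ≤ B) :
      x ∈ normalizer (B : Set X) := by
    refine mem_normalizer_fintype fun b hb => ?_
    have h1 := h (commutator_mem_commutator hx hb)
    show x * b * x⁻¹ ∈ B
    rw [show x * b * x⁻¹ = ⁅x, b⁆ * b by rw [commutatorElement_def, inv_mul_cancel_right]]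
    exact mul_mem h1 hb

/-- A path: vertex `k` is `(e k, t k)`, with edges `e k` and `e (k+1)`. -/
def IsPath (σ : Tree X ι) (e : ℕ → X) (t : ℕ → ι) (L : ℕ) : Prop :=
  ∀ i < L, (e i)⁻¹ * e (i + 1) ∈ σ.Gs (t i)

theorem near_of_path {e : ℕ → X} {t : ℕ → ι} {L : ℕ} (hx : IsPath σ e t L) :
    ∀ d a, a + d ≤ L → σ.Near d (e a) (t a) (e (a + d)) (t (a + d)) := by
  intro d
  induction d with
  | zero => exact fun a _ => near_refl _ _
  | succ d ih =>
    intro a ha
    refine ⟨(e a)⁻¹ * e (a + 1), hx a (by omega), t (a + 1), ?_⟩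
    rw [mul_inv_cancel_left, show a + (d + 1) = a + 1 + d by omega]
    exact ih (a + 1) (by omega)

theorem exists_path : ∀ {d : ℕ} {u w : X} {i j : ι}, σ.Near d u i w j → ∃ e t,
    IsPath σ e t d ∧ e 0 = u ∧ t 0 = i ∧ t d = j ∧ σ.Vv (e d) j = σ.Vv w j
  | 0, u, w, i, j, h => ⟨fun _ => u, fun _ => i, fun a ha => absurd ha (Nat.not_lt_zero a), rfl,
      rfl, h.1, by rw [← h.1, (vtx' h.2).1]⟩
  | d + 1, u, w, i, j, ⟨g, hg, k, h⟩ => by
    obtain ⟨e, t, hx, he0, ht0, htd, hV⟩ := exists_path h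
    refine ⟨fun a => match a with | 0 => u | a + 1 => e a,
      fun a => match a with | 0 => i | a + 1 => t a, fun a ha => ?_, rfl, rfl, htd, hV⟩
    match a with
    | 0 => show u⁻¹ * e 0 ∈ σ.Gs i; rw [he0]; simpa using hg
    | a + 1 => exact hx a (by omega)

theorem exists_long_path (L : ℕ) :
    ∃ (e : ℕ → X) (t : ℕ → ι), IsPath σ e t (σ.crit + L) ∧
      (∀ a ≤ L, σ.Critical (e (a + σ.crit)) (t (a + σ.crit)) (e a) (t a)) ∧
      (0 < L → cj (e (σ.crit + 1)) σ.S ⊔ cj (e σ.crit) σ.S = cj (e σ.crit) (σ.Gs (t σ.crit))) := by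
  classical
  have hb := three_le_crit (σ := σ)
  induction L with
  | zero =>
    obtain ⟨u, i, w, j, h⟩ := σ.exists_critical
    obtain ⟨e, t, hx, he0, ht0, htd, hV⟩ := exists_path h.1
    refine ⟨e, t, hx, fun a ha => ?_, fun h => absurd h (lt_irrefl 0)⟩
    obtain rfl : a = 0 := by omega
    rw [zero_add]
    refine Critical.symm ⟨by simpa using near_of_path hx σ.crit 0 (by omega), ?_⟩
    rw [he0, ht0, htd, hV]
    exact h.2
  | succ L ih =>
    obtain ⟨e, t, hx, hcr, hg1⟩ := ih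
    set K := L + σ.crit with hK
    obtain ⟨i', k, hVi, hQi, g₀, hg₀, hne⟩ := σ.nonglued (t K)
    set t' := Function.update t K i' with ht'
    have hup : ∀ a, a ≠ K → t' a = t a := fun a ha => Function.update_of_ne ha _ _
    have htK : t' K = i' := Function.update_self _ _ _
    have hx' : IsPath σ e t' (σ.crit + L) := fun a ha => by
      rw [hup a (by omega)]; exact hx a ha
    have hcrit' : σ.Critical (e K) i' (e L) (t L) := by
      refine ⟨?_, fun hle => (hcr L le_rfl).2 (hle.trans (le_of_eq ?_))⟩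
      · have := (near_of_path hx' σ.crit L (by omega)).symm
        rwa [hup L (by omega), ← hK, htK] at this
      · rw [Qv, Qv, hQi]
    have hum : σ.Near (σ.crit - 1) (e K) i' (e (L + 1)) (t (L + 1)) := by
      have := (near_of_path hx' (σ.crit - 1) (L + 1) (by omega)).symm
      rwa [hup (L + 1) (by omega), show L + 1 + (σ.crit - 1) = K by omega, htK] at this
    have hmw : σ.Near 1 (e (L + 1)) (t (L + 1)) (e L) (t L) := by
      have := (near_of_path hx' 1 L (by omega)).symm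
      rwa [hup L (by omega), hup (L + 1) (by omega)] at this
    have hle : σ.Vv (e L) (t L) ≤ cj (e K) σ.S := by
      have h1 := com (σ := σ) (by omega) (near_of_path hx (σ.crit - 1) L (by omega)).symm
      rw [show L + (σ.crit - 1) = K - 1 by omega] at h1
      have h2 := hx (K - 1) (by omega)
      rw [show K - 1 + 1 = K by omega] at h2
      rw [← (vtx' h2).2] at h1
      exact h1.trans (Qv_le _ _)
    rcases shift k hcrit' hum hmw hle with ⟨g, hg, hnew, hgen⟩ | hst
    swap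
    · exact absurd (hst g₀ hg₀) hne
    set e' := Function.update e (K + 1) (e K * g) with he'
    set t'' := Function.update t' (K + 1) k with ht''
    have hea : ∀ a, a ≤ K → e' a = e a := fun a ha => Function.update_of_ne (by omega) _ _
    have hta : ∀ a, a ≤ K → t'' a = t' a := fun a ha => Function.update_of_ne (by omega) _ _
    refine ⟨e', t'', fun a ha => ?_, fun a ha => ?_, fun _ => ?_⟩
    · rcases Nat.lt_or_ge a K with h1 | h1
      · rw [hea a h1.le, hea (a + 1) h1, hta a h1.le, hup a (by omega)]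
        exact hx a (by omega)
      · obtain rfl : a = K := by omega
        rw [hea _ le_rfl, he', Function.update_self, hta _ le_rfl, htK, inv_mul_cancel_left]
        exact hg
    · rcases Nat.lt_or_ge a (L + 1) with h1 | h1
      · rw [hea a (by omega), hea (a + σ.crit) (by omega), hta a (by omega),
          hta (a + σ.crit) (by omega), hup a (by omega)]
        rcases Nat.lt_or_ge a L with h2 | h2
        · rw [hup (a + σ.crit) (by omega)]; exact hcr a h2.le
        · obtain rfl : a = L := by omega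
          rw [← hK, htK]; exact hcrit'
      · obtain rfl : a = L + 1 := by omega
        rw [show L + 1 + σ.crit = K + 1 by omega, he', ht'', Function.update_self,
          Function.update_self, Function.update_of_ne (by omega), Function.update_of_ne (by omega),
          hup (L + 1) (by omega)]
        refine (Critical.symm ⟨?_, hnew⟩)
        have h1 : σ.Near 1 (e K) i' (e K * g) k := ⟨g, hg, k, near_refl _ _⟩
        rw [show σ.crit = σ.crit - 1 + 1 by omega]
        exact hum.symm.trans h1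
    · rw [hea σ.crit (by omega), hta σ.crit (by omega)]
      rcases Nat.eq_zero_or_pos L with rfl | hL
      · rw [show σ.crit + 1 = K + 1 by omega, he', Function.update_self,
          show σ.crit = K by omega, htK]
        exact hgen
      · rw [hea (σ.crit + 1) (by omega), hup σ.crit (by omega)]
        exact hg1 hL

/-- The setting is impossible. -/
theorem absurd_tree (σ : Tree X ι) : False := by
  obtain ⟨e, t, hx, hcr, hgen⟩ := exists_long_path (σ := σ) σ.crit
  have hb := three_le_crit (σ := σ)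
  set b := σ.crit with hbdef
  -- the vertex `b - 1`
  have hcr1 : σ.Critical (e (b - 1)) (t (b - 1)) (e (2 * b - 1)) (t (2 * b - 1)) := by
    have h := hcr (b - 1) (by omega)
    rw [show b - 1 + b = 2 * b - 1 by omega] at h
    exact h.symm
  have hedge : (e (b - 1))⁻¹ * e b ∈ σ.Gs (t (b - 1)) := by
    have := hx (b - 1) (by omega)
    rwa [show b - 1 + 1 = b by omega] at this
  have hcr1' : σ.Critical (e b) (t (b - 1)) (e (2 * b - 1)) (t (2 * b - 1)) := by
    refine ⟨?_, ?_⟩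
    · have := (near_zero (σ := σ) (u := e b) (w := e (b - 1)) (i := t (b - 1))
        (by simpa using inv_mem hedge)).trans hcr1.1
      rwa [zero_add] at this
    · rw [(vtx' hedge).2]; exact hcr1.2
  have hum : σ.Near (b - 1) (e b) (t (b - 1)) (e (2 * b - 2)) (t (2 * b - 2)) := by
    have h := near_of_path hx (b - 1) (b - 1) (by omega)
    rw [show b - 1 + (b - 1) = 2 * b - 2 by omega] at h
    have := (near_zero (σ := σ) (u := e b) (w := e (b - 1)) (i := t (b - 1))
      (by simpa using inv_mem hedge)).trans h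
    rwa [zero_add] at this
  have hmw : σ.Near 1 (e (2 * b - 2)) (t (2 * b - 2)) (e (2 * b - 1)) (t (2 * b - 1)) := by
    have h := near_of_path hx 1 (2 * b - 2) (by omega)
    rwa [show 2 * b - 2 + 1 = 2 * b - 1 by omega] at h
  have hle : σ.Vv (e (2 * b - 1)) (t (2 * b - 1)) ≤ cj (e b) σ.S := by
    have h := near_of_path hx (b - 1) b (by omega)
    rw [show b + (b - 1) = 2 * b - 1 by omega] at h
    exact (com (by omega) h).trans (Qv_le _ _)
  have hcom : ∀ i j, σ.Near 1 (e i) (t i) (e j) (t j) ∨ σ.Near 2 (e i) (t i) (e j) (t j) →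
      σ.Vv (e j) (t j) ≤ centralizer (σ.Vv (e i) (t i) : Set X) := by
    rintro i j (h | h)
    · exact (com (by omega) h).trans (Qv_cent _ _)
    · exact (com (by omega) h).trans (Qv_cent _ _)
  rcases shift (t b) hcr1' hum hmw hle with ⟨g, hg, hne, hgen'⟩ | hst
  · set δ := e b * g with hδ
    have hcrδ : σ.Critical (e (2 * b - 2)) (t (2 * b - 2)) δ (t b) := by
      refine ⟨?_, hne⟩
      have h1 : σ.Near 1 (e b) (t (b - 1)) δ (t b) := ⟨g, hg, t b, near_refl _ _⟩
      have h2 := hum.symm.trans h1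
      rwa [show b - 1 + 1 = b by omega] at h2
    have hle' : σ.Vv (e (2 * b - 2)) (t (2 * b - 2)) ≤ cj (δ * 1) σ.S := by
      rw [mul_one]
      refine (com (by omega) hum).trans ?_
      rw [← (vtx hg).2]
      exact Qv_le _ _
    set R := cj δ ⁅σ.V (t b), σ.S⁆ with hRdef
    have hR : ⁅σ.Vv δ (t b), σ.Vv (e (2 * b - 2)) (t (2 * b - 2))⁆ = R := by
      rw [← hcrδ.symm.commutator_eq (one_mem _) hle', commutator_vtx (one_mem _), mul_one]
    have hRZ : R ≤ cj δ σ.Z := cj_mono (σ.quad _)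
    have hRm : R ≤ σ.Vv (e (2 * b - 2)) (t (2 * b - 2)) := by
      obtain ⟨g₂, hg₂, hle₂⟩ := hcrδ.exists_edge
      rw [← hR, commutator_comm, ← hcrδ.commutator_eq hg₂ hle₂, commutator_vtx hg₂,
        ← (vtx hg₂).1, Vv]
      exact cj_mono ((σ.quad _).trans (σ.Z_le _))
    have hRa : R ≤ σ.Vv (e b) (t (b - 1)) := by
      rw [← (vtx hg).1]
      exact hRZ.trans (Zv_le _ _)
    have hGa : R ≤ centralizer ((cj (e b) (σ.Gs (t (b - 1))) : Subgroup X) : Set X) := by
      rw [le_centralizer_iff, ← hgen']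
      refine sup_le (le_centralizer_iff.1 (hRZ.trans (Zv_cent δ))) ?_
      have := hcr1'.edge_eq (g := 1) (one_mem _) (by rwa [mul_one])
      rw [mul_one] at this
      rw [← this]
      refine sup_le ?_ ?_
      · exact (hcom _ _ (Or.inl hmw)).trans (centralizer_le (SetLike.coe_subset_coe.2 hRm))
      · exact (Qv_cent _ _).trans (centralizer_le (SetLike.coe_subset_coe.2 hRa))
    have hρ : cj (e b) ⁅σ.V (t b), σ.S⁆ = R := by
      rw [show e b = (e b * g⁻¹ * (e b)⁻¹) * δ by rw [hδ]; group, cj_mul, ← hRdef]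
      refine (cj_congr (h := 1) fun r hr => ?_).trans (cj_one _)
      rw [hGa hr _ (conj_mem_cj (inv_mem hg))]
      group
    have hRb : R ≤ centralizer ((cj (e b) (σ.Gs (t b)) : Subgroup X) : Set X) := by
      rw [le_centralizer_iff, ← hgen (by omega)]
      refine sup_le ?_ ?_
      · have hg₂ := hx b (by omega)
        have hle₂ : σ.Vv (e (2 * b)) (t (2 * b)) ≤ cj (e (b + 1)) σ.S := by
          have h := near_of_path hx (b - 1) (b + 1) (by omega)
          rw [show b + 1 + (b - 1) = 2 * b by omega] at h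
          exact (com (by omega) h).trans (Qv_le _ _)
        have h2b : σ.Critical (e b) (t b) (e (2 * b)) (t (2 * b)) := by
          have h := hcr b le_rfl
          rw [show b + b = 2 * b by omega] at h
          exact h.symm
        have := h2b.edge_eq (g := (e b)⁻¹ * e (b + 1)) hg₂ (by rwa [mul_inv_cancel_left])
        rw [mul_inv_cancel_left] at this
        rw [← this]
        refine sup_le ?_ ?_
        · have h := near_of_path hx 2 (2 * b - 2) (by omega)
          rw [show 2 * b - 2 + 2 = 2 * b by omega] at h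
          exact (hcom _ _ (Or.inr h)).trans (centralizer_le (SetLike.coe_subset_coe.2 hRm))
        · refine (Qv_cent _ _).trans (centralizer_le (SetLike.coe_subset_coe.2 ?_))
          rw [← hρ]
          exact cj_mono ((σ.quad _).trans (σ.Z_le _))
      · rw [le_centralizer_iff, ← hρ]
        exact (cj_mono (σ.quad _)).trans (Zv_cent _)
    refine σ.nc (t b) fun r hr => ?_
    have h1 := hRb (hρ ▸ conj_mem_cj (g := e b) hr)
    rw [← Push.cj_centralizer] at h1
    exact conj_mem_cj_iff.1 h1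
  · have h0 := (hcr 0 (by omega)).symm.2
    rw [zero_add] at h0
    refine h0 ?_
    have hPeq : cj (e b) (σ.V (t b) ⊔ σ.V (t (b - 1))) =
        cj (e (b - 1)) (σ.V (t b) ⊔ σ.V (t (b - 1))) := by
      rw [show e b = e (b - 1) * ((e (b - 1))⁻¹ * e b) by group, cj_mul, hst _ hedge]
    refine (le_sup_left (b := σ.Vv (e b) (t (b - 1)))).trans ?_
    rw [Vv, Vv, ← cj_sup, hPeq, cj_sup]
    refine sup_le (com (d := b - 1) (by omega) ?_) (com (d := b - 1) (by omega) ?_)
    · -- `(e (b-1), t b)` shares the edge `e (b-1)` with the vertex `b - 2`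
      have h1 := near_of_path hx (b - 2) 0 (by omega)
      rw [zero_add] at h1
      have h2 := hx (b - 2) (by omega)
      rw [show b - 2 + 1 = b - 1 by omega] at h2
      have h3 : σ.Near 1 (e (b - 2)) (t (b - 2)) (e (b - 1)) (t b) :=
        ⟨_, h2, t b, by rw [mul_inv_cancel_left]; exact near_refl _ _⟩
      have h4 := h1.trans h3
      rwa [show b - 2 + 1 = b - 1 by omega] at h4
    · have h := near_of_path hx (b - 1) 0 (by omega)
      rwa [zero_add] at h

end Tree

end CfsgLib.LocalEven.PUPair
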