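import Cfsg.Agent.Lib.LocalEven.PUPair.Pairs
import Cfsg.Agent.Lib.LocalEven.PUPair.Tree
import Mathlib.Logic.Equiv.Prod
import Mathlib.GroupTheory.Perm.Basic

/-!
# A common permutation group for finitely many situations over `H`
-/

set_option autoImplicit false
set_option linter.style.haveILetI false
set_option linter.unusedSectionVars false

open Cfsg Subgroup CfsgLib.LocalEven.Baumann CfsgLib.ConjFunctor
open scoped commutatorElement

universe u

namespace CfsgLib.LocalEven.PUPair

variable {p : ℕ} [hp : Fact p.Prime] {H : Type u} [Group H] [Finite H]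

/-- The coset space of the Sylow subgroup. -/
abbrev Mdl.Cosets (M : Mdl p H) : Type u := M.G ⧸ M.f.range

/-- `G ≅ H × cosets`, compatible with left multiplication by `H`. -/
noncomputable def Mdl.split (M : Mdl p H) : H × M.Cosets ≃ M.G :=
  Equiv.ofBijective (fun x => M.f x.1 * (Quotient.out x.2)⁻¹) <| by
    constructor
    · rintro ⟨h, q⟩ ⟨h', q'⟩ heq
      simp only at heq
      have h1 : Quotient.out q' = Quotient.out q * M.f (h⁻¹ * h') := by
        calc Quotient.out q' = (M.f h' * (Quotient.out q')⁻¹)⁻¹ * M.f h' := by group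
          _ = (M.f h * (Quotient.out q)⁻¹)⁻¹ * M.f h' := by rw [heq]
          _ = _ := by rw [map_mul, map_inv]; group
      have hq : q = q' := by
        rw [← QuotientGroup.out_eq' q, ← QuotientGroup.out_eq' q', QuotientGroup.eq]
        exact ⟨h⁻¹ * h', by rw [h1]; group⟩
      subst hq
      exact Prod.ext (M.emb.inj (mul_right_cancel heq)) rfl
    · intro g
      set q : M.Cosets := QuotientGroup.mk g⁻¹
      have h1 : (QuotientGroup.mk g⁻¹ : M.Cosets) = QuotientGroup.mk (Quotient.out q) :=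
        (QuotientGroup.out_eq' q).symm
      obtain ⟨h, hh⟩ := QuotientGroup.eq.1 h1
      refine ⟨(h, q), ?_⟩
      show M.f h * (Quotient.out q)⁻¹ = g
      rw [hh]; group

theorem Mdl.split_apply (M : Mdl p H) (h : H) (q : M.Cosets) :
    M.split (h, q) = M.f h * (Quotient.out q)⁻¹ := rfl

variable {ι : Type u} [Finite ι] (M : ι → Mdl p H)

/-- The points. -/
abbrev Pts : Type u := H × (∀ i, (M i).Cosets)

open Classical in
/-- Singling out the `i`-th group. -/
noncomputable def splitAt (i : ι) :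
    Pts M ≃ (M i).G × (∀ j : {j // j ≠ i}, (M j).Cosets) :=
  ((Equiv.refl H).prodCongr (Equiv.piSplitAt i fun j => (M j).Cosets)).trans
    ((Equiv.prodAssoc _ _ _).symm.trans ((M i).split.prodCongr (Equiv.refl _)))

open Classical in
theorem splitAt_apply (i : ι) (h : H) (x : ∀ j, (M j).Cosets) :
    splitAt M i (h, x) = ((M i).f h * (Quotient.out (x i))⁻¹, fun j : {j // j ≠ i} => x j.1) := rfl

/-- The action of the `i`-th group. -/
noncomputable def act (i : ι) : (M i).G →* Equiv.Perm (Pts M) where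
  toFun g := (splitAt M i).trans (((Equiv.mulLeft g).prodCongr (Equiv.refl _)).trans (splitAt M i).symm)
  map_one' := by
    ext x
    · simp
    · simp
  map_mul' g g' := by
    refine Equiv.ext fun x => ?_
    simp [Equiv.Perm.mul_def, Prod.map, mul_assoc]

/-- The action of `H`. -/
def actH : H →* Equiv.Perm (Pts M) where
  toFun h := (Equiv.mulLeft h).prodCongr (Equiv.refl _)
  map_one' := by ext x <;> simp
  map_mul' g g' := by ext x <;> simp [Equiv.Perm.mul_def, mul_assoc]

theorem act_f (i : ι) (h : H) : act M i ((M i).f h) = actH M h := by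
  refine Equiv.ext fun ⟨h', x⟩ => ?_
  show (splitAt M i).symm ((M i).f h * (splitAt M i (h', x)).1, (splitAt M i (h', x)).2) =
    (h * h', x)
  rw [Equiv.symm_apply_eq, splitAt_apply, splitAt_apply, map_mul, mul_assoc]

theorem act_comp (i : ι) : (act M i).comp (M i).f = actH M := MonoidHom.ext (act_f M i)

theorem act_injective (i : ι) : Function.Injective (act M i) := by
  intro g g' h
  haveI : Nonempty (∀ j, (M j).Cosets) := ⟨fun j => QuotientGroup.mk 1⟩
  obtain ⟨x⟩ := (inferInstance : Nonempty (∀ j, (M j).Cosets))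
  have := congrArg (fun e : Equiv.Perm (Pts M) => (splitAt M i (e (1, x))).1) h
  simpa [act] using this

theorem actH_injective : Function.Injective (actH M) := by
  intro g g' h
  obtain ⟨x⟩ : Nonempty (∀ j, (M j).Cosets) := ⟨fun j => QuotientGroup.mk 1⟩
  simpa [actH] using congrArg (fun e : Equiv.Perm (Pts M) => (e (1, x)).1) h

theorem map_actH (i : ι) (Y : Subgroup H) : Y.map (actH M) = (Y.map (M i).f).map (act M i) := by
  rw [Subgroup.map_map, act_comp]

theorem cj_act (i : ι) (g : (M i).G) {Y : Subgroup H} (hY : Y ≤ (M i).Q) :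
    CfsgLib.ConjFunctor.cj (act M i g) (Y.map (actH M)) = ((M i).c g Y).map (actH M) := by
  rw [map_actH M i, map_actH M i, (M i).map_c g hY]
  simp only [CfsgLib.ConjFunctor.cj, Subgroup.map_map]
  congr 1
  refine MonoidHom.ext fun x => ?_
  simp

/-- Some conjugate of a `V` inside a third `Q` fails to commute. -/
theorem exists_crit (hC : Ctx p H) (hone : ∀ i k, (M k).V ≤ (M i).Q)
    (hng : ∀ i, ∃ i' k, (M i').V = (M i).V ∧ ¬ (((M k).V ⊔ (M i').V).map (M i').f).Normal)
    (hnofix : ∀ T : Subgroup H, (∀ k, (M k).V ≤ T) → (∀ i, (T.map (M i).f).Normal) → False) :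
    ∃ i j k, ∃ g : (M j).G, Mdl.Crit (M i) (M j) (M k) g := by
  by_contra hcon
  push Not at hcon
  have htwo : ∀ j k i (g : (M j).G), (M j).c g (M k).V ≤ (M i).Q := fun j k i g => by
    by_contra h
    exact hcon i j k g ⟨hone j i, hone j k, h⟩
  have hinj := actH_injective M
  have hrange : ∀ {i : ι} {x}, x ∈ (act M i).range → ∃ g, act M i g = x := fun hx => hx
  have hmle : ∀ {A B : Subgroup H}, A.map (actH M) ≤ B.map (actH M) ↔ A ≤ B := fun {A B} =>
    map_le_map_iff_of_injective hinj
  refine Tree.absurd_tree (X := Equiv.Perm (Pts M)) (ι := ι)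
    { S := (actH M).range
      Z := (center H).map (actH M)
      Gs := fun i => (act M i).range
      Q := fun i => (M i).Q.map (actH M)
      V := fun i => (M i).V.map (actH M)
      S_le := fun i => by rintro _ ⟨h, rfl⟩; exact ⟨(M i).f h, act_f M i h⟩
      Q_le := fun i => map_le_range _ _
      V_le := fun i => map_mono (M i).V_le_Q
      cV := ?_, cQ := ?_, Q_cent := ?_, cent_le := ?_
      Z_le := fun i => map_mono (M i).center_le_V
      Z_cent := ?_, fpf := ?_, card_eq := ?_, quad := ?_, nc := ?_, gen := ?_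
      one := fun i k => map_mono (hone i k)
      nonglued := ?_, nofix := ?_, two := ?_ }
  · rintro i _ ⟨g, rfl⟩
    rw [cj_act M i g (M i).V_le_Q, (M i).c_V]
  · rintro i _ ⟨g, rfl⟩
    rw [cj_act M i g le_rfl, (M i).c_Q]
  · rintro i _ ⟨q, hq, rfl⟩ _ ⟨v, hv, rfl⟩
    rw [← map_mul, ← map_mul, (M i).Q_le_cent hq v hv]
  · rintro i _ ⟨⟨h, rfl⟩, hh⟩
    refine mem_map_of_mem _ ((M i).cent_V.le fun v hv => hinj ?_)
    rw [map_mul, map_mul, hh _ (mem_map_of_mem _ hv)]
  · rintro _ ⟨z, hz, rfl⟩ _ ⟨h, rfl⟩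
    rw [← map_mul, ← map_mul, mem_center_iff.1 hz h]
  · rintro i _ ⟨s, rfl⟩ hs _ ⟨v, hv, rfl⟩ he
    exact mem_map_of_mem _ ((M i).fpf hC (fun h => hs (mem_map_of_mem _ h)) hv
      (hinj (by rw [map_mul, map_mul]; exact he)))
  · intro i
    rw [card_map_of_injective hinj, card_map_of_injective hinj, card_map_of_injective hinj,
      ← Nat.card_congr (MonoidHom.ofInjective hinj).toEquiv, (M i).meas_eq hC, mul_comm]
  · intro i
    rw [MonoidHom.range_eq_map, ← Subgroup.map_commutator]
    exact map_mono ((M i).comm_le hC)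
  · intro i h
    refine (M i).not_central hC fun x hx => mem_center_iff.2 fun g => act_injective M i ?_
    rw [MonoidHom.range_eq_map (actH M), ← Subgroup.map_commutator] at h
    obtain ⟨r, hr, rfl⟩ := hx
    rw [map_mul, map_mul, act_f]
    exact h (mem_map_of_mem _ hr) _ ⟨g, rfl⟩
  · intro i
    obtain ⟨g, hg⟩ := (M i).exists_gen
    refine ⟨_, ⟨g, rfl⟩, ?_⟩
    rw [MonoidHom.range_eq_map (act M i), ← hg, Subgroup.map_sup, ← (M i).emb.range,
      MonoidHom.map_range, act_comp]
    congr 1
    rw [← act_comp M i, ← MonoidHom.map_range]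
    simp only [CfsgLib.ConjFunctor.cj, Subgroup.map_map]
    congr 1
    refine MonoidHom.ext fun x => ?_
    simp
  · intro i
    obtain ⟨i', k, hV, hne⟩ := hng i
    refine ⟨i', k, by rw [hV], by rw [Mdl.Q_eq_of_V_eq hV], ?_⟩
    by_contra h
    push Not at h
    refine hne ⟨fun x hx g => ?_⟩
    obtain ⟨y, hy, rfl⟩ := hx
    have h1 := h _ ⟨g, rfl⟩
    rw [← Subgroup.map_sup, cj_act M i' g (sup_le (hone i' k) (M i').V_le_Q)] at h1
    obtain ⟨z, -, ez⟩ := (M i').exists_conj g ((sup_le (hone i' k) (M i').V_le_Q) hy)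
    exact ⟨z, map_injective hinj h1 ▸ (M i').mem_c.2 ⟨y, hy, ez⟩, ez.symm⟩
  · intro T hT hV hinv
    have hT' : (T.comap (actH M)).map (actH M) = T := map_comap_eq_self hT
    refine hnofix (T.comap (actH M)) (fun k => map_le_iff_le_comap.1 (hV k)) fun i => ⟨?_⟩
    rintro _ ⟨y, hy, rfl⟩ g
    have h1 : act M i g * actH M y * (act M i g)⁻¹ ∈ T := by
      rw [← hinv i _ ⟨g, rfl⟩]
      exact conj_mem_cj hy
    obtain ⟨z, hz, ez⟩ := hT'.ge h1
    refine ⟨z, hz, act_injective M i ?_⟩
    rw [act_f, ez, map_mul, map_mul, map_inv, act_f]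
  · rintro j k i _ ⟨g, rfl⟩
    rw [cj_act M j g (hone j k)]
    exact map_mono (htwo j k i g)

end CfsgLib.LocalEven.PUPair
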