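import Cfsg.Agent.Lib.LocalEven.PUPair.Pairs
import Cfsg.Agent.Lib.PushingUp.Weight

/-!
# Unipotent pairs in `SL₂` and their fixed points on a natural module
-/

set_option autoImplicit false
set_option linter.unusedSectionVars false

open Cfsg Subgroup Matrix CfsgLib.NoFF
open scoped MatrixGroups

namespace CfsgLib.LocalEven.PUPair

open CfsgLib.PushingUp (Sit low)

variable {F : Type} [Field F]

/-- Upper unitriangular elements. -/
abbrev upp (r : F) : SL(2, F) := Balance.upperHom F (Multiplicative.ofAdd r)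

theorem upp_mul (r s : F) : upp r * upp s = upp (r + s) := by
  rw [upp, upp, upp, ← map_mul, ← ofAdd_add]

theorem upp_ne_one {r : F} (hr : r ≠ 0) : upp r ≠ 1 := fun h => hr (by
  have := congrArg (fun M : SL(2, F) => (M : Matrix (Fin 2) (Fin 2) F) 0 1) h
  simpa [upp, Balance.upperHom_coe] using this)

theorem upp_eq_one {r : F} (h : upp r = 1) : r = 0 := by
  by_contra hr
  exact upp_ne_one hr h

/-- The element exchanging the two root groups. -/
def weyl (r : F) (hr : r ≠ 0) : SL(2, F) :=
  SL2Trace.mk2 0 r (-r⁻¹) 0 (by field_simp; ring)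

theorem weyl_conj (r t : F) (hr : r ≠ 0) :
    weyl r hr * upp t * (weyl r hr)⁻¹ = low (-(t / (r * r))) := by
  rw [mul_inv_eq_iff_eq_mul]
  refine Matrix.SpecialLinearGroup.ext _ _ fun i j => ?_
  simp only [Matrix.SpecialLinearGroup.coe_mul, weyl, low, upp, SL2Trace.coe_mk2,
    Balance.upperHom_coe]
  fin_cases i <;> fin_cases j <;> simp [Matrix.mul_apply, Fin.sum_univ_two] <;> field_simp

theorem braid_upp_low {r s : F} (h : r * s = -1) :
    upp r * low s * upp r = low s * upp r * low s := by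
  refine Matrix.SpecialLinearGroup.ext _ _ fun i j => ?_
  simp only [Matrix.SpecialLinearGroup.coe_mul, low, upp, SL2Trace.coe_mk2, Balance.upperHom_coe]
  fin_cases i <;> fin_cases j <;> simp [Matrix.mul_apply, Fin.sum_univ_two]
  · left; linear_combination h
  · left; linear_combination h

theorem upp_ne_low {r s : F} (hr : r ≠ 0) : upp r ≠ low s := fun h => hr (by
  have := congrArg (fun M : SL(2, F) => (M : Matrix (Fin 2) (Fin 2) F) 0 1) h
  simpa [upp, low, SL2Trace.coe_mk2, Balance.upperHom_coe] using this)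

/-- The lower left entry of a braid partner of an upper unitriangular element. -/
theorem braid_entry [Fintype F] {p : ℕ} [Fact p.Prime] [CharP F p] {r : F} {K : SL(2, F)} (hK : K ^ p = 1)
    (hb : upp r * K * upp r = K * upp r * K) (hne : upp r ≠ K) :
    r * (K : Matrix (Fin 2) (Fin 2) F) 1 0 = -1 := by
  have htr := CfsgLib.PushingUp.det_sub_one_of_pow hK
  have hdet := SL2Trace.det_coe K
  have h10 := congrArg (fun M : SL(2, F) => (M : Matrix (Fin 2) (Fin 2) F) 1 0) hb
  simp [upp, Balance.upperHom_coe, Matrix.mul_apply, Fin.sum_univ_two, Matrix.vecMul, dotProduct] at h10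
  set a := (K : Matrix (Fin 2) (Fin 2) F) 0 0 with ha
  set c := (K : Matrix (Fin 2) (Fin 2) F) 1 0 with hc
  set d := (K : Matrix (Fin 2) (Fin 2) F) 1 1 with hd
  have h1 : c * (1 + r * c) = 0 := by linear_combination -h10 - c * htr
  rcases mul_eq_zero.1 h1 with h | h
  · exfalso
    rw [h, mul_zero, sub_zero] at hdet
    have ha1 : a = 1 := by
      have : (a - 1) ^ 2 = 0 := by linear_combination -hdet + a * htr
      exact sub_eq_zero.1 ((pow_eq_zero_iff two_ne_zero).1 this)
    have hd1 : d = 1 := by linear_combination htr - ha1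
    have hKu : K = upp ((K : Matrix (Fin 2) (Fin 2) F) 0 1) := by
      refine Matrix.SpecialLinearGroup.ext _ _ fun i j => ?_
      rw [upp, Balance.upperHom_coe]
      fin_cases i <;> fin_cases j <;> simp [← ha, ← hc, ← hd, ha1, hd1, h]
    refine hne ?_
    rw [hKu] at hb ⊢
    simp only [upp_mul] at hb
    have he := congrArg (fun M : SL(2, F) => (M : Matrix (Fin 2) (Fin 2) F) 0 1) hb
    simp [upp, Balance.upperHom_coe] at he
    refine congrArg upp ?_
    linear_combination he
  · linear_combination h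

/-- A common fixed vector of `upp r` and `low s`. -/
theorem eq_zero_of_fixed {r s : F} (hr : r ≠ 0) (hs : s ≠ 0) {v : Fin 2 → F}
    (h1 : (upp r : Matrix (Fin 2) (Fin 2) F).mulVec v = v)
    (h2 : (low s : Matrix (Fin 2) (Fin 2) F).mulVec v = v) : v = 0 := by
  have e1 := congrFun h1 0
  have e2 := congrFun h2 1
  simp [upp, low, Balance.upperHom_coe, SL2Trace.coe_mk2, Matrix.mulVec, dotProduct,
    Fin.sum_univ_two, hr, hs] at e1 e2
  funext i
  fin_cases i <;> simp [e1, e2]

/-- The vector made fixed by the braid. -/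
theorem fixed_of_entry {r : F} {K : SL(2, F)}
    (h : r * (K : Matrix (Fin 2) (Fin 2) F) 1 0 = -1) (v : Fin 2 → F) :
    (upp r : Matrix (Fin 2) (Fin 2) F).mulVec (v +
      ((K : Matrix (Fin 2) (Fin 2) F).mulVec ((upp r : Matrix (Fin 2) (Fin 2) F).mulVec v - v) -
        ((upp r : Matrix (Fin 2) (Fin 2) F).mulVec v - v))) =
    v + ((K : Matrix (Fin 2) (Fin 2) F).mulVec ((upp r : Matrix (Fin 2) (Fin 2) F).mulVec v - v) -
      ((upp r : Matrix (Fin 2) (Fin 2) F).mulVec v - v)) := by
  funext i
  fin_cases i <;> simp [upp, Balance.upperHom_coe, Matrix.mulVec, dotProduct, Fin.sum_univ_two,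
    Matrix.vecHead, Matrix.vecTail]
  right
  linear_combination v 1 * h

variable {G : Type*} [Group G] [Finite G] [Fintype F] {p n : ℕ} [hp : Fact p.Prime]
  {W : Type*} [CommGroup W] [Finite W] {φ : G →* MulAut W}

/-- A subgroup fixed by an element outside the kernel has index at least `q`. -/
theorem card_fixed_mul_le (σ : Sit p n G F) {ρ : G →* SL(2, F)}
    {ψ : W →* Multiplicative (Fin 2 → F)} (hψs : Function.Surjective ψ)
    {s : G} (hs : ρ s ≠ 1) {Y : Subgroup W}
    (hY : ∀ w ∈ Y, (ρ s : Matrix (Fin 2) (Fin 2) F).mulVec (Multiplicative.toAdd (ψ w)) =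
      Multiplicative.toAdd (ψ w)) :
    p ^ n * Nat.card Y ≤ Nat.card W := by
  have h1 := card_eq_ker_mul_map ψ Y
  have h2 : Nat.card (Y.map ψ) ≤ p ^ n := by
    rw [← σ.card_F]
    refine le_trans ?_ (PushingUp.card_fixed_le hs)
    refine Nat.card_le_card_of_injective
      (fun y : Y.map ψ => ⟨Multiplicative.toAdd y.1, ?_⟩)
      fun a b hab => Subtype.ext (Multiplicative.toAdd.injective ((Subtype.ext_iff.1 hab : _)))
    obtain ⟨w, hw, hwy⟩ := y.2
    rw [← hwy]
    exact hY w hw
  have h3 : Nat.card W = Nat.card ψ.ker * (p ^ n) ^ 2 := by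
    rw [← card_mul_index ψ.ker, index_ker, MonoidHom.range_eq_top.2 hψs, Subgroup.card_top,
      Nat.card_congr Multiplicative.toAdd, Nat.card_fun, Nat.card_fin,
      Nat.card_eq_fintype_card (α := F), σ.card_F]
  have h4 : Nat.card (Y ⊓ ψ.ker : Subgroup W) ≤ Nat.card ψ.ker :=
    Nat.card_le_card_of_injective _ (Subgroup.inclusion_injective inf_le_right)
  rw [h1, h3]
  calc p ^ n * (Nat.card (Y ⊓ ψ.ker : Subgroup W) * Nat.card (Y.map ψ))
      ≤ p ^ n * (Nat.card ψ.ker * p ^ n) := Nat.mul_le_mul_left _ (Nat.mul_le_mul h4 h2)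
    _ = _ := by ring

end CfsgLib.LocalEven.PUPair
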