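import Cfsg.Agent.Lib.LocalEven.CLPushing
import Cfsg.Agent.Lib.PushingUp.Model

/-!
# The pushing-up situations with a given Sylow subgroup

`Mdl p H`: a group with `H` as Sylow subgroup in the pushing-up situation and `Z(H)` not normal.
Everything is read inside `H`: `V = ⟨Z(H)^G⟩`, `Q = O_p(G)`, and `c g` is conjugation on `Q`.
-/

set_option autoImplicit false
set_option linter.style.haveILetI false
set_option linter.unusedSectionVars false

open Cfsg Subgroup CfsgLib.LocalEven.Baumann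
open scoped commutatorElement

universe u

namespace CfsgLib.LocalEven.PUPair

/-- The standing assumptions on the Sylow subgroup. -/
structure Ctx (p : ℕ) (H : Type u) [Group H] : Prop where
  pg : IsPGroup p H
  meas : ∀ Y : Subgroup H,
    Nat.card Y * Nat.card (centralizer (Y : Set H)) ≤ Nat.card H * Nat.card (center H)
  zexp : ∀ z ∈ center H, z ^ p = 1
  jtop : thompsonSubgroupA H = ⊤

/-- A pushing-up situation over `H` in which `Z(H)` is not normal. -/
structure Mdl (p : ℕ) [Fact p.Prime] (H : Type u) [Group H] where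
  G : Type u
  grp : Group G
  fin : Finite G
  P : Sylow p G
  K : Subgroup G
  F : Type
  fld : Field F
  ftp : Fintype F
  n : ℕ
  rk : RankOne p P K F n
  f : H →* G
  emb : CLP.Emb P f
  nn : ¬ ((P : Subgroup G) ⊓ centralizer ((P : Subgroup G) : Set G)).Normal

attribute [instance] Mdl.grp Mdl.fin Mdl.fld Mdl.ftp

/-- `[V, H]`. -/
def Rv {H : Type u} [Group H] (V : Subgroup H) : Subgroup H := ⁅V, (⊤ : Subgroup H)⁆

namespace Mdl

variable {p : ℕ} [hp : Fact p.Prime] {H : Type u} [Group H] (M : Mdl p H)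

/-- `O_p(G)` inside `H`. -/
def Q : Subgroup H := CLP.core p M.f

/-- `⟨Z(H)^G⟩` inside `H`. -/
def V : Subgroup H := CLP.zcl M.P M.f

/-- `⟨Z(H)^G⟩`. -/
def Vg : Subgroup M.G :=
  normalClosure (((M.P : Subgroup M.G) ⊓ centralizer ((M.P : Subgroup M.G) : Set M.G) :
    Subgroup M.G) : Set M.G)

/-- Conjugation on the subgroups of `Q`. -/
def c (g : M.G) (Y : Subgroup H) : Subgroup H := CLP.cj M.f g Y

theorem Q_le' : pCore p M.G ≤ (M.P : Subgroup M.G) := Baumann.pCore_le M.rk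

instance instQn : (pCore p M.G).Normal := CfsgLib.Solvable.pCore_normal p M.G

instance instVn : M.Vg.Normal := normalClosure_normal

theorem map_Q : M.Q.map M.f = pCore p M.G := M.emb.map_comap M.Q_le'

theorem Vg_le : M.Vg ≤ pCore p M.G := (closure_zs_le M.rk).trans inf_le_left

theorem map_V : M.V.map M.f = M.Vg := M.emb.map_comap (M.Vg_le.trans M.Q_le')

theorem mem_Q {x : H} : x ∈ M.Q ↔ M.f x ∈ pCore p M.G := Iff.rfl

theorem mem_V {x : H} : x ∈ M.V ↔ M.f x ∈ M.Vg := Iff.rfl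

instance instQnH : M.Q.Normal := Subgroup.Normal.comap inferInstance M.f

instance instVnH : M.V.Normal := (M.instVn).comap M.f

theorem V_le_Q : M.V ≤ M.Q := comap_mono M.Vg_le

theorem Q_le_cent : M.Q ≤ centralizer (M.V : Set H) := fun q hq v hv => M.emb.inj (by
  rw [map_mul, map_mul]
  exact (((closure_zs_le M.rk).trans inf_le_right) hv _ hq).symm)

theorem center_le_V : center H ≤ M.V := fun z hz =>
  subset_normalClosure (M.emb.map_center.le (mem_map_of_mem _ hz))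

theorem center_le_Q : center H ≤ M.Q := M.center_le_V.trans M.V_le_Q

/-! ### Conjugation -/

theorem map_c (g : M.G) {Y : Subgroup H} (hY : Y ≤ M.Q) :
    (M.c g Y).map M.f = (Y.map M.f).map (MulAut.conj g).toMonoidHom :=
  (CLP.cj_facts M.rk M.emb g hY).2.2

theorem c_le_Q (g : M.G) {Y : Subgroup H} (hY : Y ≤ M.Q) : M.c g Y ≤ M.Q :=
  (CLP.cj_facts M.rk M.emb g hY).1

theorem card_c (g : M.G) {Y : Subgroup H} (hY : Y ≤ M.Q) : Nat.card (M.c g Y) = Nat.card Y := by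
  obtain ⟨e⟩ := (CLP.cj_facts M.rk M.emb g hY).2.1
  exact (Nat.card_congr e.toEquiv).symm

theorem mem_c {g : M.G} {Y : Subgroup H} {x : H} :
    x ∈ M.c g Y ↔ ∃ y ∈ Y, g * M.f y * g⁻¹ = M.f x := by
  constructor
  · rintro ⟨_, ⟨y, hy, rfl⟩, h⟩
    exact ⟨y, hy, h⟩
  · rintro ⟨y, hy, h⟩
    exact ⟨_, ⟨y, hy, rfl⟩, h⟩

theorem c_mono (g : M.G) {Y Y' : Subgroup H} (h : Y ≤ Y') : M.c g Y ≤ M.c g Y' := fun x hx => by
  obtain ⟨y, hy, e⟩ := M.mem_c.1 hx
  exact M.mem_c.2 ⟨y, h hy, e⟩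

/-- The element of `H` conjugate to an element of `Q`. -/
theorem exists_conj (g : M.G) {y : H} (hy : y ∈ M.Q) : ∃ x ∈ M.Q, g * M.f y * g⁻¹ = M.f x := by
  have h : g * M.f y * g⁻¹ ∈ pCore p M.G := M.instQn.conj_mem _ hy g
  obtain ⟨x, hx, e⟩ := M.map_Q.ge h
  exact ⟨x, hx, e.symm⟩

theorem c_c (g h : M.G) {Y : Subgroup H} (hY : Y ≤ M.Q) : M.c g (M.c h Y) = M.c (g * h) Y := by
  ext x
  rw [M.mem_c, M.mem_c]
  constructor
  · rintro ⟨y, hy, e⟩
    obtain ⟨z, hz, e'⟩ := M.mem_c.1 hy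
    exact ⟨z, hz, by rw [← e, ← e']; group⟩
  · rintro ⟨z, hz, e⟩
    obtain ⟨y, -, e'⟩ := M.exists_conj h (hY hz)
    exact ⟨y, M.mem_c.2 ⟨z, hz, e'⟩, by rw [← e', ← e]; group⟩

theorem c_one (Y : Subgroup H) : M.c 1 Y = Y := by
  ext x
  rw [M.mem_c]
  simp only [one_mul, inv_one, mul_one]
  exact ⟨fun ⟨y, hy, e⟩ => M.emb.inj e ▸ hy, fun h => ⟨x, h, rfl⟩⟩

theorem c_inv_c (g : M.G) {Y : Subgroup H} (hY : Y ≤ M.Q) : M.c g⁻¹ (M.c g Y) = Y := by
  rw [M.c_c _ _ hY, inv_mul_cancel, M.c_one]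

theorem c_c_inv (g : M.G) {Y : Subgroup H} (hY : Y ≤ M.Q) : M.c g (M.c g⁻¹ Y) = Y := by
  rw [M.c_c _ _ hY, mul_inv_cancel, M.c_one]

theorem c_of_normal (g : M.G) {Y : Subgroup H} (hY : Y ≤ M.Q) (hn : (Y.map M.f).Normal) :
    M.c g Y = Y := by
  have key : ∀ g : M.G, M.c g Y ≤ Y := fun g x hx => by
    obtain ⟨y, hy, e⟩ := M.mem_c.1 hx
    obtain ⟨z, hz, e'⟩ := hn.conj_mem _ (mem_map_of_mem M.f hy) g
    exact M.emb.inj (e'.trans e) ▸ hz
  refine le_antisymm (key g) ?_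
  conv_lhs => rw [← M.c_c_inv g hY]
  exact M.c_mono g (key g⁻¹)

theorem c_eq_map_conj (g : H) {Y : Subgroup H} :
    M.c (M.f g) Y = Y.map (MulAut.conj g).toMonoidHom := by
  ext x
  rw [M.mem_c]
  simp only [← map_inv, ← map_mul, M.emb.inj.eq_iff]
  exact Iff.rfl

theorem c_sup (g : M.G) {Y Y' : Subgroup H} (hY : Y ≤ M.Q) (hY' : Y' ≤ M.Q) :
    M.c g (Y ⊔ Y') = M.c g Y ⊔ M.c g Y' :=
  map_injective M.emb.inj (by
    rw [M.map_c g (sup_le hY hY')]
    simp only [Subgroup.map_sup, M.map_c g hY, M.map_c g hY'])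

theorem c_commutator (g : M.G) {Y Y' : Subgroup H} (hY : Y ≤ M.Q) (hY' : Y' ≤ M.Q) :
    M.c g ⁅Y, Y'⁆ = ⁅M.c g Y, M.c g Y'⁆ :=
  map_injective M.emb.inj (by
    rw [M.map_c g ((commutator_mono hY hY').trans (Subgroup.commutator_le_self _))]
    simp only [Subgroup.map_commutator, M.map_c g hY, M.map_c g hY'])

theorem c_Q (g : M.G) : M.c g M.Q = M.Q :=
  M.c_of_normal g le_rfl (by rw [M.map_Q]; infer_instance)

theorem c_V (g : M.G) : M.c g M.V = M.V :=
  M.c_of_normal g M.V_le_Q (by rw [M.map_V]; infer_instance)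

theorem c_inf_centralizer (g : M.G) {Y : Subgroup H} (hY : Y ≤ M.Q) :
    M.c g (M.Q ⊓ centralizer (Y : Set H)) = M.Q ⊓ centralizer (M.c g Y : Set H) := by
  ext x
  simp only [M.mem_c, mem_inf, mem_centralizer_iff, SetLike.mem_coe]
  constructor
  · rintro ⟨y, ⟨hyQ, hy⟩, e⟩
    refine ⟨?_, fun z ⟨w, hw, ew⟩ => M.emb.inj ?_⟩
    · rw [M.mem_Q, ← e]; exact M.instQn.conj_mem _ hyQ g
    · rw [map_mul, map_mul, ← e, ← ew]
      have := congrArg M.f (hy w hw)
      rw [map_mul, map_mul] at this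
      calc g * M.f w * g⁻¹ * (g * M.f y * g⁻¹) = g * (M.f w * M.f y) * g⁻¹ := by group
        _ = g * (M.f y * M.f w) * g⁻¹ := by rw [this]
        _ = _ := by group
  · rintro ⟨hxQ, hx⟩
    obtain ⟨y, hyQ, e⟩ := M.exists_conj g⁻¹ hxQ
    refine ⟨y, ⟨hyQ, fun w hw => M.emb.inj ?_⟩, by rw [← e]; group⟩
    obtain ⟨z, -, ez⟩ := M.exists_conj g (hY hw)
    have := congrArg M.f (hx z ⟨w, hw, ez⟩)
    rw [map_mul, map_mul, ← ez] at this
    rw [map_mul, map_mul, ← e]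
    calc M.f w * (g⁻¹ * M.f x * g⁻¹⁻¹) = g⁻¹ * (g * M.f w * g⁻¹ * M.f x) * g := by group
      _ = g⁻¹ * (M.f x * (g * M.f w * g⁻¹)) * g := by rw [this]
      _ = _ := by group

/-! ### Normality -/

theorem sup_conj_eq_top {M₀ : Subgroup M.G} (hM₀ : IsCoatom M₀ ∧ (M.P : Subgroup M.G) ≤ M₀)
    {g : M.G} (hg : ¬ (M.P : Subgroup M.G).map (MulAut.conj g).toMonoidHom ≤ M₀) :
    (M.P : Subgroup M.G) ⊔ (M.P : Subgroup M.G).map (MulAut.conj g).toMonoidHom = ⊤ :=
  sup_eq_top_of M.rk hM₀ le_sup_left fun h => hg (le_sup_right.trans h)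

theorem exists_gen : ∃ g : M.G,
    (M.P : Subgroup M.G) ⊔ (M.P : Subgroup M.G).map (MulAut.conj g).toMonoidHom = ⊤ := by
  obtain ⟨M₀, hM₀, -⟩ := M.rk.uniq
  obtain ⟨g, hg⟩ := exists_conj_not_le M.rk hM₀
  exact ⟨g, M.sup_conj_eq_top hM₀ hg⟩

theorem P_le_normalizer {Y : Subgroup H} (hn : Y.Normal) :
    (M.P : Subgroup M.G) ≤ normalizer (Y.map M.f : Set M.G) := by
  intro x hx
  obtain ⟨x, rfl⟩ := M.emb.range.ge hx
  exact le_normalizer_map M.f ⟨x, by rw [normalizer_eq_top]; exact mem_top x, rfl⟩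

/-- Normality from two Sylow subgroups generating `G`. -/
theorem normal_of_gen {Y : Subgroup H} (hY : Y ≤ M.Q) (hn : Y.Normal) {g : M.G}
    (hg : (M.P : Subgroup M.G) ⊔ (M.P : Subgroup M.G).map (MulAut.conj g).toMonoidHom = ⊤)
    (hn' : (M.c g⁻¹ Y).Normal) : (Y.map M.f).Normal := by
  rw [← normalizer_eq_top_iff, eq_top_iff, ← hg]
  refine sup_le (M.P_le_normalizer hn) ?_
  conv_rhs => rw [← M.c_c_inv g hY, M.map_c g (M.c_le_Q _ hY)]
  exact (map_mono (M.P_le_normalizer hn')).trans (le_normalizer_map _)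

/-- A normal subgroup inside the centre of `H` is central. -/
theorem le_center_of_normal {R : Subgroup H} (hR : R ≤ center H) (hn : (R.map M.f).Normal) :
    R.map M.f ≤ center M.G := by
  haveI := hn
  have hP : (M.P : Subgroup M.G) ≤ centralizer (R.map M.f : Set M.G) := by
    intro x hx
    obtain ⟨x, rfl⟩ := M.emb.range.ge hx
    rintro _ ⟨r, hr, rfl⟩
    rw [← map_mul, ← map_mul, mem_center_iff.1 (hR hr) x]
  have htop : centralizer (R.map M.f : Set M.G) = ⊤ := by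
    obtain ⟨g, hg⟩ := M.exists_gen
    rw [eq_top_iff, ← hg]
    refine sup_le hP ?_
    rintro _ ⟨s, hs, rfl⟩
    exact (normal_centralizer : (centralizer (R.map M.f : Set M.G)).Normal).conj_mem _ (hP hs) g
  exact fun x hx => mem_center_iff.2 fun y => ((htop.ge (mem_top y)) x hx).symm

/-- Central subgroups are those centralised by a second Sylow subgroup. -/
theorem le_center_of_gen {R : Subgroup H} (hR : R ≤ center H) {g : M.G}
    (hg : (M.P : Subgroup M.G) ⊔ (M.P : Subgroup M.G).map (MulAut.conj g).toMonoidHom = ⊤)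
    (hc : M.c g⁻¹ R ≤ center H) : R.map M.f ≤ center M.G :=
  M.le_center_of_normal hR (M.normal_of_gen (hR.trans M.center_le_Q)
    ⟨fun r hr x => by rwa [mem_center_iff.1 (hR hr) x, mul_inv_cancel_right]⟩ hg
    ⟨fun r hr x => by rwa [mem_center_iff.1 (hc hr) x, mul_inv_cancel_right]⟩)

/-- A subgroup of the centre whose centraliser leaves `Q` inside a normal subgroup is central. -/
theorem le_center_of_cent {E R : Subgroup H} (hE : (E.map M.f).Normal) (hRE : R ≤ E)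
    (hR : R ≤ center H) (hx : ∃ x : H, x ∉ M.Q ∧ x ∈ centralizer (E : Set H)) :
    R.map M.f ≤ center M.G := by
  haveI := hE
  obtain ⟨x, hxQ, hxc⟩ := hx
  refine M.le_center_of_normal hR (central_of_not_le M.rk
    (N := centralizer (E.map M.f : Set M.G)) normal_centralizer (fun h => hxQ (h ⟨M.emb.mem x, ?_⟩))
    ?_ (centralizer_le (map_mono hRE)))
  · rintro _ ⟨e, he, rfl⟩
    rw [← map_mul, ← map_mul, hxc e he]
  · exact (map_mono hR).trans M.emb.map_center.le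

end Mdl

end CfsgLib.LocalEven.PUPair
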