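import Mathlib.GroupTheory.Commutator.Basic
import Mathlib.GroupTheory.QuotientGroup.Basic
import Mathlib.GroupTheory.Subgroup.Centralizer
import Mathlib.Tactic.Group

/-!
# Class and exponent of a group generated by a normal subgroup and elements acting centrally on it

`Gen P T` says that `G` is generated by the normal subgroup `T` and the set `P` of elements of
order dividing `p`, that `[T, P]` is central and that commutators of elements of `P` lie in `T`.
-/

set_option autoImplicit false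
set_option linter.style.haveILetI false

open Subgroup
open scoped commutatorElement

namespace CfsgLib.LocalEven.PUPair

variable {G : Type*} [Group G]

theorem conj_of_comm {a b : G} (h : a * b = b * a) : a * b * a⁻¹ = b := by
  rw [h, mul_inv_cancel_right]

theorem comm_eq_one_iff {a b : G} : ⁅a, b⁆ = 1 ↔ a * b = b * a :=
  commutatorElement_eq_one_iff_mul_comm

/-- If the commutators of generators with `x` lie in a normal subgroup, so do all of them. -/
theorem comm_mem_of_gen {N : Subgroup G} [N.Normal] {s : Set G} (hs : closure s = ⊤) {x : G}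
    (h : ∀ b ∈ s, ⁅x, b⁆ ∈ N) (y : G) : ⁅x, y⁆ ∈ N := by
  have hN : N.Normal := inferInstance
  induction (hs.ge (mem_top y) : y ∈ closure s) using closure_induction with
  | mem b hb => exact h b hb
  | one => rw [commutatorElement_one_right]; exact one_mem _
  | mul a b _ _ ha hb =>
    rw [show ⁅x, a * b⁆ = ⁅x, a⁆ * (a * ⁅x, b⁆ * a⁻¹) by simp only [commutatorElement_def]; group]
    exact mul_mem ha (hN.conj_mem _ hb a)
  | inv a _ ha =>
    rw [show ⁅x, a⁻¹⁆ = a⁻¹ * ⁅x, a⁆⁻¹ * a⁻¹⁻¹ by simp only [commutatorElement_def]; group]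
    exact hN.conj_mem _ (inv_mem ha) _

/-- The derived group lies in every normal subgroup containing the commutators of generators. -/
theorem commutator_le_of_gen {N : Subgroup G} [N.Normal] {s : Set G} (hs : closure s = ⊤)
    (h : ∀ a ∈ s, ∀ b ∈ s, ⁅a, b⁆ ∈ N) : ⁅(⊤ : Subgroup G), (⊤ : Subgroup G)⁆ ≤ N := by
  refine commutator_le.2 fun x _ y _ => ?_
  refine comm_mem_of_gen hs (fun b hb => ?_) y
  rw [← commutatorElement_inv b x]
  exact inv_mem (comm_mem_of_gen hs (fun a ha => h b hb a ha) x)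

/-- The elements central modulo `N`. -/
def centerMod (N : Subgroup G) [N.Normal] : Subgroup G :=
  (center (G ⧸ N)).comap (QuotientGroup.mk' N)

theorem mem_centerMod {N : Subgroup G} [N.Normal] {x : G} :
    x ∈ centerMod N ↔ ∀ y : G, ⁅x, y⁆ ∈ N := by
  rw [centerMod, mem_comap, mem_center_iff, (QuotientGroup.mk'_surjective N).forall]
  refine forall_congr' fun y => ?_
  rw [← QuotientGroup.eq_one_iff, ← QuotientGroup.mk'_apply, map_commutatorElement, comm_eq_one_iff]
  exact eq_comm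

instance centerMod_normal (N : Subgroup G) [N.Normal] : (centerMod N).Normal :=
  (inferInstance : (center (G ⧸ N)).Normal).comap _

/-- `[[G, G], G] ≤ N` from the generators. -/
theorem triple_le_of_gen {N : Subgroup G} [N.Normal] {s : Set G} (hs : closure s = ⊤)
    (h : ∀ a ∈ s, ∀ b ∈ s, ∀ c ∈ s, ⁅⁅a, b⁆, c⁆ ∈ N) :
    ⁅⁅(⊤ : Subgroup G), (⊤ : Subgroup G)⁆, (⊤ : Subgroup G)⁆ ≤ N := by
  have h1 := commutator_le_of_gen (N := centerMod N) hs fun a ha b hb =>
    mem_centerMod.2 fun y => comm_mem_of_gen hs (h a ha b hb) y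
  exact commutator_le.2 fun x hx y _ => mem_centerMod.1 (h1 hx) y

theorem comm_conj (x a b : G) : x * ⁅a, b⁆ * x⁻¹ = ⁅x * a * x⁻¹, x * b * x⁻¹⁆ := by
  simp only [commutatorElement_def]; group

theorem comm_mul_central {a b z w : G} (hz : z ∈ center G) (hw : w ∈ center G) :
    ⁅z * a, w * b⁆ = ⁅a, b⁆ := by
  have aux : ∀ {z : G}, z ∈ center G → ∀ x y : G, ⁅z * x, y⁆ = ⁅x, y⁆ := fun hz x y => by
    rename_i z
    rw [show ⁅z * x, y⁆ = z * ⁅x, y⁆ * (y * z⁻¹ * y⁻¹) by simp only [commutatorElement_def]; group,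
      mem_center_iff.1 (inv_mem hz) y, mul_inv_cancel_right, ← mem_center_iff.1 hz,
      mul_inv_cancel_right]
  rw [aux hz, ← commutatorElement_inv (w * b) a, aux hw, commutatorElement_inv]

/-- Conjugation by an element moving `a`, `b` by central elements fixes `[a, b]`. -/
theorem comm_comm_eq_one {a b x : G} (ha : ⁅x, a⁆ ∈ center G) (hb : ⁅x, b⁆ ∈ center G) :
    ⁅⁅a, b⁆, x⁆ = 1 := by
  have ea : x * a * x⁻¹ = ⁅x, a⁆ * a := by rw [commutatorElement_def, inv_mul_cancel_right]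
  have eb : x * b * x⁻¹ = ⁅x, b⁆ * b := by rw [commutatorElement_def, inv_mul_cancel_right]
  have h : x * ⁅a, b⁆ * x⁻¹ = ⁅a, b⁆ := by rw [comm_conj, ea, eb, comm_mul_central ha hb]
  rw [comm_eq_one_iff]
  exact (mul_inv_eq_iff_eq_mul.1 h).symm

theorem comm_symm_center {a b : G} (h : ⁅a, b⁆ ∈ center G) : ⁅b, a⁆ ∈ center G := by
  rw [← commutatorElement_inv a b]; exact inv_mem h

/-- A group generated by a normal subgroup and elements acting centrally on it. -/
structure Gen (p : ℕ) (P : Set G) (T : Subgroup G) : Prop where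
  gen : closure (P ∪ T) = ⊤
  normal : T.Normal
  central : ∀ t ∈ T, ∀ a ∈ P, ⁅t, a⁆ ∈ center G
  pow : ∀ a ∈ P, a ^ p = 1
  comm : ∀ a ∈ P, ∀ b ∈ P, ⁅a, b⁆ ∈ T

namespace Gen

variable {p : ℕ} {P : Set G} {T : Subgroup G}

theorem derived_fix (h : Gen p P T) {x : G} (hx : x ∈ ⁅T, T⁆) {a : G} (ha : a ∈ P) :
    ⁅x, a⁆ = 1 := by
  have h1 : ⁅T, T⁆ ≤ centralizer ({a} : Set G) := commutator_le.2 fun t ht t' ht' =>
    mem_centralizer_singleton_iff.2 (comm_eq_one_iff.1 (comm_comm_eq_one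
      (comm_symm_center (h.central t ht a ha)) (comm_symm_center (h.central t' ht' a ha))))
  exact comm_eq_one_iff.2 (mem_centralizer_singleton_iff.1 (h1 hx))

theorem derived_le (_h : Gen p P T) : ⁅T, T⁆ ≤ T := Subgroup.commutator_le_self T

/-- The generators' triple commutators. -/
theorem triple_mem (h : Gen p P T) {N : Subgroup G} (hN : ⁅⁅T, T⁆, T⁆ ≤ N)
    (hP : ∀ a ∈ P, ∀ b ∈ P, ∀ c ∈ P, ⁅⁅a, b⁆, c⁆ ∈ N) :
    ∀ a ∈ P ∪ T, ∀ b ∈ P ∪ T, ∀ c ∈ P ∪ T, ⁅⁅a, b⁆, c⁆ ∈ N := by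
  intro a ha b hb c hc
  have hcen : ∀ {u v : G}, ⁅u, v⁆ ∈ center G → ∀ w, ⁅⁅u, v⁆, w⁆ ∈ N := fun hu w => by
    rw [comm_eq_one_iff.2 (mem_center_iff.1 hu w).symm]; exact one_mem _
  rcases ha with ha | ha <;> rcases hb with hb | hb
  · rcases hc with hc | hc
    · exact hP a ha b hb c hc
    · rw [comm_comm_eq_one (h.central c hc a ha) (h.central c hc b hb)]
      exact one_mem _
  · exact hcen (comm_symm_center (h.central b hb a ha)) c
  · exact hcen (h.central a ha b hb) c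
  · rcases hc with hc | hc
    · rw [h.derived_fix (commutator_mem_commutator ha hb) hc]; exact one_mem _
    · exact hN (commutator_mem_commutator (commutator_mem_commutator ha hb) hc)

/-- The third term of the lower central series when the generators pair trivially. -/
theorem lcs_three (h : Gen p P T) (hP : ∀ a ∈ P, ∀ b ∈ P, ∀ c ∈ P, ⁅⁅a, b⁆, c⁆ = 1) :
    ⁅⁅(⊤ : Subgroup G), (⊤ : Subgroup G)⁆, (⊤ : Subgroup G)⁆ ≤ ⁅⁅T, T⁆, T⁆ := by
  haveI := h.normal
  exact triple_le_of_gen h.gen (h.triple_mem le_rfl fun a ha b hb c hc => by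
    rw [hP a ha b hb c hc]; exact one_mem _)

/-- The fourth term of the lower central series. -/
theorem lcs_four (h : Gen p P T) (hP : ∀ a ∈ P, ∀ b ∈ P, ∀ c ∈ P, ⁅⁅a, b⁆, c⁆ ∈ center G) :
    ⁅⁅⁅(⊤ : Subgroup G), (⊤ : Subgroup G)⁆, (⊤ : Subgroup G)⁆, (⊤ : Subgroup G)⁆ ≤ ⁅⁅⁅T, T⁆, T⁆, T⁆ := by
  haveI := h.normal
  have h1 : ⁅⁅(⊤ : Subgroup G), (⊤ : Subgroup G)⁆, (⊤ : Subgroup G)⁆ ≤ ⁅⁅T, T⁆, T⁆ ⊔ center G :=
    triple_le_of_gen h.gen (h.triple_mem le_sup_left fun a ha b hb c hc =>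
      mem_sup_right (hP a ha b hb c hc))
  have h2 : ⁅⁅T, T⁆, T⁆ ⊔ center G ≤ centerMod ⁅⁅⁅T, T⁆, T⁆, T⁆ := by
    refine sup_le (fun x hx => mem_centerMod.2 fun y => comm_mem_of_gen h.gen ?_ y)
      fun x hx => mem_centerMod.2 fun y => ?_
    · rintro c (hc | hc)
      · rw [h.derived_fix (commutator_mono h.derived_le le_rfl hx) hc]; exact one_mem _
      · exact commutator_mem_commutator hx hc
    · rw [comm_eq_one_iff.2 (mem_center_iff.1 hx y).symm]; exact one_mem _
  exact commutator_le.2 fun x hx y _ => mem_centerMod.1 (h2 (h1 hx)) y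

end Gen

/-! ### Powers -/

theorem conj_pow' (a b : G) (i : ℕ) : (a * b * a⁻¹) ^ i = a * b ^ i * a⁻¹ := conj_pow

/-- Commutators with a `k`-th power, the first step being central. -/
theorem comm_pow_left {a b : G} (hw : ⁅a, ⁅a, b⁆⁆ = 1) (k : ℕ) : ⁅a ^ k, b⁆ = ⁅a, b⁆ ^ k := by
  have h1 := comm_eq_one_iff.1 hw
  induction k with
  | zero => rw [pow_zero, pow_zero, commutatorElement_one_left]
  | succ k ih =>
    rw [pow_succ', show ⁅a * a ^ k, b⁆ = a * ⁅a ^ k, b⁆ * a⁻¹ * ⁅a, b⁆ by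
      simp only [commutatorElement_def]; group, ih, ← conj_pow', conj_of_comm h1, pow_succ]

/-- `[a³, b] = [a, b]³` in class three with third term of exponent three. -/
theorem comm_cube_left {a b : G} (hw : ⁅a, ⁅a, b⁆⁆ ∈ center G) (hw3 : ⁅a, ⁅a, b⁆⁆ ^ 3 = 1) :
    ⁅a ^ 3, b⁆ = ⁅a, b⁆ ^ 3 := by
  set c := ⁅a, b⁆ with hc
  set w := ⁅a, c⁆ with hwdef
  have hwc : ∀ x, x * w = w * x := mem_center_iff.1 hw
  have e : a * c * a⁻¹ = w * c := by rw [hwdef, commutatorElement_def, inv_mul_cancel_right]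
  have h1 : ⁅a ^ 3, b⁆ = a * a * c * (a * a)⁻¹ * (a * c * a⁻¹) * c := by
    rw [hc, pow_succ, pow_two]; simp only [commutatorElement_def]; group
  have h2 : a * a * c * (a * a)⁻¹ = w * (w * c) := by
    calc a * a * c * (a * a)⁻¹ = a * (a * c * a⁻¹) * a⁻¹ := by group
      _ = a * (w * c) * a⁻¹ := by rw [e]
      _ = (a * w * a⁻¹) * (a * c * a⁻¹) := by group
      _ = w * (w * c) := by rw [e, hwc a, mul_inv_cancel_right]
  rw [h1, h2, e]
  calc w * (w * c) * (w * c) * c = w * w * (c * w) * c * c := by group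
    _ = w ^ 3 * c ^ 3 := by rw [hwc c]; simp only [pow_succ, pow_zero, one_mul]; group
    _ = c ^ 3 := by rw [hw3, one_mul]

/-- A power map is a homomorphism if commutators are central and killed by it. -/
theorem mul_pow_of_comm {a b : G} (hc : ⁅b, a⁆ ∈ center G) {m : ℕ} (hm : ⁅b, a⁆ ^ (m.choose 2) = 1) :
    (a * b) ^ m = a ^ m * b ^ m := by
  set c := ⁅b, a⁆ with hcdef
  have hcc : ∀ x, Commute x c := mem_center_iff.1 hc
  have hba : ∀ k : ℕ, b ^ k * a = c ^ k * (a * b ^ k) := by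
    intro k
    induction k with
    | zero => simp
    | succ k ih =>
      calc b ^ (k + 1) * a = b * (b ^ k * a) := by rw [pow_succ']; group
        _ = (b * c ^ k) * (a * b ^ k) := by rw [ih]; group
        _ = c ^ k * ((b * a) * b ^ k) := by rw [((hcc b).pow_right k).eq]; group
        _ = c ^ k * ((c * (a * b)) * b ^ k) := by
          rw [show b * a = c * (a * b) by rw [hcdef, commutatorElement_def]; group]
        _ = (c ^ k * c) * (a * (b * b ^ k)) := by group
        _ = c ^ (k + 1) * (a * b ^ (k + 1)) := by rw [← pow_succ, ← pow_succ' b]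
  have key : ∀ k : ℕ, (a * b) ^ k = c ^ (k.choose 2) * (a ^ k * b ^ k) := by
    intro k
    induction k with
    | zero => simp
    | succ k ih =>
      calc (a * b) ^ (k + 1) = c ^ (k.choose 2) * (a ^ k * (b ^ k * a) * b) := by
            rw [pow_succ, ih]; group
        _ = c ^ (k.choose 2) * ((a ^ k * c ^ k) * (a * b ^ k) * b) := by rw [hba]; group
        _ = c ^ (k.choose 2) * (c ^ k * a ^ k * (a * b ^ k) * b) := by
              rw [((hcc (a ^ k)).pow_right k).eq]
        _ = (c ^ (k.choose 2) * c ^ k) * ((a ^ k * a) * (b ^ k * b)) := by group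
        _ = c ^ ((k + 1).choose 2) * (a ^ (k + 1) * b ^ (k + 1)) := by
              rw [show (k + 1).choose 2 = k.choose 2 + k by
                rw [Nat.choose_succ_succ, Nat.choose_one_right, add_comm], ← pow_add, ← pow_succ,
                ← pow_succ]
  rw [key, hm, one_mul]

theorem dvd_choose_two {m : ℕ} (hodd : Odd m) : m ∣ m.choose 2 := by
  obtain ⟨j, rfl⟩ := hodd
  refine ⟨j, ?_⟩
  rw [Nat.choose_two_right, show (2 * j + 1) * (2 * j + 1 - 1) = (2 * j + 1) * j * 2 by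
    rw [show 2 * j + 1 - 1 = 2 * j by omega]; ring, Nat.mul_div_cancel _ two_pos]

namespace Gen

variable {p : ℕ} {P : Set G} {T : Subgroup G}

/-- `p`-th powers when the group has class two. -/
theorem pow_le (h : Gen p P T) (hp : Odd p) (h2 : ⁅(⊤ : Subgroup G), (⊤ : Subgroup G)⁆ ≤ center G)
    (hexp : ∀ z ∈ center G, z ^ p = 1) :
    closure (Set.range fun x : G => x ^ p) ≤ closure ((fun x : G => x ^ p) '' (T : Set G)) := by
  have hom : ∀ a b : G, (a * b) ^ p = a ^ p * b ^ p := fun a b => by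
    have hc := h2 (commutator_mem_commutator (mem_top b) (mem_top a))
    obtain ⟨i, hi⟩ := dvd_choose_two hp
    exact mul_pow_of_comm hc (by rw [hi, pow_mul, hexp _ hc, one_pow])
  rw [closure_le]
  rintro _ ⟨x, rfl⟩
  show x ^ p ∈ _
  induction (h.gen.ge (mem_top x) : x ∈ closure (P ∪ T)) using closure_induction with
  | mem b hb =>
    rcases hb with hb | hb
    · rw [h.pow b hb]; exact one_mem _
    · exact subset_closure ⟨b, hb, rfl⟩
  | one => rw [one_pow]; exact one_mem _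
  | mul a b _ _ ha hb => rw [hom]; exact mul_mem ha hb
  | inv a _ ha => rw [inv_pow]; exact inv_mem ha

end Gen

/-- Generators of `℧(Φ)` for a `3`-group of class three. -/
def cubeSet (S : Subgroup G) : Set G :=
  ((fun x : G => x ^ 9) '' (S : Set G)) ∪ {y | ∃ a ∈ S, ∃ b ∈ S, ⁅a ^ 3, b⁆ = y}

/-- Class three facts for exponent three centre. -/
theorem cube_facts (h4 : ⁅⁅(⊤ : Subgroup G), (⊤ : Subgroup G)⁆, (⊤ : Subgroup G)⁆ ≤ center G)
    (hexp : ∀ z ∈ center G, z ^ 3 = 1) (a b : G) :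
    ⁅a ^ 3, b⁆ = ⁅a, b⁆ ^ 3 ∧ ⁅a, b⁆ ^ 3 ∈ center G ∧ ⁅a ^ 3, b⁆ ∈ center G := by
  have hw : ∀ u v w : G, ⁅⁅u, v⁆, w⁆ ∈ center G := fun u v w =>
    h4 (commutator_mem_commutator (commutator_mem_commutator (mem_top u) (mem_top v)) (mem_top w))
  have h1 := comm_cube_left (comm_symm_center (hw a b a)) (hexp _ (comm_symm_center (hw a b a)))
  have h2 : ⁅a, b⁆ ^ 3 ∈ center G := by
    refine mem_center_iff.2 fun y => (comm_eq_one_iff.1 ?_).symm
    rw [comm_pow_left (comm_eq_one_iff.2 ?_) 3, hexp _ (hw a b y)]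
    exact mem_center_iff.1 (hw a b y) _
  exact ⟨h1, h2, h1 ▸ h2⟩

/-- Cubing is a homomorphism modulo the centre. -/
theorem cube_mul (h4 : ⁅⁅(⊤ : Subgroup G), (⊤ : Subgroup G)⁆, (⊤ : Subgroup G)⁆ ≤ center G)
    (hexp : ∀ z ∈ center G, z ^ 3 = 1) (a b : G) :
    QuotientGroup.mk' (center G) ((a * b) ^ 3) =
      QuotientGroup.mk' (center G) (a ^ 3) * QuotientGroup.mk' (center G) (b ^ 3) := by
  set π := QuotientGroup.mk' (center G)
  simp only [map_pow, map_mul]
  refine mul_pow_of_comm (mem_center_iff.2 fun y => ?_) ?_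
  · obtain ⟨y, rfl⟩ := QuotientGroup.mk'_surjective (center G) y
    refine (comm_eq_one_iff.1 ?_).symm
    show ⁅⁅π b, π a⁆, π y⁆ = 1
    rw [← map_commutatorElement, ← map_commutatorElement]
    exact (QuotientGroup.eq_one_iff _).2 (h4 (commutator_mem_commutator
      (commutator_mem_commutator (mem_top b) (mem_top a)) (mem_top y)))
  · show ⁅π b, π a⁆ ^ 3 = 1
    rw [← map_commutatorElement, ← map_pow]
    exact (QuotientGroup.eq_one_iff _).2 (cube_facts h4 hexp b a).2.1

namespace Gen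

variable {P : Set G} {T : Subgroup G}

/-- `℧(Φ)` in class three. -/
theorem cube_le (h : Gen 3 P T) (h4 : ⁅⁅(⊤ : Subgroup G), (⊤ : Subgroup G)⁆, (⊤ : Subgroup G)⁆ ≤ center G)
    (hexp : ∀ z ∈ center G, z ^ 3 = 1) :
    closure (cubeSet (⊤ : Subgroup G)) ≤ closure (cubeSet T) := by
  set E := closure (cubeSet T) with hE
  haveI hEn : E.Normal := by
    refine ⟨fun e he g => ?_⟩
    have : E ≤ center G := by
      rw [hE, closure_le]
      rintro _ (⟨t, -, rfl⟩ | ⟨a, -, b, -, rfl⟩)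
      · refine mem_center_iff.2 fun y => (comm_eq_one_iff.1 ?_).symm
        show ⁅t ^ 9, y⁆ = 1
        obtain ⟨-, -, h3⟩ := cube_facts h4 hexp t y
        rw [show 9 = 3 * 3 from rfl, pow_mul,
          comm_pow_left (comm_eq_one_iff.2 (mem_center_iff.1 h3 _)) 3, hexp _ h3]
      · exact (cube_facts h4 hexp a b).2.2
    rw [mem_center_iff.1 (this he) g, mul_inv_cancel_right]
    exact he
  -- every cube is a cube from `T`, up to the centre
  have hcube : ∀ x : G, ∃ t ∈ T, QuotientGroup.mk' (center G) (x ^ 3) =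
      QuotientGroup.mk' (center G) (t ^ 3) := by
    intro x
    induction (h.gen.ge (mem_top x) : x ∈ closure (P ∪ T)) using closure_induction with
    | mem b hb =>
      rcases hb with hb | hb
      · exact ⟨1, one_mem _, by rw [h.pow b hb, one_pow]⟩
      · exact ⟨b, hb, rfl⟩
    | one => exact ⟨1, one_mem _, rfl⟩
    | mul a b _ _ ha hb =>
      obtain ⟨s, hs, es⟩ := ha
      obtain ⟨t, ht, et⟩ := hb
      exact ⟨s * t, mul_mem hs ht, by rw [cube_mul h4 hexp, cube_mul h4 hexp, es, et]⟩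
    | inv a _ ha =>
      obtain ⟨s, hs, es⟩ := ha
      exact ⟨s⁻¹, inv_mem hs, by rw [inv_pow, inv_pow, map_inv, map_inv, es]⟩
  have hsplit : ∀ x : G, ∃ t ∈ T, ∃ z ∈ center G, x ^ 3 = z * t ^ 3 := fun x => by
    obtain ⟨t, ht, e⟩ := hcube x
    refine ⟨t, ht, x ^ 3 * (t ^ 3)⁻¹, ?_, (inv_mul_cancel_right _ _).symm⟩
    rw [← QuotientGroup.eq_one_iff, ← QuotientGroup.mk'_apply, map_mul, e, map_inv, mul_inv_cancel]
  rw [closure_le]
  rintro _ (⟨x, -, rfl⟩ | ⟨a, -, b, -, rfl⟩)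
  · obtain ⟨t, ht, z, hz, e⟩ := hsplit x
    show x ^ 9 ∈ E
    rw [show 9 = 3 * 3 from rfl, pow_mul, e, Commute.mul_pow (mem_center_iff.1 hz _).symm,
      hexp z hz, one_mul, ← pow_mul]
    exact subset_closure (Or.inl ⟨t, ht, rfl⟩)
  · obtain ⟨t, ht, z, hz, e⟩ := hsplit a
    show ⁅a ^ 3, b⁆ ∈ E
    rw [e, show ⁅z * t ^ 3, b⁆ = ⁅t ^ 3, b⁆ by
      simpa using comm_mul_central (b := b) (a := t ^ 3) hz (one_mem _)]
    refine comm_mem_of_gen h.gen ?_ b
    rintro c (hc | hc)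
    · rw [(cube_facts h4 hexp t c).1, hexp _ (h.central t ht c hc)]; exact one_mem _
    · exact subset_closure (Or.inr ⟨t, ht, c, hc, rfl⟩)

end Gen

end CfsgLib.LocalEven.PUPair
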