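import Mathlib.GroupTheory.Commutator.Basic
import Mathlib.GroupTheory.QuotientGroup.Basic
import Mathlib.Algebra.Module.ZMod
import Mathlib.Algebra.Module.Submodule.Basic
import Mathlib.GroupTheory.GroupAction.ConjAct

/-!
# Conjugation on a normal section
-/

set_option autoImplicit false
set_option linter.unusedSectionVars false

open Subgroup
open scoped commutatorElement

namespace CfsgLib.LocalEven.PUPair

variable {G : Type*} [Group G] (U N : Subgroup G) [U.Normal] [N.Normal]

/-- The section `U N / N`. -/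
abbrev Sec : Subgroup (G ⧸ N) := U.map (QuotientGroup.mk' N)

instance instSecNormal : (Sec U N).Normal :=
  (inferInstance : U.Normal).map _ (QuotientGroup.mk'_surjective N)

/-- Conjugation on the section. -/
def secAct : G →* MulAut (Sec U N) := MulAut.conjNormal.comp (QuotientGroup.mk' N)

variable {U N}

/-- The class of an element. -/
def secMk {u : G} (hu : u ∈ U) : Sec U N := ⟨QuotientGroup.mk' N u, mem_map_of_mem _ hu⟩

theorem secMk_surj (w : Sec U N) : ∃ (u : G) (hu : u ∈ U), secMk hu = w := by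
  obtain ⟨u, hu, e⟩ := w.2
  exact ⟨u, hu, Subtype.ext e⟩

theorem secMk_eq_one {u : G} (hu : u ∈ U) : (secMk hu : Sec U N) = 1 ↔ u ∈ N := by
  rw [Subtype.ext_iff]
  exact QuotientGroup.eq_one_iff u

theorem secMk_mul {u v : G} (hu : u ∈ U) (hv : v ∈ U) :
    (secMk (mul_mem hu hv) : Sec U N) = secMk hu * secMk hv := Subtype.ext (map_mul _ u v)

theorem conj_mem_sec {u : G} (g : G) (hu : u ∈ U) : g * u * g⁻¹ ∈ U :=
  (inferInstance : U.Normal).conj_mem u hu g

theorem comm_mem_sec {u : G} (g : G) (hu : u ∈ U) : ⁅g, u⁆ ∈ U :=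
  commutator_le_right ⊤ U (commutator_mem_commutator (mem_top g) hu)

theorem secAct_mk {u : G} (g : G) (hu : u ∈ U) :
    secAct U N g (secMk hu) = secMk (conj_mem_sec g hu) := by
  refine Subtype.ext ?_
  simp [secAct, secMk, MulAut.conjNormal_apply]

theorem secAct_eq_mul {u : G} (g : G) (hu : u ∈ U) :
    secAct U N g (secMk hu) = secMk (comm_mem_sec g hu) * secMk hu := by
  rw [secAct_mk, ← secMk_mul]
  refine Subtype.ext (congrArg (QuotientGroup.mk' N) ?_)
  rw [commutatorElement_def, inv_mul_cancel_right]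

theorem secAct_eq_iff {u : G} (g : G) (hu : u ∈ U) :
    secAct U N g (secMk hu) = secMk hu ↔ ⁅g, u⁆ ∈ N := by
  rw [secAct_eq_mul, mul_eq_right, secMk_eq_one]

theorem mem_secAct_ker {g : G} : g ∈ (secAct U N).ker ↔ ∀ u ∈ U, ⁅g, u⁆ ∈ N := by
  rw [MonoidHom.mem_ker]
  refine ⟨fun h u hu => (secAct_eq_iff g hu).1 (by rw [h]; rfl), fun h => MulEquiv.ext fun w => ?_⟩
  obtain ⟨u, hu, rfl⟩ := secMk_surj w
  exact (secAct_eq_iff g hu).2 (h u hu)

/-- An abelian section as a commutative group. -/
@[implicit_reducible]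
def secComm (h : ⁅U, U⁆ ≤ N) : CommGroup (Sec U N) :=
  { (inferInstance : Group (Sec U N)) with
    mul_comm := fun a b => by
      obtain ⟨u, hu, rfl⟩ := secMk_surj a
      obtain ⟨v, hv, rfl⟩ := secMk_surj b
      refine Subtype.ext ?_
      show QuotientGroup.mk' N u * QuotientGroup.mk' N v = QuotientGroup.mk' N v * QuotientGroup.mk' N u
      rw [← commutatorElement_eq_one_iff_mul_comm, ← map_commutatorElement]
      exact (QuotientGroup.eq_one_iff _).2 (h (commutator_mem_commutator hu hv)) }

end CfsgLib.LocalEven.PUPair
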