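import Cfsg.Agent.Lib.LocalEven.PUPair.Pairs
import Cfsg.Agent.Lib.LocalEven.PUPair.Fix
import Cfsg.Agent.Lib.LocalEven.PUPair.Sec
import Cfsg.Agent.Lib.LocalEven.PUPair.Braid
import Cfsg.Agent.Lib.LocalEven.PUPair.Nil
import Cfsg.Agent.Lib.PushingUp.Kernel

/-!
# Mutual pairs: the sections of the normal closure and the unipotent pair
-/

set_option autoImplicit false
set_option linter.style.haveILetI false
set_option linter.unusedSectionVars false

open Cfsg Subgroup CfsgLib.NoFF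
open scoped commutatorElement MatrixGroups

universe u

namespace CfsgLib.LocalEven.PUPair

open CfsgLib.PushingUp (Sit low)

variable {p : ℕ} [hp : Fact p.Prime] {H : Type u} [Group H] [Finite H]

/-- A mutual pair with its witnesses. -/
structure PD (A J : Mdl p H) where
  B : Mdl p H
  K : Mdl p H
  g : J.G
  h : A.G
  crit1 : Mdl.Crit A J B g
  crit2 : Mdl.Crit J A K h
  hB : B.V ≤ A.Q
  hK : K.V ≤ J.Q

namespace PD

variable {A J : Mdl p H}

theorem of_pair (h : Mdl.Pair A J) : Nonempty (PD A J) := by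
  obtain ⟨B, K, g, x, h1, h2, h3, h4⟩ := h
  exact ⟨⟨B, K, g, x, h1, h2, h3, h4⟩⟩

variable (d : PD A J)

/-- The other way round. -/
def symm : PD J A := ⟨d.K, d.B, d.h, d.g, d.crit2, d.crit1, d.hK, d.hB⟩

include d in
theorem pair : Mdl.Pair A J := ⟨d.B, d.K, d.g, d.h, d.crit1, d.crit2, d.hB, d.hK⟩

/-- The conjugate acting on `A`. -/
def Hh : Subgroup H := J.c d.g d.B.V

/-- The conjugate acting on `J`. -/
def Hy : Subgroup H := A.c d.h d.K.V

theorem Hh_le : d.Hh ≤ J.Q := J.c_le_Q _ d.crit1.2.1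

theorem Hy_le : d.Hy ≤ A.Q := A.c_le_Q _ d.crit2.2.1

include d in
theorem hAJ : A.V ≤ J.Q := d.crit1.1

include d in
theorem hJA : J.V ≤ A.Q := d.crit2.1

include d in
theorem ne : J.V ≠ A.V := fun h => d.crit2.2.2 (Mdl.Q_eq_of_V_eq h ▸ d.Hy_le)

theorem pow_Hh (hC : Ctx p H) {x : H} (hx : x ∈ d.Hh) : x ^ p = 1 := by
  obtain ⟨y, hy, e⟩ := J.mem_c.1 hx
  refine J.emb.inj ?_
  rw [map_pow, ← e, conj_pow, ← map_pow, d.B.pow_eq_one hC hy, map_one, mul_one, mul_inv_cancel]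

theorem comm_Hh {x y : H} (hx : x ∈ d.Hh) (hy : y ∈ d.Hh) : x * y = y * x := by
  obtain ⟨a, ha, ea⟩ := J.mem_c.1 hx
  obtain ⟨b, hb, eb⟩ := J.mem_c.1 hy
  refine J.emb.inj ?_
  rw [map_mul, map_mul, ← ea, ← eb]
  calc d.g * J.f a * d.g⁻¹ * (d.g * J.f b * d.g⁻¹) = d.g * J.f (a * b) * d.g⁻¹ := by
        rw [map_mul]; group
    _ = d.g * J.f (b * a) * d.g⁻¹ := by rw [d.B.comm_V ha hb]
    _ = _ := by rw [map_mul]; group

include d in
theorem central_RJ (hC : Ctx p H) : (Rv J.V).map A.f ≤ center A.G :=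
  Mdl.central_of_good hC (Or.inr ⟨A, J, rfl, d.pair⟩) d.ne d.hJA

theorem Rv_K (hC : Ctx p H) : Rv d.K.V = Rv J.V := by
  have h1 := Mdl.crit_R hC d.crit2
  have hJ : (Rv J.V).map A.f ≤ center A.G := d.central_RJ hC
  have hn : ((Rv J.V).map A.f).Normal :=
    ⟨fun x hx y => by rw [mem_center_iff.1 (hJ hx) y, mul_inv_cancel_right]; exact hx⟩
  rw [← A.c_inv_c d.h ((d.K.Rv_le_center hC).trans A.center_le_Q), h1,
    A.c_of_normal _ ((J.Rv_le_center hC).trans A.center_le_Q) hn]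

/-- The subgroups whose closure is studied. -/
def U₀ : Subgroup H := A.V ⊔ J.V ⊔ d.K.V

/-- The normal closure. -/
def U : Subgroup A.G := normalClosure ((d.U₀.map A.f : Subgroup A.G) : Set A.G)

instance instU : d.U.Normal := normalClosure_normal

/-- The central part of `V`. -/
def Z₁ (A : Mdl p H) : Subgroup A.G := center A.G ⊓ A.Vg

instance instZ₁ : (Z₁ A).Normal := by unfold Z₁; infer_instance

theorem U₀_le : d.U₀ ≤ A.Q ⊓ J.Q :=
  le_inf (sup_le (sup_le A.V_le_Q d.hJA) d.crit2.2.1) (sup_le (sup_le d.hAJ J.V_le_Q) d.hK)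

theorem map_U₀_le : d.U₀.map A.f ≤ d.U := le_normalClosure

theorem U_le : d.U ≤ pCore p A.G :=
  normalClosure_le_normal (by rw [← A.map_Q]; exact map_mono (d.U₀_le.trans inf_le_left))

theorem Vg_le_U : A.Vg ≤ d.U := by
  rw [← A.map_V]; exact (map_mono (le_sup_left.trans le_sup_left)).trans d.map_U₀_le

theorem Z₁_le (A : Mdl p H) : Z₁ A ≤ (center H).map A.f := by
  intro x hx
  obtain ⟨v, hv, rfl⟩ := A.map_V.ge hx.2
  exact ⟨v, mem_center_iff.2 fun y => A.emb.inj (by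
    rw [map_mul, map_mul]; exact mem_center_iff.1 hx.1 _), rfl⟩

theorem map_center_le_Vg (A : Mdl p H) : (center H).map A.f ≤ A.Vg := by
  rw [← A.map_V]; exact map_mono A.center_le_V

theorem comm_QU (hC : Ctx p H) : ⁅pCore p A.G, d.U⁆ ≤ Z₁ A := by
  have key : ⁅pCore p A.G, d.U⁆ ≤ center A.G := by
    set q := QuotientGroup.mk' (center A.G)
    have hN : ((centralizer ((pCore p A.G).map q : Set (A.G ⧸ center A.G))).comap q).Normal := by
      haveI : ((pCore p A.G).map q).Normal :=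
        A.instQn.map _ (QuotientGroup.mk'_surjective _)
      exact Subgroup.Normal.comap normal_centralizer q
    have hX : ∀ X : Subgroup H, ⁅A.Q, X⁆.map A.f ≤ center A.G →
        X.map A.f ≤ (centralizer ((pCore p A.G).map q : Set (A.G ⧸ center A.G))).comap q := by
      intro X hX
      rintro _ ⟨x, hx, rfl⟩ _ ⟨y, hy, rfl⟩
      obtain ⟨y, hy, rfl⟩ := A.map_Q.ge hy
      rw [← commutatorElement_eq_one_iff_mul_comm, ← map_commutatorElement]
      refine (QuotientGroup.eq_one_iff _).2 (hX ⟨⁅y, x⁆, commutator_mem_commutator hy hx, ?_⟩)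
      rw [map_commutatorElement]
    have hU : d.U ≤ (centralizer ((pCore p A.G).map q : Set (A.G ⧸ center A.G))).comap q := by
      refine normalClosure_le_normal ?_
      have hR : ∀ X : Subgroup H, ⁅A.Q, X⁆ ≤ Rv X := fun X => by
        rw [commutator_comm]; exact commutator_mono le_rfl le_top
      rw [SetLike.coe_subset_coe, U₀, Subgroup.map_sup, Subgroup.map_sup]
      refine sup_le (sup_le (hX _ ?_) (hX _ ?_)) (hX _ ?_)
      · rw [commutator_eq_bot_iff_le_centralizer.2 A.Q_le_cent, Subgroup.map_bot]; exact bot_le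
      · exact (map_mono (hR J.V)).trans (d.central_RJ hC)
      · exact (map_mono (hR d.K.V)).trans (by rw [d.Rv_K hC]; exact d.central_RJ hC)
    rw [commutator_le]
    intro a ha b hb
    refine (QuotientGroup.eq_one_iff _).1 ?_
    show q ⁅a, b⁆ = 1
    rw [map_commutatorElement, commutatorElement_eq_one_iff_mul_comm]
    exact hU hb _ (mem_map_of_mem q ha)
  intro x hx
  refine ⟨key hx, ?_⟩
  haveI := A.instQn
  obtain ⟨v, -, rfl⟩ := A.map_Q.ge (commutator_le_left (pCore p A.G) d.U hx)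
  exact map_center_le_Vg A ⟨v, mem_center_iff.2 fun y => A.emb.inj (by
    rw [map_mul, map_mul]; exact mem_center_iff.1 (key hx) _), rfl⟩

theorem comm_UU (hC : Ctx p H) : ⁅d.U, d.U⁆ ≤ Z₁ A :=
  (commutator_mono d.U_le le_rfl).trans (d.comm_QU hC)

theorem pow_mem_Z₁ (hC : Ctx p H) {u : A.G} (hu : u ∈ d.U) : u ^ p ∈ Z₁ A := by
  letI := secComm (U := d.U) (N := Z₁ A) (d.comm_UU hC)
  let P : Subgroup A.G :=
    { carrier := {u | u ∈ d.U ∧ u ^ p ∈ Z₁ A}
      one_mem' := ⟨one_mem _, by rw [one_pow]; exact one_mem _⟩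
      mul_mem' := fun {a b} ha hb => by
        refine ⟨mul_mem ha.1 hb.1, ?_⟩
        have h1 : (secMk (mul_mem ha.1 hb.1) : Sec d.U (Z₁ A)) ^ p = 1 := by
          have hcm : ∀ a b : Sec d.U (Z₁ A), Commute a b := fun a b => mul_comm a b
          rw [secMk_mul ha.1 hb.1, (hcm _ _).mul_pow]
          have h2 : ∀ {c : A.G} (hc : c ∈ d.U), c ^ p ∈ Z₁ A →
              (secMk hc : Sec d.U (Z₁ A)) ^ p = 1 := fun hc hcp => Subtype.ext
            (((map_pow _ _ _).symm).trans ((QuotientGroup.eq_one_iff _).2 hcp))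
          rw [h2 ha.1 ha.2, h2 hb.1 hb.2, one_mul]
        have h3 := congrArg Subtype.val h1
        exact (QuotientGroup.eq_one_iff _).1 ((map_pow _ _ _).trans h3)
      inv_mem' := fun {a} ha => ⟨inv_mem ha.1, by rw [inv_pow]; exact inv_mem ha.2⟩ }
  haveI : P.Normal := ⟨fun a ha g => ⟨conj_mem_sec g ha.1, by
    rw [conj_pow]; exact (instZ₁).conj_mem _ ha.2 g⟩⟩
  have h1 : d.U ≤ P := by
    refine normalClosure_le_normal ?_
    have hV : ∀ M : Mdl p H, M.V ≤ d.U₀ → M.V.map A.f ≤ P := by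
      rintro M hM _ ⟨v, hv, rfl⟩
      exact ⟨d.map_U₀_le (mem_map_of_mem _ (hM hv)), by
        rw [← map_pow, M.pow_eq_one hC hv, map_one]; exact one_mem _⟩
    rw [SetLike.coe_subset_coe]
    conv_lhs => rw [U₀, Subgroup.map_sup, Subgroup.map_sup]
    exact sup_le (sup_le (hV A (le_sup_left.trans le_sup_left)) (hV J (le_sup_right.trans le_sup_left)))
      (hV d.K le_sup_right)
  exact (h1 hu).2

/-- Commutators with `S` of the part inside `Q_J`. -/
theorem comm_mem_center (hC : Ctx p H) {u : A.G} (hu : u ∈ d.U) (huJ : u ∈ J.Q.map A.f) {s : A.G}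
    (hs : s ∈ (A.σ.S : Subgroup A.G)) : ⁅s, u⁆ ∈ (center H).map A.f := by
  obtain ⟨t, ht, rfl⟩ := huJ
  rw [A.mem_σ_S, ← A.emb.range] at hs
  obtain ⟨x, rfl⟩ := hs
  obtain ⟨a, ha, q, hq, rfl⟩ := Subgroup.mem_sup_of_normal_right.1
    ((Mdl.crit_sup hC d.crit1).ge (mem_top x))
  rw [← map_commutatorElement]
  refine mem_map_of_mem _ ?_
  rw [show ⁅a * q, t⁆ = a * ⁅q, t⁆ * a⁻¹ * ⁅a, t⁆ by simp only [commutatorElement_def]; group]
  refine mul_mem ((inferInstance : (center H).Normal).conj_mem _ ?_ a) (comm_symm_center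
    (A.Rv_le_center hC (Mdl.crit_comm hC d.crit1 (commutator_mem_commutator ht ha))))
  obtain ⟨z, hz, e⟩ := Z₁_le A (d.comm_QU hC (commutator_mem_commutator
    (mem_map_of_mem A.f hq |> A.map_Q.le) hu))
  rw [← map_commutatorElement] at e
  rwa [← A.emb.inj e]

theorem exists_not_ker : ∃ s ∈ (A.σ.S : Subgroup A.G), s ∉ A.φ.ker := by
  obtain ⟨x, hx⟩ := A.exists_not_mem_Q
  exact ⟨A.f x, A.f_mem x, fun h => hx (A.σ.inf_le_pCore A.ker_sup_ne_top ⟨h, A.f_mem x⟩)⟩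

/-- The section above `V` is natural. -/
theorem w_data (hC : Ctx p H) (hn : J.n ≤ A.n) : A.n = J.n ∧
    (∀ s ∈ (A.σ.S : Subgroup A.G), ∀ u ∈ d.U, ⁅s, u⁆ ∈ J.Q.map A.f) ∧
    ∃ (ρ : A.G →* SL(2, A.F)) (ψ : Sec d.U A.Vg →* Multiplicative (Fin 2 → A.F)),
      Function.Surjective ρ ∧ ρ.ker = A.φ.ker ∧ (secAct d.U A.Vg).ker = A.φ.ker ∧
      (∀ g w, Multiplicative.toAdd (ψ (secAct d.U A.Vg g w)) =
        (ρ g : Matrix (Fin 2) (Fin 2) A.F).mulVec (Multiplicative.toAdd (ψ w))) ∧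
      ∀ s ∈ (A.σ.S : Subgroup A.G), ρ s ≠ 1 → ∀ (u : A.G) (hu : u ∈ d.U),
        (ρ s : Matrix (Fin 2) (Fin 2) A.F).mulVec (Multiplicative.toAdd (ψ (secMk hu))) =
          Multiplicative.toAdd (ψ (secMk hu)) → u ∈ J.Q.map A.f := by
  classical
  letI := secComm (U := d.U) (N := A.Vg) ((d.comm_UU hC).trans inf_le_right)
  set φ := secAct d.U A.Vg
  set T : Subgroup A.G := d.U ⊓ J.Q.map A.f with hT
  have hVT : A.Vg ≤ T := le_inf d.Vg_le_U (by rw [← A.map_V]; exact map_mono d.hAJ)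
  set T2 : Subgroup (Sec d.U A.Vg) := (T.map (QuotientGroup.mk' A.Vg)).subgroupOf _ with hT2
  have hmem : ∀ {u : A.G} (hu : u ∈ d.U), (secMk hu : Sec d.U A.Vg) ∈ T2 ↔ u ∈ T := by
    intro u hu
    rw [hT2, mem_subgroupOf]
    show QuotientGroup.mk' A.Vg u ∈ T.map _ ↔ _
    rw [← mem_comap, comap_map_eq, QuotientGroup.ker_mk', sup_eq_left.2 hVT]
  have hexp : ∀ w : Sec d.U A.Vg, w ^ p = 1 := by
    intro w
    obtain ⟨u, hu, rfl⟩ := secMk_surj w
    exact Subtype.ext ((map_pow _ _ _).symm.trans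
      ((QuotientGroup.eq_one_iff _).2 (d.pow_mem_Z₁ hC hu).2))
  have hQk : pCore p A.G ≤ φ.ker := fun q hq => mem_secAct_ker.2 fun u hu =>
    (d.comm_QU hC (commutator_mem_commutator hq hu)).2
  have hfix : T2 ≤ fixp φ (A.σ.S : Subgroup A.G) := by
    intro w hw s hs
    obtain ⟨u, hu, rfl⟩ := secMk_surj w
    exact (secAct_eq_iff s hu).2
      (map_center_le_Vg A (d.comm_mem_center hC hu ((hmem hu).1 hw).2 hs))
  have hker : φ.ker ⊔ A.σ.S ≠ ⊤ := by
    intro htop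
    have hfixed : ∀ g : A.G, ∀ x ∈ d.U₀.map A.f, ⁅g, x⁆ ∈ A.Vg := by
      intro g x hx
      have hxU := d.map_U₀_le hx
      refine (secAct_eq_iff g hxU).1 ?_
      have h1 : φ.ker ⊔ A.σ.S ≤ pstab φ (zpowers (secMk hxU)) := by
        refine sup_le (fun c hc v _ => by rw [MonoidHom.mem_ker.1 hc]; rfl) fun s hs v hv => ?_
        obtain ⟨i, rfl⟩ := mem_zpowers_iff.1 hv
        rw [map_zpow, hfix ((hmem hxU).2 ⟨hxU, map_mono (d.U₀_le.trans inf_le_right) hx⟩) s hs]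
      exact h1 (htop.ge (mem_top g)) _ (mem_zpowers _)
    haveI hn' : (d.U₀.map A.f).Normal := ⟨fun x hx g => by
      rw [show g * x * g⁻¹ = ⁅g, x⁆ * x by rw [commutatorElement_def, inv_mul_cancel_right]]
      refine mul_mem ?_ hx
      have := hfixed g x hx
      rw [← A.map_V] at this
      exact map_mono (le_sup_left.trans le_sup_left) this⟩
    refine d.crit2.2.2 fun y hy => ?_
    obtain ⟨k, hk, e⟩ := A.mem_c.1 hy
    have h1 : A.f y ∈ d.U₀.map A.f :=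
      e ▸ hn'.conj_mem _ (mem_map_of_mem A.f (mem_sup_right hk)) d.h
    obtain ⟨z, hz, ez⟩ := h1
    exact A.emb.inj ez ▸ (d.U₀_le hz).2
  have hcardT2 : Nat.card T2 = Nat.card (T.map (QuotientGroup.mk' A.Vg)) :=
    Nat.card_congr (subgroupOfEquivOfLe (map_mono inf_le_left)).toEquiv
  have hcard : Nat.card (Sec d.U A.Vg) ≤ p ^ J.n * Nat.card T2 := by
    have h1 := card_eq_ker_mul_map (QuotientGroup.mk' A.Vg) d.U
    have h2 := card_eq_ker_mul_map (QuotientGroup.mk' A.Vg) T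
    rw [QuotientGroup.ker_mk', inf_eq_right.2 d.Vg_le_U] at h1
    rw [QuotientGroup.ker_mk', inf_eq_right.2 hVT, ← hcardT2] at h2
    have h3 := PLocal.card_mul_card_le_sup_inf d.U (J.Q.map A.f)
    have h4 : Nat.card (d.U ⊔ J.Q.map A.f : Subgroup A.G) ≤ p ^ J.n * Nat.card J.Q := by
      rw [← J.card_H, ← A.card_P]
      exact card_le_of_le (sup_le (d.U_le.trans A.Q_le') (by
        rw [← A.emb.range]; exact map_le_range _ _))
    rw [A.card_map J.Q, ← hT] at h3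
    have h5 : Nat.card d.U ≤ p ^ J.n * Nat.card T := by
      refine Nat.le_of_mul_le_mul_right (h3.trans ((Nat.mul_le_mul_right _ h4).trans (le_of_eq ?_)))
        (Nat.card_pos (α := J.Q))
      ring
    rw [h1, h2] at h5
    refine Nat.le_of_mul_le_mul_left (h5.trans (le_of_eq ?_)) (Nat.card_pos (α := A.Vg))
    ring
  obtain ⟨ρ, ψ, hρs, hρk, hψs, hψk, hequ, -, hquad⟩ := A.σ.natural hexp hQk hker
    ⟨PushingUp.U0 A.F, le_rfl, PushingUp.U0_ne_bot A.σ.pos A.σ.card_F, by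
      rw [Sit.mu, A.σ.pre_U0, PushingUp.card_U0 A.σ.card_F]
      exact hcard.trans (Nat.mul_le_mul (Nat.pow_le_pow_right hp.out.pos hn)
        (Nat.card_le_card_of_injective _ (Subgroup.inclusion_injective hfix)))⟩
  obtain ⟨ρV, ψV, hρVs, hρVk, -, -, -, -, -⟩ := A.natural hC
  have hkeq : ρ.ker = A.φ.ker := hρVk ▸ A.σ.ker_eq_ker hρs hρVs
    (hρk.le.trans (A.σ.normal_le_ker hker)) (hρVk.le.trans (A.σ.normal_le_ker A.ker_sup_ne_top))
  have hne : ∀ {s : A.G}, s ∉ A.φ.ker → ρ s ≠ 1 := fun hs h => hs (hkeq.le h)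
  have hfixρ : ∀ {s : A.G}, s ∈ (A.σ.S : Subgroup A.G) → ∀ {w : Sec d.U A.Vg},
      w ∈ fixp φ (A.σ.S : Subgroup A.G) →
      (ρ s : Matrix (Fin 2) (Fin 2) A.F).mulVec (Multiplicative.toAdd (ψ w)) =
        Multiplicative.toAdd (ψ w) := fun {s} hs {w} hw => by rw [← hequ, hw s hs]
  have hq : A.n = J.n := by
    obtain ⟨s, hs, hsk⟩ := exists_not_ker (A := A)
    refine le_antisymm ((Nat.pow_le_pow_iff_right hp.out.one_lt).1 ?_) hn
    exact Nat.le_of_mul_le_mul_right ((card_fixed_mul_le A.σ hψs (hne hsk)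
      fun w hw => hfixρ hs (hfix hw)).trans hcard) Nat.card_pos
  have hY : ∀ s ∈ (A.σ.S : Subgroup A.G), ρ s ≠ 1 → ∀ (u : A.G) (hu : u ∈ d.U),
      (ρ s : Matrix (Fin 2) (Fin 2) A.F).mulVec (Multiplicative.toAdd (ψ (secMk hu))) =
        Multiplicative.toAdd (ψ (secMk hu)) → u ∈ J.Q.map A.f := by
    intro s hs hs1 u hu hfu
    let Y : Subgroup (Sec d.U A.Vg) :=
      { carrier := {w | (ρ s : Matrix (Fin 2) (Fin 2) A.F).mulVec (Multiplicative.toAdd (ψ w)) =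
          Multiplicative.toAdd (ψ w)}
        one_mem' := by simp
        mul_mem' := fun {a b} ha hb => by
          simp only [Set.mem_ofPred_eq] at ha hb ⊢
          rw [map_mul, toAdd_mul, Matrix.mulVec_add, ha, hb]
        inv_mem' := fun {a} ha => by
          simp only [Set.mem_ofPred_eq] at ha ⊢
          rw [map_inv, toAdd_inv, Matrix.mulVec_neg, ha] }
    have hYT : T2 = Y := by
      refine eq_of_le_of_card_ge (fun w hw => hfixρ hs (hfix hw)) ?_
      refine Nat.le_of_mul_le_mul_left ((card_fixed_mul_le A.σ hψs hs1 fun w hw => hw).trans ?_)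
        (pow_pos hp.out.pos A.n)
      rw [hq]; exact hcard
    exact ((hmem hu).1 (hYT.ge hfu)).2
  refine ⟨hq, fun s hs u hu => ?_, ρ, ψ, hρs, hkeq, hρk ▸ hkeq, hequ, hY⟩
  obtain ⟨s₀, hs₀, hsk⟩ := exists_not_ker (A := A)
  have h1 : (secMk (comm_mem_sec s hu) : Sec d.U A.Vg) ∈ fixp φ (A.σ.S : Subgroup A.G) :=
    hquad s hs ⟨secMk hu, by
      show φ s (secMk hu) / secMk hu = _
      rw [secAct_eq_mul, mul_div_cancel_right]⟩
  exact hY s₀ hs₀ (hne hsk) _ _ (hfixρ hs₀ h1)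

include d in
theorem n_le (hC : Ctx p H) : J.n ≤ A.n := by
  by_contra h
  have := (d.symm.w_data hC (not_le.1 h).le).1
  omega

/-- The kernel on `V` acts trivially on the whole section. -/
theorem ker_act (hC : Ctx p H) {k : A.G} (hk : k ∈ A.φ.ker) {u : A.G} (hu : u ∈ d.U) :
    ⁅k, u⁆ ∈ Z₁ A := by
  obtain ⟨-, -, ρ, ψ, -, -, hsk, -, -⟩ := d.w_data hC (d.n_le hC)
  have hc : ⁅k, u⁆ ∈ A.Vg := mem_secAct_ker.1 (hsk.ge hk) u hu
  have hcomm : ⁅k, ⁅k, u⁆⁆ = 1 := by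
    rw [commutatorElement_eq_one_iff_mul_comm]
    exact (A.φ_eq_iff k ⟨_, hc⟩).1 (by rw [MonoidHom.mem_ker.1 hk]; rfl)
  have hpow : ⁅k, u⁆ ^ p = 1 := congrArg Subtype.val (A.exp_Vg hC ⟨_, hc⟩)
  obtain ⟨j, m, hm, hord⟩ := Nat.exists_eq_pow_mul_and_not_dvd (orderOf_pos k).ne' p hp.out.ne_one
  have hkm : k ^ m ∈ pCore p A.G := by
    have hp' : IsPGroup p (zpowers (k ^ m)) := by
      rw [IsPGroup.iff_card, Nat.card_zpowers]
      have h1 : orderOf (k ^ m) ∣ p ^ j := orderOf_dvd_of_pow_eq_one (by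
        rw [← pow_mul, mul_comm, ← hord, pow_orderOf_eq_one])
      obtain ⟨i, -, hi⟩ := (Nat.dvd_prime_pow hp.out).1 h1
      exact ⟨i, hi⟩
    obtain ⟨S', hS'⟩ := hp'.exists_le_sylow
    obtain ⟨g, hg⟩ := MulAction.exists_smul_eq A.G A.σ.S S'
    have h1 : k ^ m ∈ ((g • A.σ.S : Sylow p A.G) : Subgroup A.G) :=
      hg ▸ hS' (mem_zpowers _)
    obtain ⟨s, hs, e⟩ := h1
    have hsk : s ∈ A.φ.ker := by
      have h2 : g⁻¹ * k ^ m * g ∈ A.φ.ker := by
        simpa using (MonoidHom.normal_ker A.φ).conj_mem _ (pow_mem hk m) g⁻¹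
      have e' : g * s * g⁻¹ = k ^ m := e
      rw [← e'] at h2
      simpa [mul_assoc] using h2
    have e' : g * s * g⁻¹ = k ^ m := e
    rw [← e']
    exact A.instQn.conj_mem _ (A.σ.inf_le_pCore A.ker_sup_ne_top ⟨hsk, hs⟩) g
  have h2 : ⁅k, u⁆ ^ m ∈ Z₁ A := by
    rw [← comm_pow_left hcomm]; exact d.comm_QU hC (commutator_mem_commutator hkm hu)
  refine (QuotientGroup.eq_one_iff _).1 ?_
  have e1 : (QuotientGroup.mk' (Z₁ A) ⁅k, u⁆) ^ m = 1 := by
    rw [← map_pow]; exact (QuotientGroup.eq_one_iff _).2 h2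
  have e2 : (QuotientGroup.mk' (Z₁ A) ⁅k, u⁆) ^ p = 1 := by rw [← map_pow, hpow, map_one]
  exact orderOf_eq_one_iff.1 (Nat.eq_one_of_dvd_coprimes
    ((Nat.Prime.coprime_iff_not_dvd hp.out).2 hm) (orderOf_dvd_of_pow_eq_one e2)
    (orderOf_dvd_of_pow_eq_one e1))

end PD

end CfsgLib.LocalEven.PUPair
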