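import Cfsg.Agent.Lib.LocalEven.PUPair.Base

/-!
# Several pushing-up situations over the same `H`
-/

set_option autoImplicit false
set_option linter.style.haveILetI false
set_option linter.unusedSectionVars false

open Cfsg Subgroup CfsgLib.LocalEven.Baumann
open scoped commutatorElement

universe u

namespace CfsgLib.LocalEven.PUPair

variable {p : ℕ} [hp : Fact p.Prime] {H : Type u} [Group H] [Finite H]

/-- A normal `N`: `[x, y n] = [x, y]` if `x` centralises `N`. -/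
theorem commutator_sup_eq {X Y N : Subgroup H} [N.Normal] (hN : N ≤ centralizer (X : Set H)) :
    ⁅X, Y ⊔ N⁆ = ⁅X, Y⁆ := by
  refine le_antisymm (commutator_le.2 fun x hx z hz => ?_) (commutator_mono le_rfl le_sup_left)
  obtain ⟨y, hy, n, hn, rfl⟩ := Subgroup.mem_sup_of_normal_right.1 hz
  have h : x * n = n * x := hN hn x hx
  rw [show ⁅x, y * n⁆ = x * y * (n * x⁻¹ * n⁻¹) * y⁻¹ by simp only [commutatorElement_def]; group]
  rw [show n * x⁻¹ * n⁻¹ = x⁻¹ by
    calc n * x⁻¹ * n⁻¹ = n * (n * x)⁻¹ := by group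
      _ = n * (x * n)⁻¹ := by rw [h]
      _ = x⁻¹ := by group]
  exact commutator_mem_commutator hx hy

/-- A subgroup moved centrally by generators. -/
theorem normal_of_sup_eq_top {Y A B : Subgroup H} (h : A ⊔ B = ⊤)
    (hA : ∀ a ∈ A, Y.map (MulAut.conj a).toMonoidHom ≤ Y)
    (hB : ∀ b ∈ B, Y.map (MulAut.conj b).toMonoidHom ≤ Y) : Y.Normal := by
  rw [← normalizer_eq_top_iff, eq_top_iff, ← h]
  exact sup_le (fun a ha => mem_normalizer_fintype fun y hy => hA a ha ⟨y, hy, rfl⟩)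
    fun b hb => mem_normalizer_fintype fun y hy => hB b hb ⟨y, hy, rfl⟩

namespace Mdl

/-- Twisting by an automorphism of `H`. -/
def twist (M : Mdl p H) (α : H ≃* H) : Mdl p H where
  G := M.G
  grp := M.grp
  fin := M.fin
  P := M.P
  K := M.K
  F := M.F
  fld := M.fld
  ftp := M.ftp
  n := M.n
  rk := M.rk
  f := M.f.comp α.toMonoidHom
  emb := ⟨M.emb.inj.comp α.injective, by
    rw [MonoidHom.range_comp, MonoidHom.range_eq_top.2 α.surjective, ← MonoidHom.range_eq_map]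
    exact M.emb.range⟩
  nn := M.nn

theorem twist_V (M : Mdl p H) (α : H ≃* H) : (M.twist α).V = M.V.comap α.toMonoidHom := rfl

theorem twist_Q (M : Mdl p H) (α : H ≃* H) : (M.twist α).Q = M.Q.comap α.toMonoidHom := rfl

theorem commute_symm {A B : Mdl p H} (h : B.V ≤ A.Q) : A.V ≤ B.Q := by
  rw [← A.cent_V] at h
  rw [← B.cent_V]
  exact le_centralizer_iff.1 h

theorem Q_eq_of_V_eq {A B : Mdl p H} (h : A.V = B.V) : A.Q = B.Q := by
  rw [← A.cent_V, ← B.cent_V, h]

/-- Two of the subgroups `V` sharing an element outside the centre are equal. -/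
theorem eq_of_mem (hC : Ctx p H) {A B : Mdl p H} {v : H} (hA : v ∈ A.V) (hB : v ∈ B.V)
    (hv : v ∉ center H) : A.V = B.V := by
  have h : ∀ M : Mdl p H, v ∈ M.V → centralizer ({v} : Set H) = M.Q := fun M hM => by
    refine le_antisymm (fun x hx => ?_) fun x hx => ?_
    · by_contra hxQ
      exact hv (M.fpf hC hxQ hM (mem_centralizer_singleton_iff.1 hx))
    · exact mem_centralizer_singleton_iff.2 (M.Q_le_cent hx v hM).symm
  rw [← A.cent_Q hC, ← B.cent_Q hC, ← h A hA, h B hB]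

theorem V_inf_V (hC : Ctx p H) {A B : Mdl p H} (h : A.V ≠ B.V) : A.V ⊓ B.V ≤ center H :=
  fun _ hx => by_contra fun hn => h (eq_of_mem hC hx.1 hx.2 hn)

/-- Distinct commuting situations: their `Q`s generate `H`. -/
theorem sup_Q (hC : Ctx p H) {A B : Mdl p H} (hne : A.V ≠ B.V) : A.Q ⊔ B.Q = ⊤ := by
  refine Subgroup.eq_top_of_le_card _ ?_
  have h1 := PLocal.card_mul_card_le_sup_inf A.V B.V
  have h2 := PLocal.card_mul_card_le_sup_inf A.Q B.Q
  have h3 := hC.meas (A.V ⊔ B.V)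
  rw [CfsgLib.LocEven.centralizer_sup, A.cent_V, B.cent_V] at h3
  have h4 : Nat.card (A.V ⊓ B.V : Subgroup H) ≤ Nat.card (center H) := card_le_of_le (V_inf_V hC hne)
  have hpos : 0 < Nat.card H * Nat.card (center H) * Nat.card (center H) :=
    Nat.mul_pos (Nat.mul_pos Nat.card_pos Nat.card_pos) Nat.card_pos
  refine Nat.le_of_mul_le_mul_left ?_ hpos
  calc Nat.card H * Nat.card (center H) * Nat.card (center H) * Nat.card H
      = (Nat.card A.V * Nat.card A.Q) * (Nat.card B.V * Nat.card B.Q) := by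
        rw [A.meas_eq hC, B.meas_eq hC]; ring
    _ = (Nat.card A.V * Nat.card B.V) * (Nat.card A.Q * Nat.card B.Q) := by ring
    _ ≤ (Nat.card (A.V ⊔ B.V : Subgroup H) * Nat.card (center H)) *
        (Nat.card (A.Q ⊔ B.Q : Subgroup H) * Nat.card (A.Q ⊓ B.Q : Subgroup H)) :=
        Nat.mul_le_mul (h1.trans (Nat.mul_le_mul_left _ h4)) h2
    _ = Nat.card (A.V ⊔ B.V : Subgroup H) * Nat.card (A.Q ⊓ B.Q : Subgroup H) *
        (Nat.card (center H) * Nat.card (A.Q ⊔ B.Q : Subgroup H)) := by ring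
    _ ≤ Nat.card H * Nat.card (center H) *
        (Nat.card (center H) * Nat.card (A.Q ⊔ B.Q : Subgroup H)) := Nat.mul_le_mul_right _ h3
    _ = _ := by ring

theorem Rv_eq (hC : Ctx p H) {A B : Mdl p H} (hne : A.V ≠ B.V) : Rv A.V = ⁅A.V, B.Q⁆ := by
  rw [Rv, ← sup_Q hC hne, sup_comm, commutator_sup_eq A.Q_le_cent]

/-! ### Noncommuting pairs -/

section One

variable {A B : Mdl p H} (hC : Ctx p H) (h : ¬ B.V ≤ A.Q)
include hC h

theorem one_inf : B.V ⊓ A.Q ≤ center H := by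
  rintro v ⟨hv, hvA⟩
  obtain ⟨w, hw, hwB⟩ := SetLike.not_le_iff_exists.1 fun h' => h (commute_symm h')
  exact B.fpf hC hwB hv (A.Q_le_cent hvA w hw)

theorem one_card_le : Nat.card B.V ≤ Nat.card A.V := by
  have h1 := PLocal.card_mul_card_le_sup_inf B.V A.Q
  refine Nat.le_of_mul_le_mul_right (h1.trans ?_) (Nat.card_pos (α := A.Q))
  rw [A.meas_eq hC]
  exact Nat.mul_le_mul (Subgroup.card_le_card_group _) (card_le_of_le (one_inf hC h))

theorem one_sup : B.V ⊔ A.Q = ⊤ := by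
  refine Subgroup.eq_top_of_le_card _ ?_
  have h1 := PLocal.card_mul_card_le_sup_inf B.V A.Q
  have h2 := one_card_le hC (A := B) (B := A) fun h' => h (commute_symm h')
  refine Nat.le_of_mul_le_mul_right ?_ (Nat.card_pos (α := center H))
  rw [← A.meas_eq hC]
  exact (Nat.mul_le_mul_right _ h2).trans
    (h1.trans (Nat.mul_le_mul_left _ (card_le_of_le (one_inf hC h))))

theorem one_comm : ⁅A.Q, B.V⁆ ≤ center H :=
  (le_inf (commutator_le_right A.Q B.V) (commutator_le_left A.Q B.V)).trans (one_inf hC h)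

end One

/-! ### Critical triples: `A - J - B` -/

/-- `V_A` and a conjugate of `V_B` under `J` lie in `Q_J` and do not commute. -/
def Crit (A J B : Mdl p H) (g : J.G) : Prop :=
  A.V ≤ J.Q ∧ B.V ≤ J.Q ∧ ¬ J.c g B.V ≤ A.Q

section Crit

variable {A J B : Mdl p H} {g : J.G} (hC : Ctx p H) (h : Crit A J B g)
include hC h

theorem crit_symm : Crit B J A g⁻¹ := by
  refine ⟨h.2.1, h.1, fun hle => h.2.2 fun x hx => ?_⟩
  rw [← A.cent_V]
  intro a ha
  obtain ⟨y, hy, e⟩ := J.mem_c.1 hx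
  obtain ⟨b, -, eb⟩ := J.exists_conj g⁻¹ (h.1 ha)
  have h1 := congrArg J.f (B.Q_le_cent (hle (J.mem_c.2 ⟨a, ha, eb⟩)) y hy)
  rw [map_mul, map_mul, ← eb] at h1
  refine J.emb.inj ?_
  rw [map_mul, map_mul, ← e]
  calc J.f a * (g * J.f y * g⁻¹) = g * (g⁻¹ * J.f a * g⁻¹⁻¹ * J.f y) * g⁻¹ := by group
    _ = g * (J.f y * (g⁻¹ * J.f a * g⁻¹⁻¹)) * g⁻¹ := by rw [h1]
    _ = _ := by group

theorem crit_inf : J.c g B.V ⊓ A.Q ≤ J.c g (center H) := by
  obtain ⟨-, -, hn⟩ := crit_symm hC h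
  obtain ⟨w, hw, hwB⟩ := SetLike.not_le_iff_exists.1 hn
  rintro x ⟨hx, hxA⟩
  obtain ⟨v, hv, e⟩ := J.mem_c.1 hx
  refine J.mem_c.2 ⟨v, B.fpf hC hwB hv (J.emb.inj ?_), e⟩
  obtain ⟨a, ha, ea⟩ := J.mem_c.1 hw
  have h1 := congrArg J.f (A.Q_le_cent hxA a ha)
  rw [map_mul, map_mul, ← e] at h1
  rw [map_mul, map_mul, ← ea]
  calc g⁻¹ * J.f a * g⁻¹⁻¹ * J.f v = g⁻¹ * (J.f a * (g * J.f v * g⁻¹)) * g := by group
    _ = g⁻¹ * (g * J.f v * g⁻¹ * J.f a) * g := by rw [h1]
    _ = _ := by group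

theorem crit_card_le : Nat.card B.V ≤ Nat.card A.V := by
  have h1 := PLocal.card_mul_card_le_sup_inf (J.c g B.V) A.Q
  rw [J.card_c g h.2.1] at h1
  refine Nat.le_of_mul_le_mul_right (h1.trans ?_) (Nat.card_pos (α := A.Q))
  rw [A.meas_eq hC, ← J.card_c g J.center_le_Q]
  exact Nat.mul_le_mul (Subgroup.card_le_card_group _) (card_le_of_le (crit_inf hC h))

theorem crit_card : Nat.card B.V = Nat.card A.V :=
  le_antisymm (crit_card_le hC h) (crit_card_le hC (crit_symm hC h))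

theorem crit_sup : J.c g B.V ⊔ A.Q = ⊤ := by
  refine Subgroup.eq_top_of_le_card _ ?_
  have h1 := PLocal.card_mul_card_le_sup_inf (J.c g B.V) A.Q
  rw [J.card_c g h.2.1, crit_card hC h, A.meas_eq hC] at h1
  refine Nat.le_of_mul_le_mul_right (h1.trans (Nat.mul_le_mul_left _ ?_)) (Nat.card_pos (α := center H))
  rw [← J.card_c g J.center_le_Q]
  exact card_le_of_le (crit_inf hC h)

theorem crit_R_eq : Rv A.V = ⁅A.V, J.c g B.V⁆ := by
  rw [Rv, ← crit_sup hC h, commutator_sup_eq A.Q_le_cent]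

theorem crit_R : J.c g (Rv B.V) = Rv A.V := by
  rw [crit_R_eq hC (crit_symm hC h), crit_R_eq hC h,
    J.c_commutator g h.2.1 (J.c_le_Q _ h.1), J.c_c_inv g h.1, commutator_comm]

theorem crit_comm : ⁅J.Q, J.c g B.V⁆ ≤ Rv A.V := by
  rw [← crit_R hC h]
  conv_lhs => rw [← J.c_Q g]
  rw [← J.c_commutator g le_rfl h.2.1]
  refine J.c_mono g ?_
  rw [commutator_comm]
  exact commutator_mono le_rfl le_top

theorem crit_decomp : A.V ⊔ (J.Q ⊓ centralizer (J.c g B.V : Set H)) = J.Q := by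
  set Hg := J.c g B.V
  refine eq_of_le_of_card_ge (sup_le h.1 inf_le_left) ?_
  have hz : A.V ⊓ (J.Q ⊓ centralizer (Hg : Set H)) ≤ center H := by
    rintro v ⟨hv, -, hvc⟩
    obtain ⟨w, hw, hwA⟩ := SetLike.not_le_iff_exists.1 h.2.2
    exact A.fpf hC hwA hv (hvc w hw)
  have h1 := PLocal.card_mul_card_le_sup_inf A.V (J.Q ⊓ centralizer (Hg : Set H))
  have h2 : Nat.card (J.Q ⊓ centralizer (Hg : Set H) : Subgroup H) =
      Nat.card (J.Q ⊓ B.Q : Subgroup H) := by
    rw [← J.c_inf_centralizer g h.2.1, J.card_c g inf_le_left, B.cent_V]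
  have h3 := PLocal.card_mul_card_le_sup_inf J.Q B.Q
  refine Nat.le_of_mul_le_mul_left ?_ (Nat.mul_pos (Nat.card_pos (α := H)) (Nat.card_pos (α := center H)))
  calc Nat.card H * Nat.card (center H) * Nat.card J.Q
      = Nat.card J.Q * Nat.card B.Q * Nat.card B.V := by rw [← B.meas_eq hC]; ring
    _ ≤ Nat.card H * Nat.card (J.Q ⊓ B.Q : Subgroup H) * Nat.card B.V :=
        Nat.mul_le_mul_right _ (h3.trans (Nat.mul_le_mul_right _ (Subgroup.card_le_card_group _)))
    _ = Nat.card H * (Nat.card A.V * Nat.card (J.Q ⊓ centralizer (Hg : Set H) : Subgroup H)) := by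
        rw [crit_card hC h, h2]; ring
    _ ≤ Nat.card H * (Nat.card (A.V ⊔ (J.Q ⊓ centralizer (Hg : Set H)) : Subgroup H) *
        Nat.card (center H)) :=
        Nat.mul_le_mul_left _ (h1.trans (Nat.mul_le_mul_left _ (card_le_of_le hz)))
    _ = _ := by ring

end Crit

/-! ### Shift -/

/-- The shift: a conjugate inside `P₀` glues. -/
theorem shift {A K : Mdl p H} {Hc P₀ : Subgroup H} (hsup : Hc ⊔ A.Q = ⊤)
    (hcomm : ⁅P₀, Hc⁆ ≤ center H) {g : A.G}
    (hg : (A.P : Subgroup A.G) ⊔ (A.P : Subgroup A.G).map (MulAut.conj g).toMonoidHom = ⊤)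
    (hK : K.V ≤ A.Q) (hle : A.c g K.V ≤ P₀) : ((K.V ⊔ A.V).map A.f).Normal := by
  set Y := A.c g K.V ⊔ A.V with hY
  have hYQ : Y ≤ A.Q := sup_le (A.c_le_Q g hK) A.V_le_Q
  have hYn : Y.Normal := by
    refine normal_of_sup_eq_top hsup (fun x hx => ?_) fun x hx => ?_
    · rw [hY, Subgroup.map_sup]
      refine sup_le ?_ ((Subgroup.map_le_iff_le_comap.2 fun v hv => ?_).trans le_sup_right)
      · rintro _ ⟨y, hy, rfl⟩
        show x * y * x⁻¹ ∈ _
        rw [show x * y * x⁻¹ = ⁅x, y⁆ * y by rw [commutatorElement_def, inv_mul_cancel_right]]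
        refine mul_mem (mem_sup_right (A.center_le_V ?_)) (mem_sup_left hy)
        rw [← commutatorElement_inv y x]
        exact inv_mem (hcomm (commutator_mem_commutator (hle hy) hx))
      · exact (inferInstance : A.V.Normal).conj_mem v hv x
    · rw [hY, Subgroup.map_sup]
      refine sup_le_sup (le_of_eq ?_) ?_
      · obtain ⟨x', -, e⟩ := A.exists_conj g⁻¹ hx
        rw [← A.c_eq_map_conj, A.c_c _ _ hK, show A.f x * g = g * A.f x' by rw [← e]; group,
          ← A.c_c _ _ hK, A.c_eq_map_conj]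
        congr 1
        exact le_antisymm (map_le_iff_le_comap.2 fun v hv => (inferInstance : K.V.Normal).conj_mem v hv x')
          fun v hv => ⟨x'⁻¹ * v * x', by simpa using (inferInstance : K.V.Normal).conj_mem v hv x'⁻¹, by
            simp [mul_assoc]⟩
      · exact map_le_iff_le_comap.2 fun v hv => (inferInstance : A.V.Normal).conj_mem v hv x
  have hback : A.c g⁻¹ Y = K.V ⊔ A.V := by
    rw [hY, A.c_sup _ (A.c_le_Q g hK) A.V_le_Q, A.c_inv_c g hK, A.c_V]
  have hn := A.normal_of_gen hYQ hYn hg (by rw [hback]; infer_instance)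
  rwa [← hback, A.c_of_normal _ hYQ hn]

/-- If `V_K V_A` is normal then `[V_K, H]` is central. -/
theorem central_of_glued (hC : Ctx p H) {A K : Mdl p H} (hne : K.V ≠ A.V) (hK : K.V ≤ A.Q)
    (hn : ((K.V ⊔ A.V).map A.f).Normal) : (Rv K.V).map A.f ≤ center A.G := by
  have he : ⁅K.V ⊔ A.V, A.Q⁆ = Rv K.V := by
    rw [Rv_eq hC hne, commutator_comm _ A.Q, commutator_sup_eq (le_centralizer_iff.1 A.Q_le_cent),
      commutator_comm]
  refine A.le_center_of_normal (Rv_le_center K hC) ?_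
  haveI := hn
  rw [← he, Subgroup.map_commutator, A.map_Q]
  infer_instance

/-! ### Good situations -/

/-- A mutual pair. -/
def Pair (A J : Mdl p H) : Prop :=
  ∃ (B K : Mdl p H) (g : J.G) (h : A.G), Crit A J B g ∧ Crit J A K h ∧ B.V ≤ A.Q ∧ K.V ≤ J.Q

theorem Pair.symm {A J : Mdl p H} (h : Pair A J) : Pair J A := by
  obtain ⟨B, K, g, x, h1, h2, h3, h4⟩ := h
  exact ⟨K, B, x, g, h2, h1, h4, h3⟩

/-- `A` has a noncommuting partner or belongs to a mutual pair. -/
def Good (A : Mdl p H) : Prop :=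
  (∃ D : Mdl p H, ¬ D.V ≤ A.Q) ∨ ∃ A' J : Mdl p H, A'.V = A.V ∧ Pair A' J

/-- In a good situation the commutators of commuting situations are central. -/
theorem central_of_good (hC : Ctx p H) {A C : Mdl p H} (hA : Good A) (hne : C.V ≠ A.V)
    (hCA : C.V ≤ A.Q) : (Rv C.V).map A.f ≤ center A.G := by
  obtain ⟨g, hg⟩ := A.exists_gen
  rcases hA with ⟨D, hD⟩ | ⟨A', J, hV, B, K, b, h, h1, h2, -, -⟩
  · exact central_of_glued hC hne hCA
      (shift (one_sup hC hD) (one_comm hC hD) hg hCA (A.c_le_Q g hCA))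
  · have hQ := Q_eq_of_V_eq hV
    by_cases hle : A.c g C.V ≤ J.Q
    · exact central_of_glued hC hne hCA (shift (hQ ▸ crit_sup hC h1)
        ((crit_comm hC h1).trans (Rv_le_center A' hC)) hg hCA hle)
    have hc : Crit J A C g := ⟨hQ ▸ h2.1, hCA, hle⟩
    have hJ : (Rv J.V).map A.f ≤ center A.G := by
      refine A.le_center_of_gen (Rv_le_center J hC) hg ?_
      rw [← crit_R hC hc, A.c_inv_c g ((Rv_le_center C hC).trans A.center_le_Q)]
      exact Rv_le_center C hC
    have hn : ((Rv J.V).map A.f).Normal :=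
      ⟨fun x hx y => by rw [mem_center_iff.1 (hJ hx) y, mul_inv_cancel_right]; exact hx⟩
    rwa [← A.c_inv_c g ((Rv_le_center C hC).trans A.center_le_Q), crit_R hC hc,
      A.c_of_normal _ ((Rv_le_center J hC).trans A.center_le_Q) hn]

end Mdl

end CfsgLib.LocalEven.PUPair
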