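import Cfsg.Agent.Lib.LocalEven.PUPair.Choice

/-!
# The reductions: a pair of characteristic subgroups outside the exceptional class
-/

set_option autoImplicit false
set_option linter.style.haveILetI false
set_option linter.unusedSectionVars false

open Cfsg Subgroup CfsgLib.LocalEven.Baumann CfsgLib.PLoc
open scoped commutatorElement Pointwise

universe u

namespace CfsgLib.LocalEven.PUPair

variable {p : ℕ} [hp : Fact p.Prime] {H : Type u} [Group H] [Finite H]

/-- `Z(J(H))`. -/
abbrev ZJ (H : Type u) [Group H] : Subgroup H :=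
  thompsonSubgroupA H ⊓ centralizer (thompsonSubgroupA H : Set H)

/-- `C_H(Z(J(H)))`. -/
abbrev Jt (H : Type u) [Group H] : Subgroup H := centralizer ((ZJ H : Subgroup H) : Set H)

/-- The pair. -/
def FullPair (p : ℕ) [Fact p.Prime] (H : Type u) [Group H] : Prop :=
  ∃ S₁ S₂ : Subgroup H, S₁ ≠ ⊥ ∧ S₂ ≠ ⊥ ∧ S₁.Characteristic ∧ S₂.Characteristic ∧
    S₁ ≤ center H ∧ S₂ ≤ Jt H ∧ (S₂.subgroupOf (Jt H)).Characteristic ∧
    maxCentralProduct ↥S₂ = maxCentralProduct ↥(Jt H) ∧
    ∀ (G : Type u) [Group G] [Finite G] (P : Sylow p G) (K : Subgroup G) (F : Type) [Field F]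
      [Fintype F] (n : ℕ), RankOne p P K F n → ∀ f : H →* G, CLP.Emb P f →
        (S₁.map f).Normal ∨ (S₂.map f).Normal

/-- The exceptional class. -/
def Exceptional (p : ℕ) (H : Type u) [Group H] : Prop :=
  ¬ IsMulCommutative H ∧ thompsonSubgroupA H = ⊤ ∧ IsElementaryAbelian p (center H) ∧
    IsElementaryAbelian p (frattini H) ∧ (p = 2 → frattini H ≤ center H) ∧
    (p = 3 → frattini H ≤ Subgroup.upperCentralSeries H 2) ∧
    (3 < p → frattini H ≤ center H ∧ Monoid.exponent H = p) ∧
    (∃ A ∈ maxAbelianSubgroups H, IsElementaryAbelian p A) ∧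
    ∀ A ∈ maxAbelianSubgroups H, ∀ B ∈ maxAbelianSubgroups H, ∀ Q : Subgroup H,
      Nat.card A ^ 2 = Nat.card H * Nat.card (center H) ∧
      Nat.card Q * Nat.card (center ↥Q) ≤ Nat.card H * Nat.card (center H) ∧
      ((A ⊔ B : Subgroup H) : Set H) = (A : Set H) * (B : Set H) ∧
      A ⊔ B = centralizer ((A ⊓ B : Subgroup H) : Set H)

theorem thompson_char : (thompsonSubgroupA H).Characteristic := by
  refine characteristic_iff_map_le.2 fun α => ?_
  rw [thompsonSubgroupA, sSup_eq_iSup]
  simp only [Subgroup.map_iSup]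
  refine iSup₂_le fun A hA => le_iSup₂_of_le (A.map α.toMonoidHom) ?_ le_rfl
  haveI := hA.1
  exact ⟨Subgroup.map_isMulCommutative A (f := α.toMonoidHom), fun B hB => by
    rw [card_map_of_injective α.injective]; exact hA.2 B hB⟩

theorem ZJ_char : (ZJ H).Characteristic := characteristic_iff_map_eq.2 fun α => by
  rw [Subgroup.map_inf _ _ _ α.injective, ← centralizer_map_equiv,
    characteristic_iff_map_eq.1 thompson_char α]

theorem Jt_char : (Jt H).Characteristic := characteristic_iff_map_eq.2 fun α => by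
  rw [← centralizer_map_equiv, characteristic_iff_map_eq.1 ZJ_char α]

theorem center_le_Jt : center H ≤ Jt H := fun z hz x _ => mem_center_iff.1 hz x

theorem subgroupOf_char_top {J S₂ : Subgroup H} (hJ : J = ⊤) (h : S₂.Characteristic) :
    (S₂.subgroupOf J).Characteristic := by
  subst hJ
  refine characteristic_iff_comap_eq.2 fun α => ?_
  ext x
  have h1 := congrArg (fun Y : Subgroup H => ((x : H) ∈ Y))
    (characteristic_iff_comap_eq.1 h ((topEquiv.symm.trans α).trans topEquiv))
  have ex : topEquiv.symm (x : H) = x := Subtype.ext rfl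
  simpa [mem_subgroupOf, ex] using h1

theorem subgroupOf_self_char (J : Subgroup H) : (J.subgroupOf J).Characteristic := by
  rw [subgroupOf_self]; infer_instance

/-- A subgroup containing a centrally large subgroup. -/
theorem max_eq_of_cl {R S₂ : Subgroup H} (hR : IsCentrallyLarge R) (hRS : R ≤ S₂) :
    maxCentralProduct ↥S₂ = maxCentralProduct H := by
  refine le_antisymm (csSup_le' ?_) ?_
  · rintro _ ⟨X, rfl⟩
    refine le_csSup ((Set.finite_range fun X : Subgroup H =>
      Nat.card X * Nat.card (center X)).subset ?_).bddAbove ⟨X.map S₂.subtype, ?_⟩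
    · rintro _ ⟨X, rfl⟩; exact ⟨X, rfl⟩
    · rw [card_map_of_injective (subtype_injective _), Nat.card_congr
        (Subgroup.centerCongr (X.equivMapOfInjective _ (subtype_injective _))).toEquiv]
  · refine le_trans (le_of_eq hR.symm) (le_csSup ((Set.finite_range fun X : Subgroup S₂ =>
      Nat.card X * Nat.card (center X)).subset ?_).bddAbove ⟨R.subgroupOf S₂, ?_⟩)
    · rintro _ ⟨X, rfl⟩; exact ⟨X, rfl⟩
    · rw [Nat.card_congr (subgroupOfEquivOfLe hRS).toEquiv,
        Nat.card_congr (Subgroup.centerCongr (subgroupOfEquivOfLe hRS)).toEquiv]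

theorem cl_sup_centralizer {Y : Subgroup H} (hY : IsCentralizerLarge Y) :
    IsCentrallyLarge (Y ⊔ centralizer (Y : Set H)) := by
  rw [centrallyLarge_iff]
  refine ⟨(large_lattice hY (large_centralizer hY)).1, ?_⟩
  rw [CfsgLib.LocEven.centralizer_sup, large_double_centralizer hY]
  exact inf_le_right.trans le_sup_left

theorem inf_center_char {E : Subgroup H} (hE : E.Characteristic) :
    (E ⊓ center H).Characteristic := characteristic_iff_map_eq.2 fun α => by
  rw [Subgroup.map_inf _ _ _ α.injective, characteristic_iff_map_eq.1 hE α, map_center_equiv]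

theorem inf_center_ne_bot (hH : IsPGroup p H) {E : Subgroup H} (hE : E.Characteristic) (hne : E ≠ ⊥) :
    E ⊓ center H ≠ ⊥ := by
  haveI : Group.IsNilpotent H := hH.isNilpotent
  haveI := normal_of_characteristic E
  exact Transfer.inf_center_ne_bot hne

theorem map_centralizer {G : Type u} [Group G] [Finite G] {P : Sylow p G} {f : H →* G}
    (hf : CLP.Emb P f) (X : Subgroup H) :
    (centralizer (X : Set H)).map f =
      (P : Subgroup G) ⊓ centralizer ((X.map f : Subgroup G) : Set G) := by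
  refine le_antisymm ?_ fun x hx => ?_
  · rintro _ ⟨x, hx, rfl⟩
    refine ⟨hf.mem x, ?_⟩
    rintro _ ⟨y, hy, rfl⟩
    rw [← map_mul, ← map_mul, hx y hy]
  · obtain ⟨x, rfl⟩ := hf.range.ge hx.1
    exact ⟨x, fun y hy => hf.inj (by rw [map_mul, map_mul]; exact hx.2 _ ⟨y, hy, rfl⟩), rfl⟩

theorem map_le_zs {G : Type u} [Group G] [Finite G] {P : Sylow p G} {f : H →* G}
    (hf : CLP.Emb P f) {S₁ : Subgroup H} (h : S₁ ≤ center H) :
    S₁.map f ≤ (P : Subgroup G) ⊓ centralizer ((P : Subgroup G) : Set G) :=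
  (map_mono h).trans hf.map_center.le

theorem normal_of_le_center {M : Type u} [Group M] {R : Subgroup M} (h : R ≤ center M) : R.Normal :=
  ⟨fun x hx g => by rw [mem_center_iff.1 (h hx) g, mul_inv_cancel_right]; exact hx⟩

/-- `C_H(Z(J)) ≠ H`. -/
theorem pair_Jt (hH : IsPGroup p H) (hne : Jt H ≠ ⊤) : FullPair p H := by
  have hR : ⁅ZJ H, (⊤ : Subgroup H)⁆ ≠ ⊥ := fun h => hne (eq_top_iff.2 fun x _ z hz =>
    (mem_center_iff.1 (le_center_of_commutator_eq_bot h hz) x).symm)
  have hRc : (⁅ZJ H, (⊤ : Subgroup H)⁆).Characteristic := by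
    haveI := ZJ_char (H := H); infer_instance
  haveI : (ZJ H).Normal := by haveI := ZJ_char (H := H); exact normal_of_characteristic _
  refine ⟨⁅ZJ H, ⊤⁆ ⊓ center H, Jt H, inf_center_ne_bot hH hRc hR, ?_, inf_center_char hRc, Jt_char,
    inf_le_right, le_rfl, subgroupOf_self_char _, rfl, ?_⟩
  · intro h
    refine inf_center_ne_bot hH hRc hR (le_bot_iff.1 ?_)
    exact inf_le_right.trans (center_le_Jt.trans h.le)
  intro G _ _ P K F _ _ n hrk f hf
  by_cases hZ : ((P : Subgroup G) ⊓ centralizer ((P : Subgroup G) : Set G)).Normal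
  · exact Or.inl (normal_of_zs_normal hrk hZ (map_le_zs hf inf_le_right))
  have hinter := CLP.interMaxAb_eq hrk hf
  have hS₁ : (⁅ZJ H, (⊤ : Subgroup H)⁆ ⊓ center H).map f ≤ interMaxAb 0 (P : Subgroup G) := by
    rw [hinter]; exact map_mono (inf_le_left.trans (commutator_le_left _ _))
  by_cases hJ : joinMaxAb 0 (P : Subgroup G) ≤ pCore p G
  · rcases normal_or_of_join_le hrk hJ with h | h
    · right; rwa [map_centralizer hf, ← hinter]
    · exact Or.inl (h _ (map_le_zs hf inf_le_right) hS₁)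
  left
  obtain ⟨A, hA, hAQ⟩ : ∃ A, IsMaxAb 0 (P : Subgroup G) A ∧ ¬ A ≤ pCore p G := by
    by_contra hn
    push Not at hn
    exact hJ (sSup_le hn)
  have hn := commutator_normal hrk hZ hA hAQ
  set R := ⁅interMaxAb 0 (P : Subgroup G), (P : Subgroup G)⁆ with hRdef
  have hRe : R = ⁅ZJ H, (⊤ : Subgroup H)⁆.map f := by
    rw [hRdef, hinter, ← hf.range, MonoidHom.range_eq_map, ← Subgroup.map_commutator]
  haveI := hn
  refine central_of_not_le hrk (N := centralizer (R : Set G)) normal_centralizer ?_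
    (map_le_zs hf inf_le_right) (centralizer_le ?_)
  · intro h
    refine hAQ fun a ha => h ⟨hA.le ha, ?_⟩
    haveI := hA.comm
    have hle : R ≤ interMaxAb 0 (P : Subgroup G) := by
      rw [hinter, hRe]; exact map_mono (commutator_le_left _ _)
    intro r hr
    exact setLike_mul_comm (interMaxAb_le hA (hle hr)) ha
  · rw [hRe]; exact map_mono inf_le_left

/-- A minimal centrally large subgroup is nonabelian. -/
theorem pair_derived (hH : IsPGroup p H) (htop : Jt H = ⊤) {Q : Subgroup H}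
    (hQ : IsMinimalCentrallyLarge Q) (hne : ⁅Q, Q⁆ ≠ ⊥) : FullPair p H := by
  have hc := CLP.derived_characteristic hQ
  set S₂ := minimalCentrallyLargeJoin H with hS₂
  have hS₂c : S₂.Characteristic := characteristic_iff_map_le.2 fun α => by
    rw [hS₂, minimalCentrallyLargeJoin, sSup_eq_iSup]
    simp only [Subgroup.map_iSup]
    exact iSup₂_le fun R hR => le_iSup₂_of_le (R.map α.toMonoidHom)
      (CLP.mcl_of_equiv hR (R.equivMapOfInjective _ α.injective)) le_rfl
  have hQS : Q ≤ S₂ := le_sSup hQ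
  refine ⟨⁅Q, Q⁆ ⊓ center H, S₂, inf_center_ne_bot hH hc hne, fun h => hne ?_, inf_center_char hc,
    hS₂c, inf_le_right, htop ▸ le_top, subgroupOf_char_top htop hS₂c, ?_, ?_⟩
  · rw [le_bot_iff.1 (hQS.trans h.le), commutator_bot_left]
  · rw [max_eq_of_cl hQ.1 hQS, max_eq_of_cl hQ.1 (htop ▸ le_top)]
  intro G _ _ P K F _ _ n hrk f hf
  rcases CLP.derived_main hrk hf Q hQ with h | h
  · refine Or.inl ?_
    rwa [Subgroup.map_inf _ _ _ hf.inj, hf.map_center, inf_comm]
  · exact Or.inr h

section Abelian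

variable (hH : IsPGroup p H) (htop : Jt H = ⊤) {Q₀ : Subgroup H}
  (hQ₀ : IsMinimalCentrallyLarge Q₀) (hab : ⁅Q₀, Q₀⁆ = ⊥)
include hH htop hQ₀ hab

theorem maxAb_facts {A : Subgroup H} (hA : A ∈ maxAbelianSubgroups H) :
    IsCentrallyLarge A ∧ IsCentralizerLarge A ∧ centralizer (A : Set H) = A := by
  have hcomm : IsMulCommutative Q₀ := IsMulCommutative.of_setLike_mul_comm fun a ha b hb =>
    commutator_eq_bot_iff_le_centralizer.1 hab hb a ha
  have hcl := ((mcl_iff_maxAbelian hQ₀ hcomm A).2 hA).1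
  haveI := hA.1
  exact ⟨hcl, (centrallyLarge_iff.1 hcl).1, le_antisymm (centrallyLarge_iff.1 hcl).2
    fun x hx y hy => setLike_mul_comm hy hx⟩

theorem maxAb_nonempty : ∃ A : Subgroup H, A ∈ maxAbelianSubgroups H :=
  ⟨Q₀, (mcl_iff_maxAbelian hQ₀ (IsMulCommutative.of_setLike_mul_comm fun a ha b hb =>
    commutator_eq_bot_iff_le_centralizer.1 hab hb a ha) Q₀).1 hQ₀⟩

/-- `J(H) = H` and the largest measure is `|H| |Z(H)|`. -/
theorem jtop_max : thompsonSubgroupA H = ⊤ ∧
    maxCentralizerProduct H = Nat.card H * Nat.card (center H) := by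
  obtain ⟨A₀, hA₀⟩ := maxAb_nonempty hH htop hQ₀ hab
  haveI : Nonempty {A : Subgroup H // A ∈ maxAbelianSubgroups H} := ⟨⟨A₀, hA₀⟩⟩
  have hl : IsCentralizerLarge (⨆ A : {A : Subgroup H // A ∈ maxAbelianSubgroups H}, (A : Subgroup H)) :=
    large_iSup fun A => (maxAb_facts hH htop hQ₀ hab A.2).2.1
  rw [← sSup_eq_iSup', ← thompsonSubgroupA] at hl
  have hle : centralizer (thompsonSubgroupA H : Set H) ≤ center H := by
    intro x hx
    have hxA : x ∈ A₀ := (maxAb_facts hH htop hQ₀ hab hA₀).2.2.le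
      (centralizer_le (SetLike.coe_subset_coe.2 (le_sSup hA₀)) hx)
    have hxZ : x ∈ ZJ H := ⟨le_sSup hA₀ hxA, hx⟩
    exact mem_center_iff.2 fun y => ((htop.ge (mem_top y)) x hxZ).symm
  have h1 := measure_le_max (⊤ : Subgroup H)
  rw [Subgroup.card_top, Subgroup.coe_top, Subgroup.centralizer_univ] at h1
  have h2 : maxCentralizerProduct H ≤ Nat.card (thompsonSubgroupA H) * Nat.card (center H) :=
    (le_of_eq hl.symm).trans (Nat.mul_le_mul_left _
      (Nat.card_le_card_of_injective _ (inclusion_injective hle)))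
  have hJ : thompsonSubgroupA H = ⊤ :=
    Subgroup.eq_top_of_le_card _ (Nat.le_of_mul_le_mul_right (h1.trans h2) Nat.card_pos)
  refine ⟨hJ, le_antisymm ?_ h1⟩
  rw [hJ, Subgroup.card_top] at h2
  exact h2

/-- `S_Φ ≠ 1`. -/
theorem pair_frattini [Nontrivial H] (hne : frattiniOfMinimalCLJoin p H ≠ ⊥) : FullPair p H := by
  classical
  obtain ⟨-, hmax⟩ := jtop_max hH htop hQ₀ hab
  set D := frattiniOfMinimalCLJoin p H with hDdef
  have hDc : D.Characteristic := characteristic_iff_map_le.2 fun α => by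
    rw [hDdef, CLP.frattiniOfMinimalCLJoin_eq, Subgroup.map_iSup]
    refine iSup_le fun Q => ?_
    set R := (Q : Subgroup H).map α.toMonoidHom with hR
    have e := (Q : Subgroup H).equivMapOfInjective α.toMonoidHom α.injective
    refine le_iSup_of_le ⟨R, CLP.mcl_of_equiv Q.2.1 e, by
      rw [← CLP.card_omegaOneCenter_congr e]; exact Q.2.2⟩ ?_
    rw [CLP.frat_eq hH, CLP.frat_eq hH, Subgroup.map_sup, Subgroup.map_commutator,
      MonoidHom.map_closure]
    refine sup_le_sup_left (Subgroup.closure_mono ?_) _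
    rintro _ ⟨_, ⟨x, hx, rfl⟩, rfl⟩
    exact ⟨α x, mem_map_of_mem _ hx, (map_pow α x p).symm⟩
  set T := centralizer ((centralizer (D : Set H) : Subgroup H) : Set H) with hT
  have hTc : ∀ α : H ≃* H, T.map α.toMonoidHom = T := fun α => by
    rw [hT, ← centralizer_map_equiv, ← centralizer_map_equiv, characteristic_iff_map_eq.1 hDc α]
  have hS₁ := inf_center_ne_bot hH hDc hne
  set L : Set (Subgroup H) := {Y | Y ≤ T ∧ IsCentralizerLarge Y} with hL
  set Dm := sSup L with hDm
  set S₂ : Subgroup H := if L.Nonempty then Dm ⊔ centralizer (Dm : Set H) else ⊤ with hS₂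
  have hLne : L.Nonempty → IsCentralizerLarge Dm := by
    rintro ⟨Y, hY⟩
    haveI : Nonempty L := ⟨⟨Y, hY⟩⟩
    rw [hDm, sSup_eq_iSup']
    exact large_iSup fun Y => Y.2.2
  have hcl : ∃ R ≤ S₂, IsCentrallyLarge R := by
    by_cases h : L.Nonempty
    · exact ⟨_, le_of_eq (by rw [hS₂, if_pos h]), cl_sup_centralizer (hLne h)⟩
    · exact ⟨Q₀, le_of_le_of_eq le_top (by rw [hS₂, if_neg h]), hQ₀.1⟩
  have hS₂c : S₂.Characteristic := by
    by_cases h : L.Nonempty
    · rw [hS₂, if_pos h]
      have hmap : ∀ α : H ≃* H, Dm.map α.toMonoidHom ≤ Dm := fun α => by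
        rw [hDm, sSup_eq_iSup]
        simp only [Subgroup.map_iSup]
        refine iSup₂_le fun Y hY => le_iSup₂_of_le (Y.map α.toMonoidHom) ?_ le_rfl
        refine ⟨(map_mono hY.1).trans (hTc α).le, ?_⟩
        show _ = _
        rw [centralizer_map_equiv, card_map_of_injective α.injective,
          card_map_of_injective α.injective]
        exact hY.2
      refine characteristic_iff_map_le.2 fun α => ?_
      rw [Subgroup.map_sup, ← centralizer_map_equiv,
        characteristic_iff_map_eq.1 (characteristic_iff_map_le.2 hmap) α]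
    · rw [hS₂, if_neg h]; infer_instance
  obtain ⟨R, hRS, hR⟩ := hcl
  refine ⟨D ⊓ center H, S₂, hS₁, ?_, inf_center_char hDc, hS₂c, inf_le_right, htop ▸ le_top,
    subgroupOf_char_top htop hS₂c, by rw [max_eq_of_cl hR hRS, max_eq_of_cl hR (htop ▸ le_top)], ?_⟩
  · intro h
    have hRbot : R = ⊥ := le_bot_iff.1 (hRS.trans h.le)
    have h1 := (centrallyLarge_iff.1 hR).2
    rw [hRbot, Subgroup.coe_bot, le_bot_iff] at h1
    exact hS₁ (le_bot_iff.1 (fun x hx => h1.le (mem_centralizer_iff.2 fun y hy => by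
      rw [Set.mem_singleton_iff.1 hy, one_mul, mul_one])))
  intro G _ _ P K F _ _ n hrk f hf
  by_cases hZ : ((P : Subgroup G) ⊓ centralizer ((P : Subgroup G) : Set G)).Normal
  · exact Or.inl (normal_of_zs_normal hrk hZ (map_le_zs hf inf_le_right))
  let M : Mdl p H := ⟨G, _, ‹_›, P, K, F, _, _, n, hrk, f, hf, hZ⟩
  have hDn : (D.map M.f).Normal :=
    (CLP.frattini_main hrk hf (CLP.le_centralizer_inter hrk hf htop)).resolve_left hZ
  by_cases hx : ∃ x : H, x ∉ M.Q ∧ x ∈ centralizer (D : Set H)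
  · exact Or.inl (normal_of_le_center (M.le_center_of_cent hDn inf_le_left inf_le_right hx))
  push Not at hx
  right
  have hCQ : centralizer (D : Set H) ≤ M.Q := fun x hx' => not_not.1 fun h => hx x h hx'
  have hDQ : D ≤ M.Q := fun d hd => by
    haveI := hDn
    exact Solvable.le_pCore hDn ((hH.to_subgroup D).map M.f) (mem_map_of_mem _ hd)
  have hVT : M.V ≤ T := le_centralizer_iff.1 (hCQ.trans M.Q_le_cent)
  have hTQ : T ≤ M.Q := by
    rw [← M.cent_V]
    exact centralizer_le (SetLike.coe_subset_coe.2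
      ((le_centralizer_iff.1 M.Q_le_cent).trans (centralizer_le (SetLike.coe_subset_coe.2 hDQ))))
  have hVl : IsCentralizerLarge M.V := by
    refine isCentralizerLarge_of_max_le ?_
    rw [hmax, M.cent_V, M.card_H]
    obtain ⟨x, hx⟩ := M.exists_not_mem_Q
    have hle : center H ≤ centralizer ({x} : Set H) ⊓ M.V :=
      le_inf (fun z hz => mem_centralizer_singleton_iff.2 (mem_center_iff.1 hz x).symm) M.center_le_V
    have h1 : p ^ M.n * Nat.card (center H) ≤ Nat.card M.V := by
      rw [← CLP.card_mul_relIndex_eq (H := centralizer ({x} : Set H)) (K := M.V), mul_comm]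
      exact Nat.mul_le_mul (Nat.card_le_card_of_injective _ (inclusion_injective hle))
        ((CLP.setup M.rk M.emb M.nn).fix x hx)
    calc p ^ M.n * Nat.card M.Q * Nat.card (center H)
        = p ^ M.n * Nat.card (center H) * Nat.card M.Q := by ring
      _ ≤ _ := Nat.mul_le_mul_right _ h1
  have hVL : M.V ∈ L := ⟨hVT, hVl⟩
  have hne' : L.Nonempty := ⟨_, hVL⟩
  rw [hS₂, if_pos hne']
  have hDmQ : Dm ≤ M.Q := (sSup_le fun Y hY => hY.1).trans hTQ
  have hCmQ : centralizer (Dm : Set H) ≤ M.Q := by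
    rw [← M.cent_V]; exact centralizer_le (SetLike.coe_subset_coe.2 (le_sSup hVL))
  have hcC : ∀ g {Y : Subgroup H}, Y ≤ M.Q → centralizer (Y : Set H) ≤ M.Q →
      M.c g (centralizer (Y : Set H)) = M.Q ⊓ centralizer (M.c g Y : Set H) := fun g Y hY hY' => by
    rw [← M.c_inf_centralizer g hY, inf_eq_right.2 hY']
  have hcT : ∀ g, M.c g T = T := fun g => by
    have h1 : M.c g (centralizer (D : Set H)) = centralizer (D : Set H) := by
      rw [hcC g hDQ hCQ, M.c_of_normal g hDQ hDn, inf_eq_right.2 hCQ]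
    rw [hT, hcC g hCQ hTQ, h1, inf_eq_right.2 hTQ]
  have hcD : ∀ g, M.c g Dm = Dm := by
    intro g
    refine eq_of_le_of_card_ge (le_sSup ⟨?_, isCentralizerLarge_of_max_le ?_⟩) (M.card_c g hDmQ).ge
    · exact (M.c_mono g (sSup_le fun Y hY => hY.1)).trans (hcT g).le
    · rw [← (hLne hne' : _ = _), M.card_c g hDmQ, ← M.card_c g hCmQ, hcC g hDmQ hCmQ]
      exact Nat.mul_le_mul_left _ (Nat.card_le_card_of_injective _ (inclusion_injective inf_le_right))
  show ((Dm ⊔ centralizer (Dm : Set H)).map M.f).Normal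
  refine M.normal_of_c (_root_.sup_le hDmQ hCmQ) fun g => ?_
  rw [M.c_sup g hDmQ hCmQ, hcC g hDmQ hCmQ, hcD, inf_eq_right.2 hCmQ]

/-- `S_Φ = 1`. -/
theorem pair_or_exceptional_elementary [Nontrivial H] (hnc : ¬ IsMulCommutative H)
    (hbot : frattiniOfMinimalCLJoin p H = ⊥) : FullPair p H ∨ Exceptional p H := by
  obtain ⟨hJ, hmax⟩ := jtop_max hH htop hQ₀ hab
  obtain ⟨Q, hQ, hQm⟩ := CLP.exists_max_omega (P := H) p
  have hle : CLP.frat Q ≤ ⊥ := by
    rw [← hbot, CLP.frattiniOfMinimalCLJoin_eq]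
    exact le_iSup_of_le ⟨Q, hQ, hQm⟩ le_rfl
  rw [CLP.frat_eq hH, sup_le_iff] at hle
  have hA : Q ∈ maxAbelianSubgroups H := (mcl_iff_maxAbelian hQ₀
    (IsMulCommutative.of_setLike_mul_comm fun a ha b hb =>
      commutator_eq_bot_iff_le_centralizer.1 hab hb a ha) Q).1 hQ
  have hEA : IsElementaryAbelian p Q :=
    ⟨hA.1, fun x hx => mem_bot.1 (hle.2 (subset_closure ⟨x, hx, rfl⟩))⟩
  obtain ⟨-, -, hCA⟩ := maxAb_facts hH htop hQ₀ hab hA
  have hzexp : ∀ z ∈ center H, z ^ p = 1 := fun z hz =>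
    hEA.2 z (hCA.le fun y _ => mem_center_iff.1 hz y)
  have hC : Ctx p H := ⟨hH, fun Y => hmax ▸ measure_le_max Y, hzexp, hJ⟩
  rcases pair_or_small' hC with ⟨S₁, S₂, h1, h2, h3, h4, h5, h6, h7⟩ | hs
  · refine Or.inl ⟨S₁, S₂, h1, h2, h3, h4, h5, htop ▸ le_top, subgroupOf_char_top htop h4,
      h6.trans (max_eq_of_cl hQ₀.1 (htop ▸ le_top)).symm, ?_⟩
    intro G _ _ P K F _ _ n hrk f hf
    by_cases hZ : ((P : Subgroup G) ⊓ centralizer ((P : Subgroup G) : Set G)).Normal
    · exact Or.inl (normal_of_zs_normal hrk hZ (map_le_zs hf h5))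
    exact h7 ⟨G, _, ‹_›, P, K, F, _, _, n, hrk, f, hf, hZ⟩
  right
  -- the Frattini subgroup
  have hfr := Transfer.frattini_eq_commutator_sup_pow hH
  obtain ⟨hs2, hs3, hs5⟩ := hs
  have htriv : p = 2 ∨ p = 3 ∨ 3 < p := by have := hp.out.two_le; omega
  have key : IsElementaryAbelian p (frattini H) ∧ (p = 2 → frattini H ≤ center H) ∧
      (p = 3 → frattini H ≤ Subgroup.upperCentralSeries H 2) ∧
      (3 < p → frattini H ≤ center H ∧ Monoid.exponent H = p) := by
    have mkc : ∀ {X : Subgroup H}, X ≤ center H → IsElementaryAbelian p X := fun {X} hX =>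
      ⟨IsMulCommutative.of_setLike_mul_comm fun a ha b _ => (mem_center_iff.1 (hX ha) b).symm,
        fun a ha => hzexp a (hX ha)⟩
    rcases htriv with h2 | h3 | h5'
    · have hc := le_center_of_commutator_eq_bot (hs2 h2)
      have hle' : frattini H ≤ center H := by
        rw [hfr]
        refine _root_.sup_le hc ((closure_le _).2 ?_)
        rintro _ ⟨x, rfl⟩
        refine mem_center_iff.2 fun y => (comm_eq_one_iff.1 ?_).symm
        have hxy := hc (commutator_mem_commutator (mem_top x) (mem_top y))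
        show ⁅x ^ p, y⁆ = 1
        rw [comm_pow_left (comm_eq_one_iff.2 (mem_center_iff.1 hxy _)) p, hzexp _ hxy]
      exact ⟨mkc hle', fun _ => hle', fun h => absurd h (by omega), fun h => absurd h (by omega)⟩
    · subst h3
      obtain ⟨h4, hcube⟩ := hs3 rfl
      have h3c := le_center_of_commutator_eq_bot h4
      have hbot' : ∀ y ∈ cubeSet (⊤ : Subgroup H), y = 1 := fun y hy =>
        mem_bot.1 (hcube.le (subset_closure hy))
      have hcube' : ∀ x : H, x ^ 3 ∈ center H := fun x => mem_center_iff.2 fun y =>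
        (comm_eq_one_iff.1 (hbot' _ (Or.inr ⟨x, mem_top x, y, mem_top y, rfl⟩))).symm
      have hd3 : ∀ a b : H, ⁅a, b⁆ ^ 3 = 1 := fun a b => by
        rw [← (cube_facts h3c hzexp a b).1]
        exact hbot' _ (Or.inr ⟨a, mem_top a, b, mem_top b, rfl⟩)
      have hdc : ∀ a b c e : H, Commute ⁅a, b⁆ ⁅c, e⁆ := fun a b c e => by
        have h1 : ⁅⁅a, b⁆, c⁆ ∈ center H := h3c (commutator_mem_commutator
          (commutator_mem_commutator (mem_top a) (mem_top b)) (mem_top c))
        have h2 : ⁅⁅a, b⁆, e⁆ ∈ center H := h3c (commutator_mem_commutator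
          (commutator_mem_commutator (mem_top a) (mem_top b)) (mem_top e))
        exact (comm_eq_one_iff.1 (comm_comm_eq_one h1 h2) : _).symm
      have hgen : frattini H = closure ({y | ∃ a b : H, ⁅a, b⁆ = y} ∪ Set.range fun x : H => x ^ 3) := by
        rw [hfr, Subgroup.closure_union, commutator_eq_closure]
        rfl
      have hcom : ∀ y ∈ ({y | ∃ a b : H, ⁅a, b⁆ = y} ∪ Set.range fun x : H => x ^ 3),
          ∀ z ∈ ({y | ∃ a b : H, ⁅a, b⁆ = y} ∪ Set.range fun x : H => x ^ 3), y * z = z * y := by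
        rintro _ (⟨a, b, rfl⟩ | ⟨x, rfl⟩) z hz
        · rcases hz with ⟨c, e, rfl⟩ | ⟨x', rfl⟩
          · exact (hdc a b c e).eq
          · exact mem_center_iff.1 (hcube' x') _
        · exact (mem_center_iff.1 (hcube' x) z).symm
      have hle' : frattini H ≤ Subgroup.upperCentralSeries H 2 := by
        rw [hgen, closure_le]
        intro y hy
        rw [SetLike.mem_coe, Subgroup.mem_upperCentralSeries_succ_iff]
        intro z
        rw [Subgroup.upperCentralSeries_one]
        rcases hy with ⟨a, b, rfl⟩ | ⟨x, rfl⟩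
        · exact h3c (commutator_mem_commutator
            (commutator_mem_commutator (mem_top a) (mem_top b)) (mem_top z))
        · show (x ^ 3) * z * (x ^ 3)⁻¹ * z⁻¹ ∈ center H
          rw [← mem_center_iff.1 (hcube' x) z, mul_inv_cancel_right, mul_inv_cancel]
          exact one_mem _
      refine ⟨?_, fun h => absurd h (by omega), fun _ => hle', fun h => absurd h (by omega)⟩
      haveI := Subgroup.isMulCommutative_closure hcom
      refine ⟨IsMulCommutative.of_setLike_mul_comm fun a ha b hb => ?_, fun a ha => ?_⟩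
      · rw [hgen] at ha hb
        exact setLike_mul_comm ha hb
      · rw [hgen] at ha
        induction ha using closure_induction with
        | mem y hy =>
          rcases hy with ⟨c, e, rfl⟩ | ⟨x, rfl⟩
          · exact hd3 c e
          · show (x ^ 3) ^ 3 = 1
            rw [← pow_mul]
            exact hbot' _ (Or.inl ⟨x, mem_top x, rfl⟩)
        | one => exact one_pow 3
        | mul y z hy hz ihy ihz =>
          have hyz : y * z = z * y := setLike_mul_comm hy hz
          rw [(show Commute y z from hyz).mul_pow, ihy, ihz, one_mul]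
        | inv y _ ih => rw [inv_pow, ih, inv_one]
    · obtain ⟨h4, hexp⟩ := hs5 h5'
      have hc := le_center_of_commutator_eq_bot h4
      have hle' : frattini H ≤ center H := by
        rw [hfr]
        refine _root_.sup_le hc ((closure_le _).2 ?_)
        rintro _ ⟨x, rfl⟩
        show x ^ p ∈ center H
        rw [hexp x]; exact one_mem _
      refine ⟨mkc hle', fun _ => hle', fun h => absurd h (by omega), fun _ => ⟨hle', ?_⟩⟩
      rcases (Nat.dvd_prime hp.out).1 (Monoid.exponent_dvd_of_forall_pow_eq_one hexp) with h | h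
      · exact absurd (Monoid.exp_eq_one_iff.1 h) (not_subsingleton H)
      · exact h
  obtain ⟨k1, k2, k3, k4⟩ := key
  refine ⟨hnc, hJ, ⟨inferInstance, hzexp⟩, k1, k2, k3, k4, ⟨Q, hA, hEA⟩, fun A hA B hB X => ?_⟩
  obtain ⟨-, hAl, hAc⟩ := maxAb_facts hH htop hQ₀ hab hA
  obtain ⟨-, hBl, hBc⟩ := maxAb_facts hH htop hQ₀ hab hB
  refine ⟨?_, ?_, large_sup_coe hAl hBl, ?_⟩
  · rw [← hmax, pow_two]
    conv_lhs => arg 2; rw [← hAc]
    exact hAl
  · rw [← hmax, card_center_eq_inf]
    exact (Nat.mul_le_mul_left _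
      (Nat.card_le_card_of_injective _ (inclusion_injective inf_le_right))).trans (measure_le_max X)
  · rw [large_inf_centralizer hAl hBl, hAc, hBc]

end Abelian

/-- A pair outside the exceptional class. -/
theorem pair_or_exceptional [Nontrivial H] (hH : IsPGroup p H) : FullPair p H ∨ Exceptional p H := by
  by_cases hnc : IsMulCommutative H
  · left
    have hcen : center H = ⊤ := eq_top_iff.2 fun x _ => mem_center_iff.2 fun y => mul_comm' y x
    have hJ : Jt H = ⊤ := eq_top_iff.2 (hcen.ge.trans center_le_Jt)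
    have hne : (⊤ : Subgroup H) ≠ ⊥ := top_ne_bot
    refine ⟨center H, Jt H, hcen ▸ hne, hJ ▸ hne, inferInstance, Jt_char, le_rfl, le_rfl,
      subgroupOf_self_char _, rfl, ?_⟩
    intro G _ _ P K F _ _ n hrk f hf
    refine absurd (fun x hx => ?_) (not_le_pCore hrk)
    obtain ⟨x, rfl⟩ := hf.range.ge hx
    refine hrk.charP fun y hy => ?_
    obtain ⟨y, rfl⟩ := hf.range.ge (pCore_le hrk hy)
    rw [← map_mul, ← map_mul, mul_comm' y x]
  by_cases htop : Jt H = ⊤
  swap
  · exact Or.inl (pair_Jt hH htop)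
  obtain ⟨Q, hQ⟩ := exists_minimal_cl (P := H)
  by_cases hab : ⁅Q, Q⁆ = ⊥
  swap
  · exact Or.inl (pair_derived hH htop hQ hab)
  by_cases hD : frattiniOfMinimalCLJoin p H = ⊥
  · exact pair_or_exceptional_elementary hH htop hQ hab hnc hD
  · exact Or.inl (pair_frattini hH htop hQ hab hD)

end CfsgLib.LocalEven.PUPair
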