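import Cfsg.Agent.Lib.LocalEven.PUPair.Embed

/-!
# Twisting by automorphisms of `H`; centrally large subgroups
-/

set_option autoImplicit false
set_option linter.style.haveILetI false
set_option linter.unusedSectionVars false

open Cfsg Subgroup CfsgLib.LocalEven.Baumann
open scoped commutatorElement

universe u

namespace CfsgLib.LocalEven.PUPair

variable {p : ℕ} [hp : Fact p.Prime] {H : Type u} [Group H] [Finite H]

theorem map_center_equiv (α : H ≃* H) : (center H).map α.toMonoidHom = center H :=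
  (characteristic_iff_map_eq.1 inferInstance) α

theorem centralizer_map_equiv (α : H ≃* H) (Y : Subgroup H) :
    centralizer ((Y.map α.toMonoidHom : Subgroup H) : Set H) =
      (centralizer (Y : Set H)).map α.toMonoidHom := by
  ext x
  constructor
  · intro h
    refine ⟨α.symm x, fun y hy => α.injective ?_, α.apply_symm_apply x⟩
    rw [map_mul, map_mul, α.apply_symm_apply]
    exact h _ ⟨y, hy, rfl⟩
  · rintro ⟨c, hc, rfl⟩ _ ⟨y, hy, rfl⟩
    rw [← map_mul, ← map_mul, hc y hy]

/-- `|Y| |C(Y)|` is as large as allowed. -/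
def Large (Y : Subgroup H) : Prop :=
  Nat.card H * Nat.card (center H) ≤ Nat.card Y * Nat.card (centralizer (Y : Set H))

theorem Large.map (α : H ≃* H) {Y : Subgroup H} (h : Large Y) : Large (Y.map α.toMonoidHom) := by
  rw [Large, centralizer_map_equiv, card_map_of_injective α.injective,
    card_map_of_injective α.injective]
  exact h

/-- The join of two large subgroups is large. -/
theorem Large.sup (hC : Ctx p H) {Y Y' : Subgroup H} (h : Large Y) (h' : Large Y') :
    Large (Y ⊔ Y') := by
  have h1 := PLocal.card_mul_card_le_sup_inf Y Y'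
  have h2 := PLocal.card_mul_card_le_sup_inf (centralizer (Y : Set H)) (centralizer (Y' : Set H))
  have h3 : Nat.card (centralizer (Y : Set H) ⊔ centralizer (Y' : Set H) : Subgroup H) ≤
      Nat.card (centralizer ((Y ⊓ Y' : Subgroup H) : Set H)) :=
    card_le_of_le (_root_.sup_le (centralizer_le inf_le_left) (centralizer_le inf_le_right))
  have h4 := hC.meas (Y ⊓ Y')
  have e : centralizer ((Y ⊔ Y' : Subgroup H) : Set H) =
      centralizer (Y : Set H) ⊓ centralizer (Y' : Set H) := CfsgLib.LocEven.centralizer_sup Y Y'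
  set m := Nat.card H * Nat.card (center H)
  have hm : 0 < m := Nat.mul_pos Nat.card_pos Nat.card_pos
  rw [Large, e]
  refine Nat.le_of_mul_le_mul_right ?_ hm
  calc m * m ≤ (Nat.card Y * Nat.card (centralizer (Y : Set H))) *
        (Nat.card Y' * Nat.card (centralizer (Y' : Set H))) := Nat.mul_le_mul h h'
    _ = (Nat.card Y * Nat.card Y') *
        (Nat.card (centralizer (Y : Set H)) * Nat.card (centralizer (Y' : Set H))) := by ring
    _ ≤ (Nat.card (Y ⊔ Y' : Subgroup H) * Nat.card (Y ⊓ Y' : Subgroup H)) *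
        (Nat.card (centralizer ((Y ⊓ Y' : Subgroup H) : Set H)) *
          Nat.card (centralizer (Y : Set H) ⊓ centralizer (Y' : Set H) : Subgroup H)) :=
        Nat.mul_le_mul h1 (h2.trans (Nat.mul_le_mul_right _ h3))
    _ = Nat.card (Y ⊔ Y' : Subgroup H) *
          Nat.card (centralizer (Y : Set H) ⊓ centralizer (Y' : Set H) : Subgroup H) *
        (Nat.card (Y ⊓ Y' : Subgroup H) *
          Nat.card (centralizer ((Y ⊓ Y' : Subgroup H) : Set H))) := by ring
    _ ≤ _ := Nat.mul_le_mul_left _ h4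

/-- The largest product in a subgroup containing a large subgroup and its centraliser. -/
theorem Large.max_eq (hC : Ctx p H) {Y S₂ : Subgroup H} (h : Large Y)
    (hY : Y ≤ S₂) (hY' : centralizer (Y : Set H) ≤ S₂) :
    maxCentralProduct ↥S₂ = maxCentralProduct H := by
  set C := centralizer (Y : Set H)
  set R := Y ⊔ C
  have hZR : Nat.card (Y ⊓ C : Subgroup H) ≤ Nat.card (center R) := by
    refine Nat.card_le_card_of_injective
      (fun x => ⟨⟨x.1, mem_sup_left x.2.1⟩, mem_center_iff.2 fun r => Subtype.ext ?_⟩) fun a b hab =>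
      Subtype.ext (congrArg (fun z : center R => ((z : R) : H)) hab)
    have hle : R ≤ centralizer ({(x.1 : H)} : Set H) := _root_.sup_le
      (fun y hy => mem_centralizer_singleton_iff.2 (x.2.2 y hy))
      (fun c hc => mem_centralizer_singleton_iff.2 (hc _ x.2.1).symm)
    exact mem_centralizer_singleton_iff.1 (hle r.2)
  have hR : Nat.card H * Nat.card (center H) ≤ Nat.card R * Nat.card (center R) :=
    (h.trans (PLocal.card_mul_card_le_sup_inf Y C)).trans (Nat.mul_le_mul_left _ hZR)
  have hb : ∀ X : Subgroup H, Nat.card X * Nat.card (center X) ≤ Nat.card H * Nat.card (center H) := by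
    intro X
    refine le_trans (Nat.mul_le_mul_left _ ?_) (hC.meas X)
    exact Nat.card_le_card_of_injective
      (fun z => ⟨(z.1 : H), fun x hx => congrArg Subtype.val (mem_center_iff.1 z.2 ⟨x, hx⟩)⟩)
      fun a b hab => Subtype.ext (Subtype.ext (congrArg (fun w : centralizer (X : Set H) => (w : H)) hab))
  have hRS : R ≤ S₂ := _root_.sup_le hY hY'
  have e1 : maxCentralProduct H = Nat.card H * Nat.card (center H) := by
    refine le_antisymm (csSup_le' ?_) (le_trans hR (le_csSup ((Set.finite_range fun X : Subgroup H =>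
      Nat.card X * Nat.card (center X)).subset ?_).bddAbove ⟨R, rfl⟩))
    · rintro _ ⟨X, rfl⟩; exact hb X
    · rintro _ ⟨X, rfl⟩; exact ⟨X, rfl⟩
  rw [e1]
  refine le_antisymm (csSup_le' ?_) (le_trans hR (le_csSup ((Set.finite_range fun X : Subgroup S₂ =>
    Nat.card X * Nat.card (center X)).subset ?_).bddAbove ⟨R.subgroupOf S₂, ?_⟩))
  · rintro _ ⟨X, rfl⟩
    refine le_trans (le_of_eq ?_) (hb (X.map S₂.subtype))
    rw [card_map_of_injective (subtype_injective _), Nat.card_congr
      (Subgroup.centerCongr (X.equivMapOfInjective _ (subtype_injective _))).toEquiv]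
  · rintro _ ⟨X, rfl⟩; exact ⟨X, rfl⟩
  · rw [Nat.card_congr (subgroupOfEquivOfLe hRS).toEquiv,
      Nat.card_congr (Subgroup.centerCongr (subgroupOfEquivOfLe hRS)).toEquiv]

namespace Mdl

theorem twist_c (M : Mdl p H) (α : H ≃* H) (g : M.G) (Y : Subgroup H) :
    (M.twist α).c g (Y.comap α.toMonoidHom) = (M.c g Y).comap α.toMonoidHom := by
  show ((((Y.comap α.toMonoidHom).map (M.f.comp α.toMonoidHom))).map
      (MulAut.conj (G := M.G) g).toMonoidHom).comap (M.f.comp α.toMonoidHom) =
    (((Y.map M.f).map (MulAut.conj g).toMonoidHom).comap M.f).comap α.toMonoidHom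
  rw [Subgroup.comap_comap, ← Subgroup.map_map, map_comap_eq_self_of_surjective]
  exact α.surjective

theorem comap_le {α : H ≃* H} {A B : Subgroup H} :
    A.comap α.toMonoidHom ≤ B.comap α.toMonoidHom ↔ A ≤ B :=
  comap_le_comap_of_surjective α.surjective

theorem Crit.twist {A J B : Mdl p H} {g : J.G} (h : Crit A J B g) (α : H ≃* H) :
    Crit (A.twist α) (J.twist α) (B.twist α) (g : (J.twist α).G) := by
  refine ⟨?_, ?_, ?_⟩
  · rw [twist_V, twist_Q]; exact comap_le.2 h.1
  · rw [twist_V, twist_Q]; exact comap_le.2 h.2.1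
  · rw [twist_V, twist_Q, twist_c, comap_le]; exact h.2.2

theorem Pair.twist {A J : Mdl p H} (h : Pair A J) (α : H ≃* H) : Pair (A.twist α) (J.twist α) := by
  obtain ⟨B, K, g, x, h1, h2, h3, h4⟩ := h
  exact ⟨B.twist α, K.twist α, g, x, h1.twist α, h2.twist α,
    by rw [twist_V, twist_Q]; exact comap_le.2 h3, by rw [twist_V, twist_Q]; exact comap_le.2 h4⟩

theorem Good.congr {A A' : Mdl p H} (h : A'.V = A.V) (hA : Good A) : Good A' := by
  rcases hA with ⟨D, hD⟩ | ⟨A'', J, hV, hP⟩
  · exact Or.inl ⟨D, by rwa [Q_eq_of_V_eq h]⟩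
  · exact Or.inr ⟨A'', J, hV.trans h.symm, hP⟩

theorem Good.twist {A : Mdl p H} (hA : Good A) (α : H ≃* H) : Good (A.twist α) := by
  rcases hA with ⟨D, hD⟩ | ⟨A'', J, hV, hP⟩
  · exact Or.inl ⟨D.twist α, by rwa [twist_V, twist_Q, comap_le]⟩
  · exact Or.inr ⟨A''.twist α, J.twist α, by rw [twist_V, twist_V, hV], hP.twist α⟩

theorem le_Q_of_normal (M : Mdl p H) (hC : Ctx p H) {T : Subgroup H} (h : (T.map M.f).Normal) :
    T ≤ M.Q := fun x hx => by
  have h1 : IsPGroup p (T.map M.f) := (hC.pg.to_subgroup T).map M.f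
  haveI := h
  exact (CfsgLib.Solvable.le_pCore h h1) (mem_map_of_mem _ hx)

/-- Normality from invariance. -/
theorem normal_of_c (M : Mdl p H) {Y : Subgroup H} (hY : Y ≤ M.Q) (h : ∀ g, M.c g Y ≤ Y) :
    (Y.map M.f).Normal :=
  ⟨fun x hx g => by
    obtain ⟨y, hy, rfl⟩ := hx
    obtain ⟨z, -, e⟩ := M.exists_conj g (hY hy)
    exact ⟨z, h g (M.mem_c.2 ⟨y, hy, e⟩), e.symm⟩⟩

end Mdl

end CfsgLib.LocalEven.PUPair
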