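import Cfsg.Agent.Lib.LocalEven.PUPair.Odd

/-!
# The unipotent pair is quadratic on the section (`p ≥ 5`)
-/

set_option autoImplicit false
set_option linter.style.haveILetI false
set_option linter.unusedSectionVars false

open Cfsg Subgroup CfsgLib.NoFF
open scoped commutatorElement MatrixGroups

universe u

namespace CfsgLib.LocalEven.PUPair.PD

open CfsgLib.PushingUp (Sit low)

variable {p : ℕ} [hp : Fact p.Prime] {H : Type u} [Group H] [Finite H] {A J : Mdl p H}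
  (d : PD A J)

/-- Quadratic on `U / V`, and on the part of `U` moved into `V`. -/
def Quad (t : A.G) : Prop :=
  (∀ u ∈ d.U, ⁅t, ⁅t, u⁆⁆ ∈ A.Vg) ∧ ∀ u ∈ d.U, ⁅t, u⁆ ∈ A.Vg → ⁅t, ⁅t, u⁆⁆ ∈ Z₁ A

theorem comm_center {s z : A.G} (hs : s ∈ (A.σ.S : Subgroup A.G)) (hz : z ∈ (center H).map A.f) :
    ⁅s, z⁆ = 1 := by
  obtain ⟨z, hz, rfl⟩ := hz
  rw [A.mem_σ_S, ← A.emb.range] at hs
  obtain ⟨x, rfl⟩ := hs
  rw [← map_commutatorElement, comm_eq_one_iff.2 (mem_center_iff.1 hz x), map_one]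

theorem quad_S (hC : Ctx p H) {s : A.G} (hs : s ∈ (A.σ.S : Subgroup A.G)) : d.Quad s := by
  obtain ⟨-, hJ, ρ, ψ, -, hρk, -, hequ, hY⟩ := d.w_data hC (d.n_le hC)
  refine ⟨fun u hu => map_center_le_Vg A
    (d.comm_mem_center hC (comm_mem_sec s hu) (hJ s hs u hu) hs), fun u hu hv => ?_⟩
  by_cases h1 : ρ s = 1
  · have hk := d.ker_act hC (hρk.le h1) hu
    rw [comm_center hs (Z₁_le A hk)]; exact one_mem _
  · have he := secAct_eq_iff (N := A.Vg) s hu
    have hfix := hY s hs h1 u hu (by rw [← hequ, he.2 hv])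
    rw [comm_center hs (d.comm_mem_center hC hu hfix hs)]; exact one_mem _

theorem quad_conj {t : A.G} (ht : d.Quad t) (w : A.G) : d.Quad (w * t * w⁻¹) := by
  have key : ∀ u, ⁅w * t * w⁻¹, u⁆ = w * ⁅t, w⁻¹ * u * w⁆ * w⁻¹ := fun u => by
    simp only [commutatorElement_def]; group
  have key2 : ∀ u, ⁅w * t * w⁻¹, ⁅w * t * w⁻¹, u⁆⁆ = w * ⁅t, ⁅t, w⁻¹ * u * w⁆⁆ * w⁻¹ :=
    fun u => by simp only [commutatorElement_def]; group
  have hu' : ∀ u ∈ d.U, w⁻¹ * u * w ∈ d.U := fun u hu => by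
    simpa using conj_mem_sec (U := d.U) w⁻¹ hu
  refine ⟨fun u hu => ?_, fun u hu hv => ?_⟩
  · rw [key2]; exact A.instVn.conj_mem _ (ht.1 _ (hu' u hu)) w
  · rw [key2]
    refine (instZ₁ (A := A)).conj_mem _ (ht.2 _ (hu' u hu) ?_) w
    have h := A.instVn.conj_mem _ hv w⁻¹
    rw [key] at h
    simpa [mul_assoc] using h

theorem act_eq (hC : Ctx p H) {a b : A.G} (h : A.φ a = A.φ b) :
    secAct d.U (Z₁ A) a = secAct d.U (Z₁ A) b := by
  rw [MonoidHom.eq_iff]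
  exact mem_secAct_ker.2 fun u hu => d.ker_act hC ((MonoidHom.eq_iff _).1 h) hu

/-- The linear algebra of a braid pair, written multiplicatively. -/
theorem quad_of_braid (h2p : p ≠ 2) (h3p : p ≠ 3) {W : Type u} [CommGroup W]
    (hexp : ∀ w : W, w ^ p = 1) (X K K₁ : MulAut W) (V : Subgroup W)
    (hXV : ∀ w ∈ V, X w / w ∈ V) (hKV : ∀ w ∈ V, K w / w ∈ V) (hK₁V : ∀ w ∈ V, K₁ w / w ∈ V)
    (hX1 : ∀ w, X (X w / w) / (X w / w) ∈ V)
    (hX2 : ∀ w, X w / w ∈ V → X (X w / w) / (X w / w) = 1)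
    (hK2 : ∀ w, K w / w ∈ V → K (K w / w) / (K w / w) = 1)
    (hK₁1 : ∀ w, K₁ (K₁ w / w) / (K₁ w / w) ∈ V)
    (hK₁2 : ∀ w, K₁ w / w ∈ V → K₁ (K₁ w / w) / (K₁ w / w) = 1)
    (hNLN : ∀ w, X (w * (K (X w / w) / (X w / w))) / (w * (K (X w / w) / (X w / w))) ∈ V)
    (hfix : ∀ w ∈ V, X w / w = 1 → K w / w = 1 → w = 1)
    (hsq : K = K₁ * K₁) (hb1 : X * K * X = K * X * K)
    (hb2 : X * X * K₁ * (X * X) = K₁ * (X * X) * K₁) :
    ∀ w, X (X w / w) / (X w / w) = 1 := by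
  haveI : Module (ZMod p) (Additive W) := AddCommGroup.zmodModule (n := p) fun y =>
    Additive.toMul.injective (by rw [toMul_nsmul, toMul_zero]; exact hexp _)
  have h2F : (2 : ZMod p) ≠ 0 := by
    intro h
    exact h2p ((Nat.prime_dvd_prime_iff_eq hp.out Nat.prime_two).1
      ((ZMod.natCast_eq_zero_iff _ _).1 (by exact_mod_cast h) : p ∣ 2))
  have h3F : (3 : ZMod p) ≠ 0 := by
    intro h
    exact h3p ((Nat.prime_dvd_prime_iff_eq hp.out Nat.prime_three).1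
      ((ZMod.natCast_eq_zero_iff _ _).1 (by exact_mod_cast h) : p ∣ 3))
  let E : MulAut W → Module.End (ZMod p) (Additive W) := fun g =>
    (MonoidHom.toAdditive g.toMonoidHom).toZModLinearMap p
  have hEmul : ∀ (g g' : MulAut W) (y : Additive W), E (g * g') y = E g (E g' y) := fun _ _ _ => rfl
  let VS : Submodule (ZMod p) (Additive W) := AddSubgroup.toZModSubmodule p (Subgroup.toAddSubgroup V)
  set N := E X - 1 with hN
  set L := E K - 1 with hL
  set L₁ := E K₁ - 1 with hL₁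
  have hexX : ∀ y, E X y = y + N y := fun y => by
    rw [hN, LinearMap.sub_apply, Module.End.one_apply, add_sub_cancel]
  have hexK : ∀ y, E K y = y + L y := fun y => by
    rw [hL, LinearMap.sub_apply, Module.End.one_apply, add_sub_cancel]
  have hexK₁ : ∀ y, E K₁ y = y + L₁ y := fun y => by
    rw [hL₁, LinearMap.sub_apply, Module.End.one_apply, add_sub_cancel]
  have hxx : ∀ y, E (X * X) y = y + (2 : ZMod p) • N y + N (N y) := fun y => by
    rw [hEmul, hexX (E X y), hexX y, map_add]; module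
  have hres := sq_zero_of_braid N L L₁ h2F h3F VS hXV hKV
    (fun y hy => hX2 _ (hXV y hy)) (fun y hy => hK2 _ (hKV y hy))
    hX1 hK₁1 hK₁V (fun y => by
      rw [← map_add]; exact hNLN y) hfix hX2
    (fun y => hK₁2 (L₁ y) (hK₁1 y))
    (fun y => by
      have h := hEmul K₁ K₁ y
      rw [← hsq, hexK, hexK₁ (E K₁ y), hexK₁ y, map_add] at h
      rw [← sub_eq_zero] at h ⊢
      rw [← h]; module)
    (fun y => by
      have h : E (X * K * X) y = E (K * X * K) y := by rw [hb1]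
      rw [hEmul, hEmul, hEmul, hEmul] at h
      simp only [hexX, hexK, map_add] at h
      rw [← sub_eq_zero] at h ⊢
      rw [← h]; module)
    (fun y => by
      have h : E (X * X * K₁ * (X * X)) y = E (K₁ * (X * X) * K₁) y := by rw [hb2]
      rw [hEmul (X * X * K₁), hEmul (X * X) K₁, hEmul (K₁ * (X * X)), hEmul K₁ (X * X)] at h
      simp only [hxx, hexK₁, map_add, map_smul] at h
      rw [← sub_eq_zero] at h ⊢
      rw [← h]
      simp only [map_add, map_smul]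
      module)
  exact hres

set_option maxHeartbeats 1000000 in
/-- The element `x` is quadratic on the whole section. -/
theorem unip (hC : Ctx p H) (h2p : p ≠ 2) (h3p : p ≠ 3) {x : A.G}
    (hxS : x ∈ (A.σ.S : Subgroup A.G)) (hxp : x ^ p = 1) (hxk : x ∉ A.φ.ker) {u : A.G}
    (hu : u ∈ d.U) : ⁅x, ⁅x, u⁆⁆ ∈ Z₁ A := by
  classical
  obtain ⟨-, -, ρW, ψW, hρWs, hρWk, -, hequW, hYW⟩ := d.w_data hC (d.n_le hC)
  obtain ⟨ρV, ψV, hρVs, hρVk, -, hψVk, hequV, -, -⟩ := A.natural hC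
  haveI : CharP A.F p := PushingUp.charP_of_card (p := p) A.σ.card_F
  have hodd : p % 2 = 1 := hp.out.eq_two_or_odd.resolve_left h2p
  set m := (p + 1) / 2 with hm
  have hmF : (2 : A.F) * (m : A.F) = 1 := by
    have h1 : ((2 * m : ℕ) : A.F) = 1 := by rw [show 2 * m = p + 1 by omega]; simp
    exact_mod_cast h1
  obtain ⟨c, hc⟩ := PushingUp.exists_upper A.σ.S A.σ.pos A.σ.card_F hρVs
  set ρc : A.G →* SL(2, A.F) := (MulAut.conj c).toMonoidHom.comp ρV with hρc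
  obtain ⟨r₀, hr₀⟩ := hc.le ⟨ρV x, mem_map_of_mem _ hxS, rfl⟩
  set r := Multiplicative.toAdd r₀ with hrdef
  have hx' : ρc x = upp r := hr₀.symm
  have hker : ∀ {a b : A.G}, ρc a = ρc b ↔ A.φ a = A.φ b := fun {a b} => by
    rw [MonoidHom.eq_iff, MonoidHom.eq_iff, ← hρVk]
    simp [hρc, MonoidHom.mem_ker, mul_inv_eq_one]
  have hr : r ≠ 0 := by
    intro h
    refine hxk ?_
    rw [MonoidHom.mem_ker, ← map_one A.φ, ← hker, hx', h, map_one]
    simp [upp]
  obtain ⟨w, hw⟩ : ∃ w, ρc w = weyl r hr :=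
    ((MulAut.conj c).surjective.comp hρVs) _
  obtain ⟨k, hk⟩ : ∃ k, k = w * x * w⁻¹ := ⟨_, rfl⟩
  obtain ⟨k₁, hk₁⟩ : ∃ k, k = w * x ^ m * w⁻¹ := ⟨_, rfl⟩
  have hkk : k = k₁ * k₁ := by
    rw [hk, hk₁, show w * x ^ m * w⁻¹ * (w * x ^ m * w⁻¹) = w * (x ^ m * x ^ m) * w⁻¹ by group,
      ← pow_add, show m + m = p + 1 by omega, pow_succ, hxp, one_mul]
  have hkp : k ^ p = 1 := by rw [hk, conj_pow, hxp, mul_one, mul_inv_cancel]
  have hk' : ρc k = low (-(r / (r * r))) := by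
    rw [hk, map_mul, map_mul, map_inv, hw, hx', weyl_conj]
  have hk₁' : ρc k₁ = low (-((m : A.F) * r / (r * r))) := by
    rw [hk₁, map_mul, map_mul, map_inv, map_pow, hw, hx', upp, PushingUp.upper_pow, weyl_conj]
  have hb1 : A.φ (x * k * x) = A.φ (k * x * k) := hker.1 (by
    simp only [map_mul, hx', hk']
    exact braid_upp_low (by field_simp))
  have hb2 : A.φ (x * x * k₁ * (x * x)) = A.φ (k₁ * (x * x) * k₁) := hker.1 (by
    simp only [map_mul, hx', hk₁', upp_mul]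
    refine braid_upp_low ?_
    field_simp
    linear_combination -hmF)
  have hqx := d.quad_S hC hxS
  have hqk : d.Quad k := hk ▸ d.quad_conj hqx w
  have hqk₁ : d.Quad k₁ := hk₁ ▸ d.quad_conj (d.quad_S hC (pow_mem hxS m)) w
  -- the braid on `U / V`
  have hP4 : ∀ v ∈ d.U, ⁅x, v * ⁅k, ⁅x, v⁆⁆⁆ ∈ A.Vg := by
    intro v hv
    have hWeq : ∀ {a b : A.G}, ρW a = ρW b ↔ A.φ a = A.φ b := fun {a b} => by
      rw [MonoidHom.eq_iff, MonoidHom.eq_iff, hρWk]
    obtain ⟨c', hc'⟩ := PushingUp.exists_upper A.σ.S A.σ.pos A.σ.card_F hρWs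
    obtain ⟨s₀, hs₀⟩ := hc'.le ⟨ρW x, mem_map_of_mem _ hxS, rfl⟩
    set r' := Multiplicative.toAdd s₀
    have hx'' : c' * ρW x * c'⁻¹ = upp r' := hs₀.symm
    have hxne : ρW x ≠ 1 := fun h => hxk (hρWk.le h)
    have hne : upp r' ≠ c' * ρW k * c'⁻¹ := by
      rw [← hx'']
      intro h
      have h1 : ρW x = ρW k := mul_left_cancel (mul_right_cancel h)
      have h2 := hker.2 (hWeq.1 h1)
      rw [hx', hk'] at h2
      exact upp_ne_low hr h2
    have hbr := hWeq.2 hb1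
    rw [map_mul, map_mul, map_mul, map_mul] at hbr
    have hent := braid_entry (p := p) (K := c' * ρW k * c'⁻¹)
      (by rw [conj_pow, ← map_pow, hkp, map_one, mul_one, mul_inv_cancel]) (by
        rw [← hx'']
        calc c' * ρW x * c'⁻¹ * (c' * ρW k * c'⁻¹) * (c' * ρW x * c'⁻¹)
            = c' * (ρW x * ρW k * ρW x) * c'⁻¹ := by group
          _ = c' * (ρW k * ρW x * ρW k) * c'⁻¹ := by rw [hbr]
          _ = _ := by group) hne
    have hψ : ∀ (g : A.G) {z : A.G} (hz : z ∈ d.U),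
        Multiplicative.toAdd (ψW (secMk (comm_mem_sec g hz))) =
          (ρW g : Matrix (Fin 2) (Fin 2) A.F).mulVec (Multiplicative.toAdd (ψW (secMk hz))) -
            Multiplicative.toAdd (ψW (secMk hz)) := fun g z hz => by
      rw [← hequW, secAct_eq_mul, map_mul, toAdd_mul, add_sub_cancel_right]
    have hv' : v * ⁅k, ⁅x, v⁆⁆ ∈ d.U := mul_mem hv (comm_mem_sec k (comm_mem_sec x hv))
    refine map_center_le_Vg A (d.comm_mem_center hC hv' (hYW x hxS hxne _ hv' ?_) hxS)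
    have hinj : Function.Injective (c' : Matrix (Fin 2) (Fin 2) A.F).mulVec := by
      intro a b hab
      have h1 := congrArg ((c'⁻¹ : SL(2, A.F)) : Matrix (Fin 2) (Fin 2) A.F).mulVec hab
      rwa [Matrix.mulVec_mulVec, Matrix.mulVec_mulVec, ← Matrix.SpecialLinearGroup.coe_mul,
        inv_mul_cancel, Matrix.SpecialLinearGroup.coe_one, Matrix.one_mulVec,
        Matrix.one_mulVec] at h1
    have htr : ∀ (M : SL(2, A.F)) (y : Fin 2 → A.F),
        (c' : Matrix (Fin 2) (Fin 2) A.F).mulVec ((M : Matrix (Fin 2) (Fin 2) A.F).mulVec y) =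
          ((c' * M * c'⁻¹ : SL(2, A.F)) : Matrix (Fin 2) (Fin 2) A.F).mulVec
            ((c' : Matrix (Fin 2) (Fin 2) A.F).mulVec y) := fun M y => by
      rw [Matrix.mulVec_mulVec, Matrix.mulVec_mulVec, ← Matrix.SpecialLinearGroup.coe_mul,
        ← Matrix.SpecialLinearGroup.coe_mul, inv_mul_cancel_right]
    refine hinj ?_
    rw [htr, hx'', secMk_mul hv (comm_mem_sec k (comm_mem_sec x hv)), map_mul, toAdd_mul,
      hψ k (comm_mem_sec x hv), hψ x hv, Matrix.mulVec_add, Matrix.mulVec_sub, htr, Matrix.mulVec_sub,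
      htr, hx'']
    exact fixed_of_entry hent _
  -- the fixed points on `V`
  have hfixV : ∀ (v : A.G) (_ : v ∈ d.U), v ∈ A.Vg → ⁅x, v⁆ ∈ Z₁ A → ⁅k, v⁆ ∈ Z₁ A → v ∈ Z₁ A := by
    intro v hv hvV h1 h2
    have hψ : ∀ g : A.G, ⁅g, v⁆ ∈ Z₁ A →
        (ρV g : Matrix (Fin 2) (Fin 2) A.F).mulVec (Multiplicative.toAdd (ψV ⟨v, hvV⟩)) =
          Multiplicative.toAdd (ψV ⟨v, hvV⟩) := by
      intro g hg
      rw [← hequV, show A.φ g ⟨v, hvV⟩ = ⟨⁅g, v⁆, hg.2⟩ * ⟨v, hvV⟩ from Subtype.ext (by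
        show ((A.φ g ⟨v, hvV⟩ : A.Vg) : A.G) = ⁅g, v⁆ * v
        rw [Mdl.φ, MulAut.conjNormal_apply, commutatorElement_def, inv_mul_cancel_right]),
        map_mul, toAdd_mul]
      have : (⟨⁅g, v⁆, hg.2⟩ : A.Vg) ∈ ψV.ker := by
        rw [hψVk, A.mem_fixp_iff]
        exact fun a _ => mem_center_iff.1 hg.1 a
      rw [MonoidHom.mem_ker.1 this, toAdd_one, zero_add]
    have hzero : (c : Matrix (Fin 2) (Fin 2) A.F).mulVec (Multiplicative.toAdd (ψV ⟨v, hvV⟩)) = 0 := by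
      have htr : ∀ g : A.G, ⁅g, v⁆ ∈ Z₁ A →
          (ρc g : Matrix (Fin 2) (Fin 2) A.F).mulVec
            ((c : Matrix (Fin 2) (Fin 2) A.F).mulVec (Multiplicative.toAdd (ψV ⟨v, hvV⟩))) =
          (c : Matrix (Fin 2) (Fin 2) A.F).mulVec (Multiplicative.toAdd (ψV ⟨v, hvV⟩)) := fun g hg => by
        rw [Matrix.mulVec_mulVec, ← Matrix.SpecialLinearGroup.coe_mul,
          show ρc g * c = c * ρV g by simp [hρc, mul_assoc],
          Matrix.SpecialLinearGroup.coe_mul, ← Matrix.mulVec_mulVec, hψ g hg]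
      exact eq_zero_of_fixed hr (by simpa using div_ne_zero hr (mul_ne_zero hr hr))
        (hx' ▸ htr x h1) (hk' ▸ htr k h2)
    have h3 := congrArg ((c⁻¹ : SL(2, A.F)) : Matrix (Fin 2) (Fin 2) A.F).mulVec hzero
    rw [Matrix.mulVec_mulVec, ← Matrix.SpecialLinearGroup.coe_mul, inv_mul_cancel,
      Matrix.SpecialLinearGroup.coe_one, Matrix.one_mulVec, Matrix.mulVec_zero] at h3
    have h4 : (⟨v, hvV⟩ : A.Vg) ∈ ψV.ker :=
      MonoidHom.mem_ker.2 (Multiplicative.toAdd.injective (by rw [h3, toAdd_one]))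
    rw [hψVk, A.mem_fixp_iff] at h4
    exact ⟨mem_center_iff.2 fun a => h4 a (mem_top a), hvV⟩
  letI := secComm (U := d.U) (N := Z₁ A) (d.comm_UU hC)
  set act := secAct d.U (Z₁ A) with hact
  set VS : Subgroup (Sec d.U (Z₁ A)) :=
    (A.Vg.map (QuotientGroup.mk' (Z₁ A))).subgroupOf (Sec d.U (Z₁ A))
  have hD : ∀ (g : A.G) {v : A.G} (hv : v ∈ d.U),
      act g (secMk hv) / secMk hv = secMk (comm_mem_sec g hv) := fun g v hv => by
    rw [hact, secAct_eq_mul, mul_div_cancel_right]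
  have hVS : ∀ {v : A.G} (hv : v ∈ d.U), (secMk hv : Sec d.U (Z₁ A)) ∈ VS ↔ v ∈ A.Vg := fun {v} hv => by
    show QuotientGroup.mk' (Z₁ A) v ∈ A.Vg.map _ ↔ _
    rw [← mem_comap, comap_map_eq, QuotientGroup.ker_mk', sup_eq_left.2 inf_le_right]
  have hpres : ∀ g, ∀ w ∈ VS, act g w / w ∈ VS := fun g w hw => by
    obtain ⟨v, hv, rfl⟩ := secMk_surj w
    rw [hD, hVS]
    exact commutator_le_right ⊤ A.Vg (commutator_mem_commutator (mem_top g) ((hVS hv).1 hw))
  have hq1 : ∀ {g}, d.Quad g → ∀ w, act g (act g w / w) / (act g w / w) ∈ VS := fun {g} hg w => by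
    obtain ⟨v, hv, rfl⟩ := secMk_surj w
    rw [hD, hD, hVS]; exact hg.1 v hv
  have hq2 : ∀ {g}, d.Quad g → ∀ w, act g w / w ∈ VS →
      act g (act g w / w) / (act g w / w) = 1 := fun {g} hg w hw => by
    obtain ⟨v, hv, rfl⟩ := secMk_surj w
    rw [hD, hVS] at hw
    rw [hD, hD, secMk_eq_one]; exact hg.2 v hv hw
  have hres := quad_of_braid (p := p) h2p h3p (W := Sec d.U (Z₁ A)) (fun w => by
      obtain ⟨v, hv, rfl⟩ := secMk_surj w
      exact Subtype.ext ((map_pow _ _ _).symm.trans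
        ((QuotientGroup.eq_one_iff _).2 (d.pow_mem_Z₁ hC hv))))
    (act x) (act k) (act k₁) VS (hpres x) (hpres k) (hpres k₁) (hq1 hqx) (hq2 hqx) (hq2 hqk)
    (hq1 hqk₁) (hq2 hqk₁) (fun w => by
      obtain ⟨v, hv, rfl⟩ := secMk_surj w
      rw [hD x hv, hD k, ← secMk_mul, hD, hVS]
      exact hP4 v hv)
    (fun w hw h1 h2 => by
      obtain ⟨v, hv, rfl⟩ := secMk_surj w
      rw [hD, secMk_eq_one] at h1 h2
      exact (secMk_eq_one hv).2 (hfixV v hv ((hVS hv).1 hw) h1 h2))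
    (by rw [hkk, map_mul])
    (by simp only [← map_mul]; exact d.act_eq hC hb1)
    (by simp only [← map_mul]; exact d.act_eq hC hb2)
    (secMk hu)
  rwa [hD, hD, secMk_eq_one] at hres

end CfsgLib.LocalEven.PUPair.PD
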